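import Cfsg.Agent.H7.Bit2

/-!
Certificates for membership, double coset decompositions and maximality in groups whose elements are
coded by natural numbers.
-/

set_option autoImplicit false
set_option linter.unusedSectionVars false

namespace Cfsg.Agent.H7.Cert

open Bit

section chk

variable (mu : ℕ → ℕ → ℕ) (X : ℕ → ℕ)

/-- value of a word written in base `4096` -/
noncomputable def evP (fuel : ℕ) : ℕ → ℕ :=
  Nat.rec (motive := fun _ => ℕ → ℕ) X (fun _ ih t => Bool.rec (motive := fun _ => ℕ)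
    (mu (X (Nat.mod t 4096)) (ih (Nat.div t 4096))) (X t) (Nat.ble t 4095)) fuel

/-- the letters of a word lie in a set -/
noncomputable def okP (k fuel : ℕ) : ℕ → Bool :=
  Nat.rec (motive := fun _ => ℕ → Bool) (bt k) (fun _ ih t => Bool.rec (motive := fun _ => Bool)
    (bt k (Nat.mod t 4096) && ih (Nat.div t 4096)) (bt k t) (Nat.ble t 4095)) fuel

/-- `y` is the value of the word `t` with letters in `k` -/
noncomputable def wordChk (k t y : ℕ) : Bool := okP k 40 t && Nat.beq y (evP mu X 40 t)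

/-- add an interval to a set -/
def ext (k s N : ℕ) : ℕ := Nat.lor k (Nat.shiftLeft (Nat.pred (Nat.pow 2 N)) s)

/-- the set with the given elements and `0` -/
def mask (gs : List ℕ) : ℕ := gs.foldr (fun j a => Nat.lor a (Nat.pow 2 j)) 1

/-- straight line program -/
noncomputable def slpChk (k s N : ℕ) (W : ℕ → ℕ) : Bool :=
  all N fun i => wordChk mu X (ext k s i) (W i) (X (Nat.add s i))

/-- coset representatives from double coset representatives -/
noncomputable def repChk (k : ℕ) (rs : List ℕ) (s N : ℕ) (W : ℕ → ℕ) : Bool :=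
  Nat.beq (X s) (X 0) && all N fun i => rs.any (Nat.beq (Nat.mod (W i) 4096)) && okP k 40 (Nat.div (W i) 4096) &&
    Nat.beq (X (Nat.add s i)) (mu (evP mu X 40 (Nat.div (W i) 4096)) (X (Nat.mod (W i) 4096)))

/-- one column of a coset table -/
noncomputable def tabChk (k s N g : ℕ) (W : ℕ → ℕ) : Bool :=
  all N fun i => Nat.blt (Nat.mod (W i) 4096) N && okP k 40 (Nat.div (W i) 4096) &&
    Nat.beq (mu (X g) (X (Nat.add s i))) (mu (X (Nat.add s (Nat.mod (W i) 4096))) (evP mu X 40 (Nat.div (W i) 4096)))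

/-- every double coset representative is trivial or generates the group -/
noncomputable def maxChk (k : ℕ) (gs rs : List ℕ) (W : ℕ → ℕ → ℕ) : Bool :=
  rs.all fun r => Nat.beq (X r) (X 0) || gs.all fun g => wordChk mu X (Nat.lor k (Nat.pow 2 r)) (W r g) (X g)

end chk

variable {M : Type*} [Monoid M]

/-- a monoid element is the value of an element of a subgroup of the units -/
def In (S : Subgroup Mˣ) (x : M) : Prop := ∃ g ∈ S, (g : M) = x

theorem In.mul {S : Subgroup Mˣ} {x y : M} : In S x → In S y → In S (x * y)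
  | ⟨g, hg, e⟩, ⟨h, hh, e'⟩ => ⟨g * h, mul_mem hg hh, by rw [Units.val_mul, e, e']⟩

theorem In.mem {S : Subgroup Mˣ} {x : Mˣ} : In S x.1 → x ∈ S
  | ⟨_, hg, e⟩ => Units.ext e ▸ hg

variable (f : ℕ → M) (X : ℕ → ℕ)

/-- all letters in `k` lie in `S` -/
def AllIn (S : Subgroup Mˣ) (k : ℕ) : Prop := ∀ j, k.testBit j → In S (f (X j))

/-- the group generated by some letters -/
def gen (gs : List ℕ) : Subgroup Mˣ := Subgroup.closure {g | ∃ j ∈ gs, (g : M) = f (X j)}

variable {f X} {mu : ℕ → ℕ → ℕ} {S S' : Subgroup Mˣ} {k k' : ℕ}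

theorem AllIn.mono (h : AllIn f X S k) (h' : S ≤ S') : AllIn f X S' k := fun j hj =>
  let ⟨g, hg, e⟩ := h j hj; ⟨g, h' hg, e⟩

theorem AllIn.or (h : AllIn f X S k) (h' : AllIn f X S k') : AllIn f X S (Nat.lor k k') := fun j hj => by
  simp only [Nat.lor_eq, Nat.testBit_or, Bool.or_eq_true] at hj
  exact hj.elim (h j) (h' j)

theorem AllIn.pow {j : ℕ} (h : In S (f (X j))) : AllIn f X S (Nat.pow 2 j) := fun i hi => by
  simp only [Nat.pow_eq, Nat.testBit_two_pow, decide_eq_true_eq] at hi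
  exact hi ▸ h

theorem allIn_mask (h0 : f (X 0) = 1) {gs : List ℕ} (h : ∀ j ∈ gs, In S (f (X j))) : AllIn f X S (mask gs) := by
  induction gs with
  | nil => exact AllIn.pow (j := 0) ⟨1, one_mem _, h0.symm⟩
  | cons j gs ih => exact (ih fun i hi => h i (List.mem_cons_of_mem _ hi)).or (.pow (h j (by simp)))

theorem allIn_gen (h0 : f (X 0) = 1) {gs : List ℕ} (h : ∀ j ∈ gs, IsUnit (f (X j))) :
    AllIn f X (gen f X gs) (mask gs) :=
  allIn_mask h0 fun j hj => ⟨(h j hj).unit, Subgroup.subset_closure ⟨j, hj, rfl⟩, rfl⟩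

theorem gen_le {gs : List ℕ} (h : ∀ j ∈ gs, In S (f (X j))) : gen f X gs ≤ S :=
  (Subgroup.closure_le _).2 fun _ ⟨j, hj, e⟩ => In.mem (e ▸ h j hj)

theorem AllIn.of_list (h : AllIn f X S k) {gs : List ℕ} (h' : gs.all (bt k) = true) :
    ∀ j ∈ gs, In S (f (X j)) := fun j hj => h j (bt_eq k j ▸ List.all_eq_true.1 h' j hj)

theorem gen_ind [Finite Mˣ] {gs : List ℕ} {P : M → Prop} (h1 : P 1)
    (h : ∀ j ∈ gs, ∀ x, P x → P (f (X j) * x)) {x : Mˣ} (hx : x ∈ gen f X gs) : P x := by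
  rw [gen, ← Subgroup.mem_toSubmonoid, Subgroup.closure_toSubmonoid_of_finite] at hx
  induction hx using Submonoid.closure_induction_left with
  | one => exact h1
  | mul_left g hg x _ ih => obtain ⟨j, hj, e⟩ := hg; rw [Units.val_mul, e]; exact h j hj _ ih

variable (hmu : ∀ a b, f (mu a b) = f a * f b)
include hmu

theorem ev_in (h : AllIn f X S k) {fuel t : ℕ} (ht : okP k fuel t = true) : In S (f (evP mu X fuel t)) := by
  induction fuel generalizing t with
  | zero => exact h t (bt_eq k t ▸ ht)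
  | succ n ih =>
    change Bool.rec (motive := fun _ => Bool) (bt k _ && okP k n _) _ _ = true at ht
    change In S (f (Bool.rec (motive := fun _ => ℕ) (mu _ (evP mu X n _)) _ _))
    cases hb : Nat.ble t 4095 <;> simp only [hb, Bool.and_eq_true, bt_eq] at ht ⊢
    · exact hmu .. ▸ (h _ ht.1).mul (ih ht.2)
    · exact h t ht

theorem word_in (h : AllIn f X S k) {t y : ℕ} (ht : wordChk mu X k t y = true) : In S (f y) := by
  simp only [wordChk, Bool.and_eq_true, Nat.beq_eq] at ht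
  exact ht.2 ▸ ev_in hmu h ht.1

theorem AllIn.slp (h : AllIn f X S k) {s N : ℕ} {W : ℕ → ℕ} (hc : slpChk mu X k s N W = true) :
    AllIn f X S (ext k s N) := by
  have := all_spec hc
  clear hc
  induction N with
  | zero => simpa [ext] using h
  | succ N ih =>
    have ih := ih fun i hi => this i (by omega)
    intro j hj
    by_cases e : j = s + N
    · exact e ▸ word_in hmu ih (this N (by omega))
    · refine ih j ?_
      simp only [ext, Nat.lor_eq, Nat.testBit_or, Nat.shiftLeft_eq', Nat.testBit_shiftLeft, Nat.pow_eq,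
        Nat.pred_eq_sub_one, Nat.testBit_two_pow_sub_one, Bool.or_eq_true, Bool.and_eq_true,
        decide_eq_true_eq] at hj ⊢
      exact hj.imp_right fun h => by omega

theorem cover [Finite Mˣ] (h0 : f (X 0) = 1) (h : AllIn f X S k) {gs rs : List ℕ} {s N : ℕ} (hN : 0 < N)
    {W : ℕ → ℕ} (h1 : repChk mu X k rs s N W = true) (h2 : ∀ g ∈ gs, ∃ W, tabChk mu X k s N g W = true)
    {x : Mˣ} (hx : x ∈ gen f X gs) : ∃ r ∈ rs, ∃ a ∈ S, ∃ b ∈ S, (x : M) = a * f (X r) * b := by
  simp only [repChk, Bool.and_eq_true, Nat.beq_eq] at h1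
  obtain ⟨i, hi, b, hb, e⟩ := gen_ind (P := fun x => ∃ i < N, ∃ b ∈ S, x = f (X (s + i)) * b)
    ⟨0, hN, 1, one_mem _, by simp [h1.1, h0]⟩ (fun g hg x ⟨i, hi, b, hb, e⟩ => by
      obtain ⟨W, hW⟩ := h2 g hg
      have := all_spec hW i hi
      simp only [Bool.and_eq_true, Nat.beq_eq, Nat.blt_eq] at this
      obtain ⟨c, hc, e'⟩ := ev_in hmu h this.1.2
      refine ⟨_, this.1.1, c * b, mul_mem hc hb, ?_⟩
      rw [e, ← mul_assoc, ← hmu, Units.val_mul, e', ← mul_assoc, ← hmu]
      exact congrArg (f · * b.1) this.2) hx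
  have := all_spec h1.2 i hi
  simp only [Bool.and_eq_true, Nat.beq_eq, List.any_eq_true] at this
  obtain ⟨⟨⟨r, hr, rfl⟩, h3⟩, h4⟩ := this
  obtain ⟨a, ha, e'⟩ := ev_in hmu h h3
  exact ⟨_, hr, a, ha, b, hb, by rw [e, e', ← hmu]; exact congrArg (f · * b.1) h4⟩

theorem covBy_gen (h0 : f (X 0) = 1) (h : AllIn f X S k) {gs rs : List ℕ} (hle : S ≤ gen f X gs)
    (hne : ¬gen f X gs ≤ S) (h1 : ∀ x ∈ gen f X gs, ∃ r ∈ rs, ∃ a ∈ S, ∃ b ∈ S, (x : M) = a * f (X r) * b)
    {W : ℕ → ℕ → ℕ} (h2 : maxChk mu X k gs rs W = true) : S ⋖ gen f X gs := by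
  refine ⟨lt_of_le_not_ge hle hne, fun T h3 h4 => ?_⟩
  obtain ⟨x, hx, hx'⟩ := SetLike.exists_of_lt h3
  obtain ⟨r, hr, a, ha, b, hb, e⟩ := h1 x (h4.le hx)
  have := List.all_eq_true.1 h2 r hr
  simp only [Bool.or_eq_true, Nat.beq_eq, List.all_eq_true] at this
  rcases this with h5 | h5
  · exact hx' (In.mem ⟨a * b, mul_mem ha hb, by simp [e, h5, h0]⟩)
  · refine h4.not_ge (gen_le fun g hg => word_in hmu ((h.mono h3.le).or (.pow ?_)) (h5 g hg))
    exact ⟨a⁻¹ * x * b⁻¹, mul_mem (mul_mem (inv_mem (h3.le ha)) hx) (inv_mem (h3.le hb)), by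
      simp [e, mul_assoc]⟩

omit hmu

/-! ### Matrices over the field with four elements coded by one number -/

open Matrix

variable {K : Type*} [CommRing K] [CharP K 2] {ω : K}
variable {ι κ μ : Type*} [Fintype ι] [Fintype κ] [Fintype μ] [DecidableEq ι] [DecidableEq κ] [DecidableEq μ]
  {n m p : ℕ}

/-- the matrix coded by a number -/
def toP (ω : K) (e : ι ≃ Fin n) (e' : κ ≃ Fin m) (A : ℕ) : Matrix ι κ K :=
  toQ ω e e' (A, Nat.shiftRight A (Nat.mul n m))

/-- the code of a pair -/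
def pk (s : ℕ) (P : ℕ × ℕ) : ℕ := Nat.xor (Nat.mod P.1 (Nat.pow 2 s)) (Nat.shiftLeft P.2 s)

/-- product of codes -/
noncomputable def mulP (n m p A B : ℕ) : ℕ := pk (Nat.mul n p)
  (mulQ n m p (A, Nat.shiftRight A (Nat.mul n m)) (B, Nat.shiftRight B (Nat.mul m p)))

theorem idx_lt (i : Fin n) (j : Fin m) : n * j + i < n * m := by
  have := i.2; have := j.2; nlinarith

theorem toP_pk (e : ι ≃ Fin n) (e' : κ ≃ Fin m) (P : ℕ × ℕ) :
    toP ω e e' (pk (Nat.mul n m) P) = toQ ω e e' P := by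
  have e1 : pk (n * m) P = (P.1 % 2 ^ (n * m)) ^^^ (P.2 <<< (n * m)) := rfl
  ext i j
  have := idx_lt (e i) (e' j)
  simp [toP, toQ, toM, bit, e1, Nat.testBit_mod_two_pow, this, this.not_ge, Nat.testBit_shiftLeft,
    (Nat.le_add_right _ _).not_gt]
  cases P.1.testBit (n * e' j + e i) <;> rfl

theorem toP_mul (hω : ω * ω = ω + 1) (e : ι ≃ Fin n) (e' : κ ≃ Fin m) (e'' : μ ≃ Fin p) (A B : ℕ) :
    toP ω e e'' (mulP n m p A B) = toP ω e e' A * toP ω e' e'' B := by
  rw [mulP, toP_pk, toQ_mul hω e e' e'']; rfl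

theorem toP_xor (e : ι ≃ Fin n) (e' : κ ≃ Fin m) (A B : ℕ) :
    toP ω e e' (Nat.xor A B) = toP ω e e' A + toP ω e e' B := by
  have : Nat.shiftRight (Nat.xor A B) (Nat.mul n m) =
      Nat.xor (Nat.shiftRight A (Nat.mul n m)) (Nat.shiftRight B (Nat.mul n m)) := Nat.shiftRight_xor_distrib
  simp only [toP, toQ, this, toM_xor, smul_add]; abel

theorem toP_of_lt (e : ι ≃ Fin n) (e' : κ ≃ Fin m) {A : ℕ} (h : Nat.shiftRight A (Nat.mul n m) = 0) :
    toP ω e e' A = toM K e e' A := by rw [toP, h, toQ_zero]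

theorem toP_inj [Nontrivial K] (hω : ω * ω = ω + 1) (e : ι ≃ Fin n) (e' : κ ≃ Fin m) {A B : ℕ}
    (hA : A < 2 ^ (2 * (n * m))) (hB : B < 2 ^ (2 * (n * m))) (h : toP ω e e' A = toP ω e e' B) : A = B := by
  have key : ∀ c < n * m, A.testBit c = B.testBit c ∧ A.testBit (n * m + c) = B.testBit (n * m + c) := by
    intro c hc
    have hn : 0 < n := Nat.pos_of_ne_zero (by rintro rfl; simp at hc)
    have := congrFun (congrFun h (e.symm ⟨c % n, Nat.mod_lt _ hn⟩))
      (e'.symm ⟨c / n, Nat.div_lt_of_lt_mul hc⟩)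
    simp only [toP, toQ, toM, bit, Matrix.add_apply, Matrix.smul_apply, of_apply, Equiv.apply_symm_apply,
      Nat.div_add_mod, Nat.shiftRight_eq, Nat.testBit_shiftRight, Nat.mul_eq, smul_eq_mul] at this
    revert this
    cases A.testBit c <;> cases B.testBit c <;> cases A.testBit (n * m + c) <;> cases B.testBit (n * m + c) <;>
      simp <;> grind
  refine Nat.eq_of_testBit_eq fun c => ?_
  by_cases h1 : c < n * m
  · exact (key c h1).1
  by_cases h2 : c < 2 * (n * m)
  · simpa [Nat.add_sub_cancel' (Nat.le_of_not_lt h1)] using (key (c - n * m) (by omega)).2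
  · have := Nat.pow_le_pow_right two_pos (Nat.le_of_not_lt h2)
    rw [Nat.testBit_lt_two_pow (hA.trans_le this), Nat.testBit_lt_two_pow (hB.trans_le this)]

/-! ### Extremely primitive actions of rank three -/

variable {G : Type*} [Group G]

theorem covBy_conj {H : Subgroup G} {a b c : G} (ha : a ∈ H) (hb : b ∈ H)
    (h : H ⊓ H.map (MulAut.conj c).toMonoidHom ⋖ H) : H ⊓ H.map (MulAut.conj (a * c * b)).toMonoidHom ⋖ H := by
  have e : ∀ x ∈ H, H.map (MulAut.conj x).toMonoidHom = H := fun x hx =>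
    Subgroup.mem_normalizer_iff_map_conj_eq.1 (Subgroup.le_normalizer hx)
  have := (apply_covBy_apply_iff (MulAut.conj a).mapSubgroup).2 h
  rw [map_inf] at this
  simp only [MulEquiv.mapSubgroup_apply] at this
  convert this using 2
  · exact (e a ha).symm
  · conv_rhs => rw [← e b hb]
    simp only [map_mul, MulEquiv.toMonoidHom_eq_coe, Subgroup.map_map]; rfl
  · exact (e a ha).symm

theorem transfer {Γ : Type*} [Group Γ] {L H : Subgroup G} (e : Γ ≃* L) (h1 : H ⋖ L)
    (h2 : ∀ x ∈ L, x ∉ H → H ⊓ H.map (MulAut.conj x).toMonoidHom ⋖ H) :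
    ∃ H' : Subgroup Γ, IsCoatom H' ∧ Nonempty (H' ≃* H) ∧
      ∀ x ∉ H', IsCoatom ((H' ⊓ H'.map (MulAut.conj x).toMonoidHom).subgroupOf H') := by
  let π : Γ →* G := L.subtype.comp e.toMonoidHom
  have hπ : Function.Injective π := L.subtype_injective.comp e.injective
  have hr : π.range = L := by simp [π, MonoidHom.range_comp, ← MonoidHom.range_eq_map]
  have key : ∀ {A B : Subgroup Γ}, A.map π ⋖ B.map π → A ⋖ B := fun h =>
    ⟨(Subgroup.map_lt_map_iff_of_injective hπ).1 h.1, fun _ h3 h4 =>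
      h.2 ((Subgroup.map_lt_map_iff_of_injective hπ).2 h3) ((Subgroup.map_lt_map_iff_of_injective hπ).2 h4)⟩
  have hH : (H.comap π).map π = H := Subgroup.map_comap_eq_self (hr ▸ h1.le)
  refine ⟨H.comap π, covBy_top_iff.1 (key (by rwa [hH, ← MonoidHom.range_eq_map, hr])),
    ⟨((H.comap π).equivMapOfInjective π hπ).trans (MulEquiv.subgroupCongr hH)⟩, fun x hx => ?_⟩
  have h3 : H.comap π ⊓ (H.comap π).map (MulAut.conj x).toMonoidHom ⋖ H.comap π := key <| by
    rw [Subgroup.map_inf _ _ _ hπ, hH, Subgroup.map_map, show π.comp (MulAut.conj x).toMonoidHom =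
      (MulAut.conj (π x)).toMonoidHom.comp π by ext; simp, ← Subgroup.map_map, hH]
    exact h2 _ (e x).2 hx
  refine covBy_top_iff.1 ((apply_covBy_apply_iff (Subgroup.MapSubtype.orderIso _)).1 ⟨?_, fun c h4 h5 => ?_⟩)
  · simpa [lt_top_iff_ne_top] using h3.1
  · exact h3.2 (c := c.1) (by simpa [← Subtype.coe_lt_coe, inf_comm] using h4)
      (by simpa [← Subtype.coe_lt_coe, ← MonoidHom.range_eq_map] using h5)

end Cfsg.Agent.H7.Cert
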