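import Cfsg.Agent.H7.Tensor

/-!
Containments between geometric subgroups over small fields: decompositions.
-/

set_option autoImplicit false
set_option linter.unusedSectionVars false

namespace Cfsg.Agent.H7

open Module Cfsg.Agent.Form
open scoped Matrix MatrixGroups

section abstract
variable {F : Type*} [Field F] {V : Type*} [AddCommGroup V] [Module F V]

theorem Projs.notMem_of_two {T : Type*} [Fintype T] {D : T → Submodule F V} {π : T → V →ₗ[F] V}
    (h : Projs D π) {y : V} {j k : T} (hjk : j ≠ k) (hj : π j y ≠ 0) (hk : π k y ≠ 0) (l : T) : y ∉ D l := by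
  intro hl
  by_cases hjl : j = l
  · subst hjl; exact hk (h.ne k j hjk.symm y hl)
  · exact hj (h.ne j l hjl y hl)

theorem notMem_span_basis {T : Type*} [Fintype T] (b : Basis T F V) {y : V} {j k : T} (hjk : j ≠ k)
    (hj : b.repr y j ≠ 0) (hk : b.repr y k ≠ 0) (l : T) : y ∉ F ∙ b l :=
  (projs_basis b).notMem_of_two hjk (by simpa [b.ne_zero] using hj) (by simpa [b.ne_zero] using hk) l

/-- In a non-degenerate symplectic plane over the field with two elements. -/
theorem plane_two [Fintype F] (hq : Fintype.card F = 2) [FiniteDimensional F V] (S : PQ (FP.symp F) V)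
    {U : Submodule F V} (hU : S.NondegOn U) (hd : finrank F U = 2) {x y : V} (hx : x ∈ U) (hy : y ∈ U) :
    S.B x y = 0 ↔ x = 0 ∨ y = 0 ∨ x = y := by
  constructor
  · intro h
    by_contra hc
    push Not at hc
    obtain ⟨h1, h2, h3⟩ := hc
    have h4 : x ∉ F ∙ y := by
      intro hm
      obtain ⟨a, rfl⟩ := Submodule.mem_span_singleton.1 hm
      rcases eq_zero_or_one hq a with rfl | rfl
      · simp at h1
      · simp at h3
    have h5 : (F ∙ y) ⊔ (F ∙ x) = U := by
      apply Submodule.eq_of_le_of_finrank_eq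
      · exact sup_le ((Submodule.span_singleton_le_iff_mem _ _).2 hy)
          ((Submodule.span_singleton_le_iff_mem _ _).2 hx)
      · rw [Submodule.finrank_sup_span_singleton h4, finrank_span_singleton h2, hd]
    apply h1
    apply hU x hx
    intro z hz
    rw [← h5] at hz
    obtain ⟨w, hw, a, rfl⟩ := mem_sup_span_iff.1 hz
    obtain ⟨b, rfl⟩ := Submodule.mem_span_singleton.1 hw
    simp [h, S.symp_B_self]
  · rintro (rfl | rfl | rfl)
    · simp
    · simp
    · exact S.symp_B_self _

variable {P : FP F}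

theorem Projs.B_eq_sum {T : Type*} [Fintype T] {D : T → Submodule F V} {π : T → V →ₗ[F] V}
    (h : Projs D π) (S : PQ P V) (ho : ∀ i j, i ≠ j → ∀ x ∈ D i, ∀ y ∈ D j, S.B x y = 0) (x y : V) :
    S.B x y = ∑ i, S.B (π i x) (π i y) := by
  classical
  conv_lhs => rw [← h.sum x, ← h.sum y, S.B_sum_left]
  refine Finset.sum_congr rfl fun i _ => ?_
  rw [S.B_sum_right, Finset.sum_eq_single i]
  · intro j _ hj; exact ho i j hj.symm _ (h.mem i x) _ (h.mem j y)
  · simp

end abstract

variable {ι : Type} [Fintype ι] [DecidableEq ι] {F : Type*} [Field F]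

theorem richGL_symp {f : (ι → F) → (ι → F) → F} (hf : Geo.IsSymplecticForm f) (h : 2 ≤ Fintype.card ι) :
    RichGL (preserving (glToMat ι F) f ⊓ Geo.specialLinear ι F) Set.univ Set.univ := by
  have : (preserving (glToMat ι F) f ⊓ Geo.specialLinear ι F).map (toLE (ι := ι) (F := F)).toMonoidHom =
      sisom (sympPQ hf) := by
    ext g
    obtain ⟨g, rfl⟩ := toLE.surjective g
    refine (Subgroup.mem_map_iff_mem toLE.injective).trans ?_
    rw [Subgroup.mem_inf, mem_preserving_iff_symp hf, mem_SL_iff]; rfl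
  rw [RichGL, this]
  exact trP_symp.rich (sympPQ_nondeg hf) (by simpa using h)

theorem richGL_unit [Finite F] {σ : F ≃+* F} {f : (ι → F) → (ι → F) → F} (hf : Geo.IsUnitaryForm σ f)
    (h : 2 ≤ Fintype.card ι) :
    RichGL (preserving (glToMat ι F) f ⊓ Geo.specialLinear ι F) {v | f v v = 0} {c | c + σ c = 0} := by
  have : (preserving (glToMat ι F) f ⊓ Geo.specialLinear ι F).map (toLE (ι := ι) (F := F)).toMonoidHom =
      sisom (unitPQ hf) := by
    ext g
    obtain ⟨g, rfl⟩ := toLE.surjective g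
    refine (Subgroup.mem_map_iff_mem toLE.injective).trans ?_
    rw [Subgroup.mem_inf, mem_preserving_iff_unit hf, mem_SL_iff]; rfl
  rw [RichGL, this]
  have := (trP_of_unitary hf).rich (unitPQ_nondeg hf) (by simpa using h)
  convert this using 1
  · ext v; simp [PQ.unit_sing]
  · ext c; simp

theorem preserving_le_similarityGroup (f : (ι → F) → (ι → F) → F) :
    preserving (glToMat ι F) f ≤ Geo.similarityGroup f := fun _ hg => ⟨1, fun u v => by simpa using hg u v⟩

theorem isometryGroup_le_quadSimilarityGroup (Q : (ι → F) → F) :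
    isometryGroup F Q ≤ Geo.quadSimilarityGroup Q := fun _ hg => ⟨1, fun u => by simpa using hg u u⟩

theorem exists_mem_notMem_of_not_le {G : Type*} [Group G] {A B H : Subgroup G} (h : ¬ A ⊓ B ≤ H) :
    ∃ g ∈ B, g ∈ A ∧ g ∉ H := by
  obtain ⟨g, hg, hg'⟩ := SetLike.not_le_iff_exists.1 h
  exact ⟨g, hg.2, hg.1, hg'⟩

theorem exists_basis_of_isMDecomposition {t : ℕ} {D : Fin t → Submodule F (ι → F)}
    (hD : Geo.IsMDecomposition 1 D) : ∃ b : Basis (Fin t) F (ι → F), D = fun i => F ∙ b i := by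
  obtain ⟨π, hπ⟩ := exists_projs hD.indep hD.iSup_eq_top
  obtain ⟨b, hb⟩ := hπ.exists_basis hD.finrank_eq
  exact ⟨b, funext hb⟩

theorem monomial_of_mem {t : ℕ} (b : Basis (Fin t) F (ι → F)) {g : GL ι F}
    (hg : g ∈ Geo.decompositionStabilizer (fun i => F ∙ b i)) :
    ∃ (σ : Equiv.Perm (Fin t)) (c : Fin t → F), (∀ i, c i ≠ 0) ∧ (∀ i, toLE g (b i) = c i • b (σ i)) ∧
      ∀ x i, b.repr (toLE g x) (σ i) = c i * b.repr x i := by
  obtain ⟨σ, hσ⟩ := (mem_decompositionStabilizer_iff _ g).1 hg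
  exact ⟨σ, monomial_repr b hσ⟩

theorem notMem_decompositionStabilizer {t : ℕ} {D : Fin t → Submodule F (ι → F)} {g : GL ι F} {i : Fin t}
    {x : ι → F} (hx : x ∈ D i) (h : ∀ l, toLE g x ∉ D l) : g ∉ Geo.decompositionStabilizer D := by
  intro hg
  obtain ⟨σ, hσ⟩ := (mem_decompositionStabilizer_iff _ g).1 hg
  exact h _ (mem_of_map_eq (hσ i) hx)

variable [Fintype F]

/-- Monomial group over `F_2`: it fixes the all-one vector. -/
theorem monomial_card_two (hq : Fintype.card F = 2) {t : ℕ} {D : Fin t → Submodule F (ι → F)}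
    (hD : Geo.IsMDecomposition 1 D) : ∃ W : Submodule F (ι → F), W ≠ ⊥ ∧ W ≠ ⊤ ∧ finrank F W = 1 ∧
      Geo.decompositionStabilizer D ≤ Geo.subspaceStabilizer W ∧
      (3 ≤ t → ∃ g ∈ Geo.specialLinear ι F, g ∈ Geo.subspaceStabilizer W ∧
        g ∉ Geo.decompositionStabilizer D) := by
  obtain ⟨b, rfl⟩ := exists_basis_of_isMDecomposition hD
  have ht := hD.two_le
  have hn := card_eq_of_isMDecomposition hD
  set u := ∑ i, b i with hu
  have hu1 : ∀ i, b.repr u i = 1 := fun i => by simp [hu, Finsupp.single_apply]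
  have hu0 : u ≠ 0 := fun h => by simpa [h] using hu1 ⟨0, by omega⟩
  refine ⟨F ∙ u, by simpa using hu0, span_singleton_ne_top (by rw [finrank_pi']; omega) u,
    finrank_span_singleton hu0, fun g hg => ?_, fun h3 => ?_⟩
  · obtain ⟨σ, c, h1, h2, -⟩ := monomial_of_mem b hg
    have : toLE g u = u := by
      rw [hu, map_sum, ← Equiv.sum_comp σ b]
      exact Finset.sum_congr rfl fun i _ => by rw [h2, eq_one_of_ne_zero hq (h1 i), one_smul]
    refine (mem_subspaceStabilizer_iff _ g).2 (stab_iff_of_le _ _ fun w hw => ?_)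
    obtain ⟨a, rfl⟩ := Submodule.mem_span_singleton.1 hw
    rwa [map_smul, this]
  · let i : Fin 3 → Fin t := Fin.castLE h3
    have hi : ∀ a b : Fin 3, a ≠ b → i a ≠ i b := fun a b hab h' => hab (Fin.castLE_injective h3 h')
    obtain ⟨g, hg, e⟩ := exists_transvection (φ := b.coord (i 0) - b.coord (i 1)) (v := u) (by simp [hu1])
    refine ⟨toLE.symm g, by rw [mem_SL_iff]; simpa using hg, ?_, ?_⟩
    · refine (mem_subspaceStabilizer_iff _ _).2 (stab_iff_of_le _ _ fun w hw => ?_)
      rw [MulEquiv.apply_symm_apply, e]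
      exact Submodule.add_mem _ hw (Submodule.smul_mem _ _ (Submodule.mem_span_singleton_self _))
    · refine notMem_decompositionStabilizer (i := i 0) (Submodule.mem_span_singleton_self _)
        (notMem_span_basis b (hi 1 2 (by decide)) ?_ ?_)
      · simp [e, hu1, Finsupp.single_eq_of_ne (hi 1 0 (by decide))]
      · simp [e, hu1, Finsupp.single_eq_of_ne (hi 1 0 (by decide)), Finsupp.single_eq_of_ne (hi 2 0 (by decide))]

/-- Monomial group over `F_3`: it preserves the sum of squares. -/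
theorem monomial_card_three (hq : Fintype.card F = 3) {t : ℕ} {D : Fin t → Submodule F (ι → F)}
    (hD : Geo.IsMDecomposition 1 D) : ∃ Q : (ι → F) → F, Geo.IsNondegenerateQuadraticForm Q ∧
      Geo.decompositionStabilizer D ≤ isometryGroup F Q ∧
      (4 ≤ t → ∃ g ∈ Geo.specialLinear ι F, g ∈ isometryGroup F Q ∧ g ∉ Geo.decompositionStabilizer D) := by
  obtain ⟨b, rfl⟩ := exists_basis_of_isMDecomposition hD
  have h3 := three_eq_zero_of_card_three hq
  have h2 : (2 : F) ≠ 0 := fun h => one_ne_zero (by linear_combination h3 - h : (1 : F) = 0)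
  let Q : (ι → F) → F := fun x => ∑ i, b.repr x i ^ 2
  have hpol : ∀ x y, QuadraticMap.polar Q x y = ∑ i, 2 * b.repr x i * b.repr y i := by
    intro x y
    simp only [QuadraticMap.polar, Q, ← Finset.sum_sub_distrib, map_add, Finsupp.add_apply]
    exact Finset.sum_congr rfl fun i _ => by ring
  have hpol' : ∀ x i, QuadraticMap.polar Q (b i) x = 2 * b.repr x i := by
    intro x i
    rw [hpol, Finset.sum_eq_single i]
    · simp
    · intro j _ hj; simp [Finsupp.single_eq_of_ne hj]
    · simp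
  have hQ : Geo.IsNondegenerateQuadraticForm Q := by
    refine isNondegenerateQuadraticForm_mk Q (fun c v => ?_) (fun x y v => ?_) (fun c x v => ?_)
      (fun v hv => ?_)
    · simp [Q, Finset.mul_sum, mul_pow]
    · simp [hpol, mul_add, add_mul, Finset.sum_add_distrib]
    · simp only [hpol, Finset.mul_sum, map_smul, Finsupp.smul_apply, smul_eq_mul]
      exact Finset.sum_congr rfl fun i _ => by ring
    · apply b.repr.injective
      ext i
      have := hv (b i)
      rw [hpol'] at this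
      simpa [h2] using this
  refine ⟨Q, hQ, fun g hg => ?_, fun h4 => ?_⟩
  · obtain ⟨σ, c, h1, -, h3⟩ := monomial_of_mem b hg
    intro x _
    change Q (toLE g x) = Q x
    simp only [Q]
    rw [← Equiv.sum_comp σ]
    exact Finset.sum_congr rfl fun i _ => by rw [h3, mul_pow, pow_card_pred hq (h1 i), one_mul]
  · let i : Fin 4 → Fin t := Fin.castLE h4
    have hi : ∀ a b : Fin 4, a ≠ b → i a ≠ i b := fun a b hab h' => hab (Fin.castLE_injective h4 h')
    let S := quadPQ hQ
    have hQb : ∀ j, S.Q (b j) = 1 := fun j => by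
      have := S.orth_B_self (b j)
      rw [show S.B (b j) (b j) = _ from hpol' _ _] at this
      apply mul_left_cancel₀ h2; simpa using this.symm
    have hB : ∀ x j, S.B (b j) x = 2 * b.repr x j := hpol'
    have hB' : ∀ j k, j ≠ k → S.B (b j) (b k) = 0 := fun j k hjk => by
      simp [hB, Finsupp.single_eq_of_ne hjk]
    set v := b (i 0) + b (i 1) + b (i 2) + b (i 3) with hv
    have hQv : S.Q v = 1 := by
      simp only [hv, S.orth_Q_add, hQb, PQ.B_add_left, hB' _ _ (hi 0 1 (by decide)), hB' _ _ (hi 0 2 (by decide)),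
        hB' _ _ (hi 0 3 (by decide)), hB' _ _ (hi 1 2 (by decide)), hB' _ _ (hi 1 3 (by decide)),
        hB' _ _ (hi 2 3 (by decide))]
      linear_combination h3
    have k1 := S.orth_tauOK (x := v) (by rw [hQv]; exact one_ne_zero)
    have k2 := S.orth_tauOK (x := b (i 0)) (by rw [hQb]; exact one_ne_zero)
    refine ⟨toLE.symm (S.tau _ _ k1 * S.tau _ _ k2), ?_, ?_, ?_⟩
    · rw [mem_SL_iff, MulEquiv.apply_symm_apply, map_mul]
      apply Units.ext
      rw [Units.val_mul, det_tau, det_tau, S.orth_B_self, S.orth_B_self, hQv, hQb]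
      norm_num
    · rw [mem_isometryGroup_iff hQ, ← toLE_eq_glEquiv, MulEquiv.apply_symm_apply]
      exact mul_mem (S.tau_mem _ _ _) (S.tau_mem _ _ _)
    · refine notMem_decompositionStabilizer (i := i 1) (Submodule.mem_span_singleton_self _)
        (notMem_span_basis b (hi 2 3 (by decide)) ?_ ?_)
      all_goals
        rw [MulEquiv.apply_symm_apply, LinearEquiv.mul_apply,
          S.tau_apply_of_perp _ _ _ (hB' _ _ (hi 1 0 (by decide))), PQ.tau_apply, hB, hQv]
        simp [hv, (hi 0 1 (by decide)), (hi 0 2 (by decide)), (hi 0 3 (by decide)),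
          (hi 1 2 (by decide)), (hi 1 3 (by decide)), (hi 2 3 (by decide)), (hi 2 1 (by decide)),
          (hi 3 1 (by decide)), (hi 3 2 (by decide)), h2]

/-- Monomial group over `F_4`: it preserves a unitary form. -/
theorem monomial_card_four (hq : Fintype.card F = 2 ^ 2) {t : ℕ} {D : Fin t → Submodule F (ι → F)}
    (hD : Geo.IsMDecomposition 1 D) : ∃ f : (ι → F) → (ι → F) → F, Geo.IsUnitaryForm (frobQ hq) f ∧
      Geo.decompositionStabilizer D ≤ preserving (glToMat ι F) f ∧
      (4 ≤ t → ∃ g ∈ Geo.specialLinear ι F, g ∈ preserving (glToMat ι F) f ∧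
        g ∉ Geo.decompositionStabilizer D) := by
  have hn := card_eq_of_isMDecomposition hD
  obtain ⟨b, hb⟩ := exists_basis_of_isMDecomposition hD
  let f : (ι → F) → (ι → F) → F := fun x y => ∑ i, b.repr x i * b.repr y i ^ 2
  have hf : Geo.IsUnitaryForm (frobQ hq) f := by
    refine isUnitaryForm_of_pow hq ⟨fun x y v => ?_, fun c x v => ?_, fun v w => ?_, fun v hv => ?_⟩
    · simp [f, add_mul, Finset.sum_add_distrib]
    · simp [f, Finset.mul_sum, mul_assoc]
    · rw [← frobQ_apply hq]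
      simp only [f, map_sum, map_mul, frobQ_apply, pow_q_pow_q hq]
      exact Finset.sum_congr rfl fun i _ => mul_comm _ _
    · obtain ⟨i, hi⟩ : ∃ i, b.repr v i ≠ 0 := by
        by_contra hc; push Not at hc
        exact hv (b.repr.injective (by ext i; simp [hc]))
      refine ⟨⟨b i, ?_⟩, ⟨b i, ?_⟩⟩
      · simpa [f, Finsupp.single_apply] using hi
      · simpa [f, Finsupp.single_apply] using hi
  refine ⟨f, hf, fun g hg => ?_, fun h4 => ?_⟩
  · rw [hb] at hg
    obtain ⟨σ, c, h1, -, h3⟩ := monomial_of_mem b hg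
    intro x y
    change f (toLE g x) (toLE g y) = f x y
    simp only [f]
    rw [← Equiv.sum_comp σ]
    refine Finset.sum_congr rfl fun i _ => ?_
    rw [h3, h3]
    linear_combination (b.repr x i * b.repr y i ^ 2) * pow_card_pred (k := 3) hq (h1 i)
  · exact exists_mem_notMem_of_not_le ((richGL_unit hf (by omega)).not_le_decompositionStabilizer
      (Or.inl (by omega)) hD)

/-- Over `F_2` any map permuting orthogonal symplectic planes is an isometry. -/
theorem planes_card_two_le (hq : Fintype.card F = 2) {f : (ι → F) → (ι → F) → F} (hf : Geo.IsSymplecticForm f)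
    {t : ℕ} {D : Fin t → Submodule F (ι → F)} (hD : Geo.IsNondegenerateMDecomposition f 2 D) :
    Geo.decompositionStabilizer D ≤ preserving (glToMat ι F) f := by
  intro g hg
  obtain ⟨π, hπ⟩ := exists_projs hD.decomp.indep hD.decomp.iSup_eq_top
  obtain ⟨σ, hσ⟩ := (mem_decompositionStabilizer_iff _ g).1 hg
  let S := sympPQ hf
  intro x y
  change S.B (toLE g x) (toLE g y) = S.B x y
  rw [hπ.B_eq_sum S hD.orthogonal, hπ.B_eq_sum S hD.orthogonal x, ← Equiv.sum_comp σ]
  refine Finset.sum_congr rfl fun i _ => ?_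
  rw [hπ.proj_map hσ, hπ.proj_map hσ]
  have h1 := plane_two hq S ((S.nondegOn_iff_geo _).2 (hD.nondegenerate i)) (hD.decomp.finrank_eq i)
    (hπ.mem i x) (hπ.mem i y)
  have h2 := plane_two hq S ((S.nondegOn_iff_geo _).2 (hD.nondegenerate (σ i))) (hD.decomp.finrank_eq _)
    (mem_of_map_eq (hσ i) (hπ.mem i x)) (mem_of_map_eq (hσ i) (hπ.mem i y))
  simp only [LinearEquiv.map_eq_zero_iff, EmbeddingLike.apply_eq_iff_eq] at h2
  by_cases h3 : S.B (π i x) (π i y) = 0
  · rw [h3, h2.2 (h1.1 h3)]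
  · rw [eq_one_of_ne_zero hq h3, eq_one_of_ne_zero hq (fun h4 => h3 (h1.2 (h2.1 h4)))]

omit [Fintype F] in
theorem exists_symp_of_planes {t : ℕ} {D : Fin t → Submodule F (ι → F)} (hD : Geo.IsMDecomposition 2 D) :
    ∃ f : (ι → F) → (ι → F) → F, Geo.IsSymplecticForm f ∧ Geo.IsNondegenerateMDecomposition f 2 D := by
  obtain ⟨π, hπ⟩ := exists_projs hD.indep hD.iSup_eq_top
  choose p q α β hp hq h1 h2 h3 h4 h5 h6 using
    fun i => exists_two_coords (hD.finrank_eq i) (π i) (hπ.mem i) (hπ.self i)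
  let f : (ι → F) → (ι → F) → F := fun x y => ∑ i, (α i x * β i y - β i x * α i y)
  have hz : ∀ i j, i ≠ j → ∀ x ∈ D j, α i x = 0 ∧ β i x = 0 := fun i j hij x hx => h6 i x (hπ.ne i j hij x hx)
  have hf1 : ∀ i x, ∀ y ∈ D i, f x y = α i x * β i y - β i x * α i y := by
    intro i x y hy
    refine Finset.sum_eq_single i (fun j _ hj => ?_) (by simp)
    simp [hz j i hj y hy]
  have hskew : ∀ v w, f v w = - f w v := fun v w => by
    simp only [f, ← Finset.sum_neg_distrib]
    exact Finset.sum_congr rfl fun i _ => by ring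
  have hnd : ∀ i v, π i v ≠ 0 → ∃ x ∈ D i, f v x ≠ 0 := by
    intro i v hv
    by_cases ha : α i v = 0
    · refine ⟨p i, hp i, ?_⟩
      rw [hf1 i _ _ (hp i), h2, h4]
      intro h0; apply hv; rw [h1, ha]
      have : β i v = 0 := by simpa using h0
      simp [this]
    · exact ⟨q i, hq i, by rw [hf1 i _ _ (hq i), h3, h5]; simpa using ha⟩
  refine ⟨f, ⟨⟨fun x y v => ?_, fun c x v => ?_, fun v x y => ?_, fun c v x => ?_⟩, hskew, fun v => ?_,
    fun v hv => ?_⟩, hD, fun i w hw hw0 => ?_, fun i j hij u hu v hv => ?_⟩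
  · simp only [f, map_add, ← Finset.sum_add_distrib]; exact Finset.sum_congr rfl fun i _ => by ring
  · simp only [f, map_smul, Finset.mul_sum, smul_eq_mul]; exact Finset.sum_congr rfl fun i _ => by ring
  · simp only [f, map_add, ← Finset.sum_add_distrib]; exact Finset.sum_congr rfl fun i _ => by ring
  · simp only [f, map_smul, Finset.mul_sum, smul_eq_mul]; exact Finset.sum_congr rfl fun i _ => by ring
  · exact Finset.sum_eq_zero fun i _ => by ring
  · obtain ⟨i, hi⟩ : ∃ i, π i v ≠ 0 := by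
      by_contra hc; push Not at hc; exact hv (hπ.eq_zero hc)
    obtain ⟨x, -, hx⟩ := hnd i v hi
    exact ⟨⟨x, by rw [hskew]; simpa using hx⟩, ⟨x, hx⟩⟩
  · obtain ⟨x, hx, hx'⟩ := hnd i w (by rwa [hπ.self i w hw])
    exact ⟨⟨x, hx, by rw [hskew]; simpa using hx'⟩, ⟨x, hx, hx'⟩⟩
  · rw [hf1 j u v hv, (hz j i hij.symm u hu).1, (hz j i hij.symm u hu).2]; simp

/-- `GL_2(2) wr S_t` preserves a symplectic form. -/
theorem planes_card_two (hq : Fintype.card F = 2) {t : ℕ} {D : Fin t → Submodule F (ι → F)}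
    (hD : Geo.IsMDecomposition 2 D) : ∃ f : (ι → F) → (ι → F) → F, Geo.IsSymplecticForm f ∧
      Geo.decompositionStabilizer D ≤ preserving (glToMat ι F) f ∧
      ∃ g ∈ Geo.specialLinear ι F, g ∈ preserving (glToMat ι F) f ∧ g ∉ Geo.decompositionStabilizer D := by
  obtain ⟨f, hf, hD'⟩ := exists_symp_of_planes hD
  have hn := card_eq_of_isMDecomposition hD
  have ht := hD.two_le
  exact ⟨f, hf, planes_card_two_le hq hf hD', exists_mem_notMem_of_not_le
    ((richGL_symp hf (by omega)).not_le_decompositionStabilizer (Or.inr (Or.inl rfl)) hD)⟩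

/-- `Sp_2(2) wr S_t` preserves a quadratic form. -/
theorem symp_planes_card_two (hq : Fintype.card F = 2) {f : (ι → F) → (ι → F) → F}
    (hf : Geo.IsSymplecticForm f) {t : ℕ} {D : Fin t → Submodule F (ι → F)}
    (hD : Geo.IsNondegenerateMDecomposition f 2 D) :
    ∃ Q : (ι → F) → F, Geo.IsNondegenerateQuadraticForm Q ∧ (∀ u v, QuadraticMap.polar Q u v = f u v) ∧
      Geo.decompositionStabilizer D ≤ isometryGroup F Q ∧
      (3 ≤ t → ∃ g ∈ preserving (glToMat ι F) f, g ∈ isometryGroup F Q ∧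
        g ∉ Geo.decompositionStabilizer D) := by
  classical
  obtain ⟨π, hπ⟩ := exists_projs hD.decomp.indep hD.decomp.iSup_eq_top
  let S := sympPQ hf
  have h2 := two_eq_zero_of_card_two hq
  let Q : (ι → F) → F := fun x => ∑ i, if π i x = 0 then 0 else 1
  have hpol : ∀ u v, QuadraticMap.polar Q u v = f u v := by
    intro u v
    change _ = S.B u v
    rw [hπ.B_eq_sum S hD.orthogonal]
    simp only [QuadraticMap.polar, Q, ← Finset.sum_sub_distrib, map_add]
    refine Finset.sum_congr rfl fun i _ => ?_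
    have h1 := plane_two hq S ((S.nondegOn_iff_geo _).2 (hD.nondegenerate i)) (hD.decomp.finrank_eq i)
      (hπ.mem i u) (hπ.mem i v)
    set x := π i u
    set y := π i v
    have h3 : x + y = 0 ↔ x = y := by
      have : y + y = 0 := by rw [← two_smul F y, h2, zero_smul]
      constructor
      · intro h; rw [← sub_eq_zero, ← h, sub_eq_add_neg, neg_eq_of_add_eq_zero_left this]
      · rintro h; rw [h, this]
    by_cases a1 : x = 0
    · rw [h1.2 (Or.inl a1)]; simp [a1]
    by_cases a2 : y = 0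
    · rw [h1.2 (Or.inr (Or.inl a2))]; simp [a2]
    by_cases a3 : x = y
    · rw [h1.2 (Or.inr (Or.inr a3)), if_pos (h3.2 a3), if_neg a1, if_neg a2]
      linear_combination -h2
    · rw [eq_one_of_ne_zero hq (x := S.B x y) (fun h => by have := h1.1 h; tauto), if_neg (fun h => a3 (h3.1 h)),
        if_neg a1, if_neg a2]
      linear_combination -h2
  have hpol' : QuadraticMap.polar Q = f := funext₂ hpol
  have hQ : Geo.IsNondegenerateQuadraticForm Q := by
    refine ⟨fun c v => ?_, by rw [hpol']; exact hf.bilinear, by rw [hpol']; exact hf.nondegenerate⟩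
    rcases eq_zero_or_one hq c with rfl | rfl
    · simp [Q]
    · simp
  refine ⟨Q, hQ, hpol, fun g hg => ?_, fun h3 => ?_⟩
  · obtain ⟨σ, hσ⟩ := (mem_decompositionStabilizer_iff _ g).1 hg
    intro x _
    change Q (toLE g x) = Q x
    simp only [Q]
    rw [← Equiv.sum_comp σ]
    exact Finset.sum_congr rfl fun i _ => by simp [hπ.proj_map hσ]
  · let i : Fin 3 → Fin t := Fin.castLE h3
    have hi : ∀ a b : Fin 3, a ≠ b → i a ≠ i b := fun a b hab h' => hab (Fin.castLE_injective h3 h')
    choose e he he0 using fun j => exists_ne_zero_of_finrank_pos (A := D j)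
      (by rw [hD.decomp.finrank_eq]; omega)
    let T := quadPQ hQ
    have hTB : ∀ u v, T.B u v = f u v := hpol
    have hQe : ∀ j, T.Q (e j) = 1 := fun j => by
      change Q (e j) = 1
      simp only [Q]
      rw [Finset.sum_eq_single j]
      · rw [hπ.self j _ (he j), if_neg (he0 j)]
      · intro k _ hk; rw [hπ.ne k j hk _ (he j), if_pos rfl]
      · simp
    have hB' : ∀ j k, j ≠ k → ∀ x ∈ D j, T.B x (e k) = 0 := fun j k hjk x hx => by
      rw [hTB]; exact hD.orthogonal j k hjk x hx _ (he k)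
    set v := e (i 0) + e (i 1) + e (i 2) with hv
    have hQv : T.Q v = 1 := by
      simp only [hv, T.orth_Q_add, hQe, PQ.B_add_left, hB' _ _ (hi 0 1 (by decide)) _ (he _),
        hB' _ _ (hi 0 2 (by decide)) _ (he _), hB' _ _ (hi 1 2 (by decide)) _ (he _)]
      linear_combination h2
    have k1 := T.orth_tauOK (x := v) (by rw [hQv]; exact one_ne_zero)
    obtain ⟨x, hx, hx'⟩ := (hD.nondegenerate (i 0) _ (he _) (he0 _)).1
    refine ⟨toLE.symm (T.tau _ _ k1), fun u w => ?_, ?_, ?_⟩
    · change f (toLE (toLE.symm (T.tau _ _ k1)) u) (toLE (toLE.symm (T.tau _ _ k1)) w) = _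
      rw [MulEquiv.apply_symm_apply, ← hTB, ← hTB]
      exact PQ.B_isom (T.tau_mem _ _ _) u w
    · rw [mem_isometryGroup_iff hQ, ← toLE_eq_glEquiv, MulEquiv.apply_symm_apply]
      exact T.tau_mem _ _ _
    · have hxv : T.B x v ≠ 0 := by
        rw [← hTB] at hx'
        simpa [hv, hB' _ _ (hi 0 1 (by decide)) _ hx, hB' _ _ (hi 0 2 (by decide)) _ hx] using hx'
      refine notMem_decompositionStabilizer (i := i 0) hx (hπ.notMem_of_two (hi 1 2 (by decide)) ?_ ?_)
      · rw [MulEquiv.apply_symm_apply, PQ.tau_apply, hQv]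
        generalize T.B x v = c at hxv
        simpa [hv, hπ.ne _ _ (hi 1 0 (by decide)) _ hx, hπ.ne _ _ (hi 1 0 (by decide)) _ (he _),
          hπ.ne _ _ (hi 1 2 (by decide)) _ (he _), hπ.self _ _ (he _), he0] using hxv
      · rw [MulEquiv.apply_symm_apply, PQ.tau_apply, hQv]
        generalize T.B x v = c at hxv
        simpa [hv, hπ.ne _ _ (hi 2 0 (by decide)) _ hx, hπ.ne _ _ (hi 2 0 (by decide)) _ (he _),
          hπ.ne _ _ (hi 2 1 (by decide)) _ (he _), hπ.self _ _ (he _), he0] using hxv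

theorem norm_one_two (hq : Fintype.card F = 2 ^ 2) {a b : F} (h : a * a ^ 2 + b * b ^ 2 ≠ 0) :
    a = 0 ∨ b = 0 := by
  by_contra hc
  push Not at hc
  apply h
  linear_combination pow_card_pred (k := 3) hq hc.1 + pow_card_pred (k := 3) hq hc.2 +
    two_eq_zero_of_card_four hq

/-- `GU_2(2) wr S_t` is monomial. -/
theorem unit_planes_card_four (hq : Fintype.card F = 2 ^ 2) {f : (ι → F) → (ι → F) → F}
    (hf : Geo.IsUnitaryForm (frobQ hq) f) {t : ℕ} {D : Fin t → Submodule F (ι → F)}
    (hD : Geo.IsNondegenerateMDecomposition f 2 D) :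
    ∃ D' : Fin (t * 2) → Submodule F (ι → F), Geo.IsNondegenerateMDecomposition f 1 D' ∧
      Geo.decompositionStabilizer D ⊓ preserving (glToMat ι F) f ≤ Geo.decompositionStabilizer D' ∧
      ∃ g ∈ preserving (glToMat ι F) f ⊓ Geo.specialLinear ι F, g ∈ Geo.decompositionStabilizer D' ∧
        g ∉ Geo.decompositionStabilizer D := by
  obtain ⟨π, hπ⟩ := exists_projs hD.decomp.indep hD.decomp.iSup_eq_top
  let S := unitPQ hf
  have ht := hD.decomp.two_le
  choose b h1 h2 h3 h4 using fun i => exists_orthonormal_unit (unit_ne hf) S 2 (D i)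
    ((S.nondegOn_iff_geo _).2 (hD.nondegenerate i)) (hD.decomp.finrank_eq i)
  let e : Fin (t * 2) ≃ Fin t × Fin 2 := finProdFinEquiv.symm
  let b' : Fin (t * 2) → ι → F := fun k => b (e k).1 (e k).2
  have hb1 : ∀ k, S.B (b' k) (b' k) = 1 := fun k => h2 _ _
  have hb2 : ∀ k l, k ≠ l → S.B (b' k) (b' l) = 0 := by
    intro k l hkl
    by_cases h : (e k).1 = (e l).1
    · have h' : (e k).2 ≠ (e l).2 := fun h' => hkl (e.injective (Prod.ext h h'))
      simp only [b', h]
      exact h3 _ _ _ h'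
    · exact hD.orthogonal _ _ h _ (h1 _ _) _ (h1 _ _)
  have hb' : ∀ i s, b' (e.symm (i, s)) = b i s := fun i s => by simp [b']
  obtain ⟨c, hc⟩ := exists_basis_of_orthogonal S b' (fun k => by rw [hb1]; exact one_ne_zero) hb2 (fun x => by
    rw [← hπ.sum x]
    refine Submodule.sum_mem _ fun i _ => ?_
    rw [h4 i _ (hπ.mem i x)]
    exact Submodule.sum_mem _ fun s _ => Submodule.smul_mem _ _ (Submodule.subset_span ⟨_, hb' i s⟩))
  have hD' := isMDecomposition_basis c (by omega)
  refine ⟨fun k => F ∙ c k, ⟨hD', fun k => ?_, fun k l hkl u hu v hv => ?_⟩, fun g hg => ?_, ?_⟩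
  · exact (S.nondegOn_iff_geo _).1 (S.nondegOn_span_singleton (by rw [hc, hb1]; exact one_ne_zero))
  · obtain ⟨a, rfl⟩ := Submodule.mem_span_singleton.1 hu
    obtain ⟨a', rfl⟩ := Submodule.mem_span_singleton.1 hv
    change S.B _ _ = 0
    simp [hc, hb2 k l hkl]
  · obtain ⟨σ, hσ⟩ := (mem_decompositionStabilizer_iff _ g).1 hg.1
    have hg' : toLE g ∈ S.isom := (mem_preserving_iff_unit hf g).1 hg.2
    refine mem_decompositionStabilizer_of hD' fun k => ?_
    have h5 := mem_of_map_eq (hσ (e k).1) (h1 (e k).1 (e k).2)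
    have h6 := h4 _ _ h5
    have h7 : S.B (toLE g (b' k)) (toLE g (b' k)) = 1 := by rw [PQ.B_isom hg', hb1]
    rw [Fin.sum_univ_two] at h6
    change toLE g (b' k) = _ at h6
    set α := S.B (toLE g (b (e k).1 (e k).2)) (b (σ (e k).1) 0)
    set β := S.B (toLE g (b (e k).1 (e k).2)) (b (σ (e k).1) 1)
    rw [h6] at h7
    simp only [PQ.B_add_left, PQ.B_add_right, PQ.B_smul_left, PQ.B_smul_right, h2,
      h3 _ 0 1 (by decide), h3 _ 1 0 (by decide), FP.unit_σ, RingHom.coe_coe, frobQ_apply] at h7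
    have h8 : ∀ s, (∃ a : F, toLE g (b' k) = a • b (σ (e k).1) s) →
        ∃ j, ∀ x ∈ F ∙ c k, toLE g x ∈ F ∙ c j := by
      rintro s ⟨a, ha⟩
      refine ⟨e.symm (σ (e k).1, s), fun x hx => ?_⟩
      obtain ⟨a', rfl⟩ := Submodule.mem_span_singleton.1 hx
      rw [map_smul, hc k, ha, hc, hb']
      exact Submodule.smul_mem _ _ (Submodule.smul_mem _ _ (Submodule.mem_span_singleton_self _))
    rcases norm_one_two hq (a := α) (b := β) (by
      intro h0; apply one_ne_zero (α := F); linear_combination h0 - h7) with h9 | h9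
    · exact h8 1 ⟨β, by rw [h6, h9]; simp⟩
    · exact h8 0 ⟨α, by rw [h6, h9]; simp⟩
  · let i0 : Fin t := ⟨0, by omega⟩
    let i1 : Fin t := ⟨1, by omega⟩
    have hi : i0 ≠ i1 := by simp [i0, i1]
    have h22 := two_eq_zero_of_card_four hq
    set k1 := e.symm (i0, 1)
    set k2 := e.symm (i1, 0)
    have hk : k1 ≠ k2 := fun h => hi (congrArg Prod.fst (e.symm.injective h))
    set d := b' k1 + b' k2 with hd
    have hds : S.Sing d := by
      rw [PQ.unit_sing]
      simp only [hd, PQ.B_add_left, PQ.B_add_right, hb1, hb2 _ _ hk, hb2 _ _ hk.symm]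
      linear_combination h22
    have hT : S.TauOK d 1 := tauOK_of_sing hds (by simp; linear_combination h22)
    have hxx : ∀ x : ι → F, x + x = 0 := fun x => by rw [← two_smul F x, h22, zero_smul]
    refine ⟨toLE.symm (S.tau d 1 hT), ⟨?_, ?_⟩, ?_, ?_⟩
    · exact (mem_preserving_iff_unit hf _).2 (by
        rw [← toLE_eq_glEquiv, MulEquiv.apply_symm_apply]; exact S.tau_mem _ _ _)
    · exact (mem_SL_iff _).2 (by rw [MulEquiv.apply_symm_apply]; exact det_tau_sing S hds _ _)
    · refine mem_decompositionStabilizer_of hD' fun k => ?_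
      have h8 : ∀ j, S.tau d 1 hT (b' k) = b' j → ∃ j, ∀ x ∈ F ∙ c k, toLE (toLE.symm (S.tau d 1 hT)) x ∈ F ∙ c j := by
        intro j hj
        refine ⟨j, fun x hx => ?_⟩
        obtain ⟨a', rfl⟩ := Submodule.mem_span_singleton.1 hx
        rw [MulEquiv.apply_symm_apply, map_smul, hc k, hj, hc]
        exact Submodule.smul_mem _ _ (Submodule.mem_span_singleton_self _)
      by_cases a1 : k = k1
      · refine h8 k2 ?_
        rw [a1]; simp [hd, hb1, hb2 _ _ hk, ← add_assoc, hxx]
      by_cases a2 : k = k2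
      · refine h8 k1 ?_
        rw [a2]; simp only [hd, PQ.tau_apply, PQ.B_add_right, hb1, hb2 _ _ hk.symm, zero_add, mul_one, one_smul]
        rw [add_comm (b' k1), ← add_assoc, hxx, zero_add]
      · exact h8 k (by simp [hd, hb2 _ _ a1, hb2 _ _ a2])
    · refine notMem_decompositionStabilizer (i := i0) (x := b i0 0 + b i0 1)
        (Submodule.add_mem _ (h1 _ _) (h1 _ _)) ?_
      have h9 : toLE (toLE.symm (S.tau d 1 hT)) (b i0 0 + b i0 1) = b i0 0 + b i1 0 := by
        have a1 : S.B (b i0 0) (b i1 0) = 0 := hD.orthogonal _ _ hi _ (h1 _ _) _ (h1 _ _)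
        have a2 : S.B (b i0 1) (b i1 0) = 0 := hD.orthogonal _ _ hi _ (h1 _ _) _ (h1 _ _)
        rw [MulEquiv.apply_symm_apply]
        simp only [hd, k1, k2, hb', PQ.tau_apply, PQ.B_add_left, PQ.B_add_right, h2, h3 _ 0 1 (by decide), a1, a2]
        simp only [add_zero, zero_add, mul_one, one_smul]
        rw [add_assoc, ← add_assoc (b i0 1), hxx, zero_add]
      rw [h9]
      have hne : ∀ i s, b i s ≠ 0 := fun i s h => by simpa [h] using h2 i s
      refine hπ.notMem_of_two hi ?_ ?_
      · simpa [hπ.self _ _ (h1 _ _), hπ.ne _ _ hi _ (h1 _ _)] using hne i0 0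
      · simpa [hπ.self _ _ (h1 _ _), hπ.ne _ _ hi.symm _ (h1 _ _)] using hne i1 0

end Cfsg.Agent.H7
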