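import Cfsg.Agent.H7.Contain

/-!
Containments between geometric subgroups over small fields: tensor products.
-/

set_option autoImplicit false
set_option linter.unusedSectionVars false

namespace Cfsg.Agent.H7

open Module Cfsg.Agent.Form
open scoped Matrix MatrixGroups

variable {ι : Type} [Fintype ι] [DecidableEq ι] {F : Type*} [Field F]

/-- Conjugation of matrices as a linear automorphism. -/
def conjMat (g : GL ι F) : Matrix ι ι F ≃ₗ[F] Matrix ι ι F where
  toFun k := (g : Matrix ι ι F) * k * ((g⁻¹ : GL ι F) : Matrix ι ι F)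
  map_add' a b := by rw [mul_add, add_mul]
  map_smul' c a := by simp
  invFun k := ((g⁻¹ : GL ι F) : Matrix ι ι F) * k * (g : Matrix ι ι F)
  left_inv k := by
    simp only [← mul_assoc, Units.inv_mul, one_mul, Units.inv_mul_cancel_right]
  right_inv k := by
    simp only [← mul_assoc, Units.mul_inv, one_mul, Units.mul_inv_cancel_right]

theorem mem_subalgebraNormalizer_of {K : Subalgebra F (Matrix ι ι F)} {g : GL ι F}
    (h : ∀ k ∈ K, (g : Matrix ι ι F) * k * ((g⁻¹ : GL ι F) : Matrix ι ι F) ∈ K) :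
    g ∈ Geo.subalgebraNormalizer K :=
  fun k => stab_iff_of_le (conjMat g) (Subalgebra.toSubmodule K) h k

theorem conj_mulVec (g : GL ι F) (k : Matrix ι ι F) (v : ι → F) :
    ((g : Matrix ι ι F) * k * ((g⁻¹ : GL ι F) : Matrix ι ι F)) *ᵥ v = toLE g (k *ᵥ (toLE g).symm v) := by
  rw [← Matrix.mulVec_mulVec, ← Matrix.mulVec_mulVec, inv_mulVec, ← toLE_apply]

/-- The subalgebra generated by a quadratic element. -/
def quadAlg (J : Matrix ι ι F) (s r : F) (hJ : J * J = s • 1 + r • J) : Subalgebra F (Matrix ι ι F) where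
  carrier := {k | ∃ a b : F, k = a • 1 + b • J}
  mul_mem' := by
    rintro _ _ ⟨a, b, rfl⟩ ⟨c, d, rfl⟩
    refine ⟨a * c + b * d * s, a * d + b * c + b * d * r, ?_⟩
    simp only [mul_add, add_mul, smul_mul_assoc, mul_smul_comm, one_mul, mul_one, hJ]
    module
  add_mem' := by
    rintro _ _ ⟨a, b, rfl⟩ ⟨c, d, rfl⟩
    exact ⟨a + c, b + d, by module⟩
  algebraMap_mem' c := ⟨c, 0, by simp [Algebra.algebraMap_eq_smul_one]⟩

theorem mem_quadAlg {J : Matrix ι ι F} {s r : F} {hJ : J * J = s • 1 + r • J} {k : Matrix ι ι F} :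
    k ∈ quadAlg J s r hJ ↔ ∃ a b : F, k = a • 1 + b • J := Iff.rfl

theorem isFieldSubalgebra_quadAlg [Nonempty ι] {J : Matrix ι ι F} {s r : F} (hJ : J * J = s • 1 + r • J)
    (hirr : ∀ x : F, x * x ≠ s + r * x) : Geo.IsFieldSubalgebra 2 (quadAlg J s r hJ) := by
  refine ⟨?_, ?_, ?_⟩
  · rintro _ ⟨a, b, rfl⟩ _ ⟨c, d, rfl⟩
    simp only [mul_add, add_mul, smul_mul_assoc, mul_smul_comm, one_mul, mul_one]
    module
  · rintro _ ⟨a, b, rfl⟩ h0
    have hN : a * a + a * b * r - b * b * s ≠ 0 := by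
      intro hN
      by_cases hb : b = 0
      · subst hb
        have : a = 0 := by simpa using hN
        exact h0 (by simp [this])
      · apply hirr (-a / b)
        field_simp
        linear_combination hN
    obtain ⟨n, hn⟩ : ∃ n, n * (a * a + a * b * r - b * b * s) = 1 := ⟨_, inv_mul_cancel₀ hN⟩
    refine ⟨_, ⟨(a + b * r) * n, -b * n, rfl⟩, ?_⟩
    simp only [mul_add, add_mul, smul_mul_assoc, mul_smul_comm, one_mul, mul_one, hJ]
    match_scalars
    · linear_combination hn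
    · ring
  · have hli : LinearIndependent F ![(1 : Matrix ι ι F), J] := by
      rw [LinearIndependent.pair_iff]
      intro a b hab
      have hb : b = 0 := by
        by_contra hb
        have h1 : J = (-a / b) • (1 : Matrix ι ι F) := by
          apply smul_right_injective _ hb
          simp only [smul_smul, mul_div_cancel₀ _ hb]
          rw [neg_smul, eq_neg_iff_add_eq_zero, add_comm, hab]
        apply hirr (-a / b)
        rw [h1] at hJ
        simp only [smul_mul_assoc, mul_smul_comm, one_mul, smul_smul, ← add_smul] at hJ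
        exact smul_left_injective F one_ne_zero hJ
      subst hb
      simpa using hab
    have h2 := finrank_span_eq_card hli
    have h3 : Subalgebra.toSubmodule (quadAlg J s r hJ) = Submodule.span F (Set.range ![(1 : Matrix ι ι F), J]) := by
      ext k
      rw [Matrix.range_cons_cons_empty, Submodule.mem_span_pair]
      exact ⟨fun ⟨a, b, h⟩ => ⟨a, b, h.symm⟩, fun ⟨a, b, h⟩ => ⟨a, b, h.symm⟩⟩
    rw [← Subalgebra.finrank_toSubmodule, h3, h2, Fintype.card_fin]

theorem mem_normalizer_quadAlg {J : Matrix ι ι F} {s r : F} {hJ : J * J = s • 1 + r • J} {g : GL ι F}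
    (h : (g : Matrix ι ι F) * J * ((g⁻¹ : GL ι F) : Matrix ι ι F) ∈ quadAlg J s r hJ) :
    g ∈ Geo.subalgebraNormalizer (quadAlg J s r hJ) := by
  apply mem_subalgebraNormalizer_of
  rintro _ ⟨a, b, rfl⟩
  change conjMat g _ ∈ _
  rw [map_add, map_smul, map_smul]
  refine add_mem (Subalgebra.smul_mem _ ?_ _) (Subalgebra.smul_mem _ h _)
  change (g : Matrix ι ι F) * 1 * _ ∈ _
  rw [mul_one, Units.mul_inv]; exact one_mem _

theorem order_three_card_two [Fintype F] (hq : Fintype.card F = 2) (M : Matrix (Fin 2) (Fin 2) F)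
    (h : M * M = 1 + M) : M = !![0, 1; 1, 1] ∨ M = 1 + !![0, 1; 1, 1] := by
  have h2 : (1 : F) + 1 = 0 := by linear_combination two_eq_zero_of_card_two hq
  have e00 := congrFun (congrFun h 0) 0
  have e01 := congrFun (congrFun h 0) 1
  have e10 := congrFun (congrFun h 1) 0
  have e11 := congrFun (congrFun h 1) 1
  simp only [Matrix.mul_apply, Fin.sum_univ_two, Matrix.add_apply, Matrix.one_apply_eq,
    Matrix.one_apply_ne (show (0 : Fin 2) ≠ 1 by decide), Matrix.one_apply_ne (show (1 : Fin 2) ≠ 0 by decide)]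
    at e00 e01 e10 e11
  rw [Matrix.eta_fin_two M, Matrix.one_fin_two]
  rcases eq_zero_or_one hq (M 0 0) with a | a <;> rcases eq_zero_or_one hq (M 0 1) with b | b <;>
    rcases eq_zero_or_one hq (M 1 0) with c | c <;> rcases eq_zero_or_one hq (M 1 1) with d | d <;>
    simp_all

theorem mem_SL_card_two [Fintype F] (hq : Fintype.card F = 2) (g : GL ι F) : g ∈ Geo.specialLinear ι F :=
  Units.ext (eq_one_of_ne_zero hq (Units.ne_zero _))

/-- `GL_2(2) ⊗ GL_m(2)` normalises a field of order four. -/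
theorem tensor_card_two [Fintype F] (hq : Fintype.card F = 2) {n₂ : ℕ} (hn : 1 ≤ n₂)
    (e : ι ≃ Fin 2 × Fin n₂) (P : GL ι F) : ∃ K : Subalgebra F (Matrix ι ι F), Geo.IsFieldSubalgebra 2 K ∧
      Geo.tensorProductSubgroup 2 n₂ e P ≤ Geo.subalgebraNormalizer K ∧
      (2 ≤ n₂ → ∃ g ∈ Geo.specialLinear ι F, g ∈ Geo.subalgebraNormalizer K ∧
        g ∉ Geo.tensorProductSubgroup 2 n₂ e P) := by
  have h2 : (1 : F) + 1 = 0 := by linear_combination two_eq_zero_of_card_two hq
  have hτ := isTens_tensOf e P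
  set τ := tensOf e P
  let j : Matrix (Fin 2) (Fin 2) F := !![0, 1; 1, 1]
  have hj : j * j = 1 + j := by
    ext a b; fin_cases a <;> fin_cases b <;> simp [j, h2]
  let J : Matrix ι ι F := LinearMap.toMatrix' (hτ.tmap (Matrix.toLin' j) LinearMap.id)
  have hJv : ∀ u w, J *ᵥ τ u w = τ (j *ᵥ u) w := fun u w => by simp [J]
  have hext : ∀ A B : Matrix ι ι F, (∀ u w, A *ᵥ τ u w = B *ᵥ τ u w) → A = B := fun A B h =>
    Matrix.toLin'.injective (hτ.ext h)
  have hJ : J * J = (1 : F) • 1 + (1 : F) • J := hext _ _ fun u w => by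
    rw [← Matrix.mulVec_mulVec, hJv, hJv, Matrix.mulVec_mulVec, hj]
    simp only [Matrix.add_mulVec, hJv, one_smul, Matrix.one_mulVec, map_add, LinearMap.add_apply]
  have : Nonempty ι := ⟨e.symm (0, ⟨0, hn⟩)⟩
  refine ⟨quadAlg J 1 1 hJ, isFieldSubalgebra_quadAlg hJ fun x => ?_, fun g hg => ?_, fun hn2 => ?_⟩
  · rcases eq_zero_or_one hq x with rfl | rfl
    · simp
    · simp
  · obtain ⟨a, b, hab⟩ := (mem_tensorProductSubgroup_iff' e P g).1 hg
    obtain ⟨a, rfl⟩ := toLE.surjective a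
    apply mem_normalizer_quadAlg
    have h3 : ∀ u w, ((g : Matrix ι ι F) * J * ((g⁻¹ : GL ι F) : Matrix ι ι F)) *ᵥ τ u w =
        τ (conjMat a j *ᵥ u) w := by
      intro u w
      obtain ⟨u, rfl⟩ := (toLE a).surjective u
      obtain ⟨w, rfl⟩ := b.surjective w
      rw [conj_mulVec, ← hab, LinearEquiv.symm_apply_apply, hJv, hab]
      erw [conj_mulVec]
      rw [LinearEquiv.symm_apply_apply]
    have h4 : conjMat a j * conjMat a j = 1 + conjMat a j := by
      have : conjMat a j * conjMat a j = conjMat a (j * j) := by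
        change (_ * j * _) * (_ * j * _) = _ * (j * j) * _
        simp only [mul_assoc, Units.inv_mul_cancel_left]
      rw [this, hj, map_add]
      congr 1
      change (a : Matrix (Fin 2) (Fin 2) F) * 1 * _ = _
      rw [mul_one, Units.mul_inv]
    rcases order_three_card_two hq _ h4 with h5 | h5
    · exact ⟨0, 1, hext _ _ fun u w => by rw [h3, h5]; simp [hJv, j]⟩
    · exact ⟨1, 1, hext _ _ fun u w => by
        rw [h3, h5]
        simp only [Matrix.add_mulVec, hJv, one_smul, Matrix.one_mulVec, map_add, LinearMap.add_apply, j]⟩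
  · let i0 : Fin n₂ := ⟨0, by omega⟩
    let i1 : Fin n₂ := ⟨1, by omega⟩
    have hi : i0 ≠ i1 := by simp [i0, i1]
    let E : (Fin n₂ → F) →ₗ[F] (Fin n₂ → F) := (LinearMap.proj i1).smulRight (Pi.single i0 1)
    have hE : ∀ w, E (E w) = 0 := fun w => by simp [E, hi.symm]
    let N := hτ.tmap (Matrix.toLin' j) E
    have hN : N * N = 0 := hτ.ext fun u w => by simp [N, hE]
    let g : (ι → F) ≃ₗ[F] (ι → F) := LinearEquiv.ofLinearMap (1 + N) (1 - N)
      (by change (1 + N) * (1 - N) = 1; noncomm_ring [hN]) (by change (1 - N) * (1 + N) = 1; noncomm_ring [hN])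
    have hg : ∀ u w, g (τ u w) = τ u w + τ (j *ᵥ u) (E w) := fun u w => by simp [g, N]
    refine ⟨toLE.symm g, mem_SL_card_two hq _, mem_normalizer_quadAlg ⟨0, 1, ?_⟩, ?_⟩
    · rw [zero_smul, zero_add, one_smul, Units.mul_inv_eq_iff_eq_mul]
      refine hext _ _ fun u w => ?_
      rw [← Matrix.mulVec_mulVec, ← Matrix.mulVec_mulVec, toLE_symm_mulVec, toLE_symm_mulVec, hJv, hg, hg,
        Matrix.mulVec_add, hJv, hJv]
    · rw [mem_tensorProductSubgroup_iff', MulEquiv.apply_symm_apply]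
      rintro ⟨a, b, hab⟩
      have h3 : g (τ _ _) = τ _ _ := hab (Pi.single 0 1) (Pi.single i1 1)
      rw [hg] at h3
      have h4 := congrArg (hτ.ctr (LinearMap.proj i0)) h3
      have h5 := congrArg (hτ.ctr (LinearMap.proj i1)) h3
      simp only [map_add, IsTens.ctr_apply, LinearMap.proj_apply, E, LinearMap.smulRight_apply,
        Pi.single_eq_same, one_smul, Pi.single_eq_of_ne hi, Pi.single_eq_of_ne hi.symm, zero_smul,
        zero_add, add_zero] at h4 h5
      have a1 := congrFun h4 0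
      have a2 := congrFun h4 1
      have a3 := congrFun h5 0
      simp [j] at a1 a2 a3
      rcases a1 with a1 | a1
      · simp [a1] at a2
      · simp [a1] at a3

section forms
variable {A : Type*} [AddCommGroup A] [Module F A] {B : Type*} [AddCommGroup B] [Module F B]
  {V : Type*} [AddCommGroup V] [Module F V] {P P₁ P₂ : FP F}

theorem sim_of_tensor {τ : A →ₗ[F] B →ₗ[F] V} {S : PQ P V} {S₁ : PQ P₁ A} {S₂ : PQ P₂ B}
    (h₁ : S₁.Nondeg) (h₂ : S₂.Nondeg) [Nontrivial A] [Nontrivial B] {c : F} (hc : c ≠ 0)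
    (hT : ∀ u w u' w', S.B (τ u w) (τ u' w') = c * (S₁.B u u' * S₂.B w w')) {g : V ≃ₗ[F] V}
    (hg : g ∈ S.isom) {a : A ≃ₗ[F] A} {b : B ≃ₗ[F] B} (hab : ∀ u w, g (τ u w) = τ (a u) (b w)) :
    ∃ μ : F, μ ≠ 0 ∧ (∀ w w', μ * S₂.B (b w) (b w') = S₂.B w w') ∧
      ∀ u u', S₁.B (a u) (a u') = μ * S₁.B u u' := by
  obtain ⟨u', hu'⟩ := exists_ne (0 : A)
  obtain ⟨u, hu⟩ := h₁.exists_eq hu' 1
  obtain ⟨w', hw'⟩ := exists_ne (0 : B)
  obtain ⟨w, hw⟩ := h₂.exists_eq hw' 1
  have key : ∀ u w u' w', S₁.B (a u) (a u') * S₂.B (b w) (b w') = S₁.B u u' * S₂.B w w' := by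
    intro u w u' w'
    have := PQ.B_isom hg (τ u w) (τ u' w')
    rw [hab, hab, hT, hT] at this
    exact mul_left_cancel₀ hc this
  have k1 := key u w u' w'
  rw [hu, hw] at k1
  refine ⟨S₁.B (a u) (a u'), fun h0 => by simp [h0] at k1, fun x x' => by rw [key, hu, one_mul],
    fun x x' => ?_⟩
  have k2 := key x w x' w'
  rw [hw] at k2
  linear_combination S₁.B (a u) (a u') * k2 - S₁.B (a x) (a x') * k1

theorem tensor_decomp [FiniteDimensional F A] [Nontrivial A] {τ : A →ₗ[F] B →ₗ[F] (ι → F)} (hτ : IsTens τ)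
    {S : PQ P (ι → F)} {S₁ : PQ P₁ A} {S₂ : PQ P₂ B} (h₁ : S₁.Nondeg) {c : F} (hc : c ≠ 0)
    (hT : ∀ u w u' w', S.B (τ u w) (τ u' w') = c * (S₁.B u u' * S₂.B w w')) {t : ℕ} (ht : 2 ≤ t)
    (b : Basis (Fin t) F B) (hb1 : ∀ i, S₂.B (b i) (b i) ≠ 0) (hb2 : ∀ i j, i ≠ j → S₂.B (b i) (b j) = 0) :
    Geo.IsNondegenerateMDecomposition S.B (finrank F A) (fun i => LinearMap.range (τ.flip (b i))) := by
  refine ⟨isMDecomposition_of_projs (hτ.projs b) ht Module.finrank_pos fun i =>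
    LinearMap.finrank_range_of_inj (hτ.left_inj (b.ne_zero i)), fun i => ?_, ?_⟩
  · rw [← S.nondegOn_iff_geo]
    rintro _ ⟨u, rfl⟩ h
    have : u = 0 := h₁ u fun y => by
      have := h _ ⟨y, rfl⟩
      simpa [hT, hc, hb1] using this
    simp [this]
  · rintro i j hij _ ⟨u, rfl⟩ _ ⟨u', rfl⟩
    simp [hT, hb2 i j hij]

theorem tensor_decomp_mem {τ : A →ₗ[F] B →ₗ[F] (ι → F)} {t m : ℕ} {b : Fin t → B}
    (hD : Geo.IsMDecomposition m (fun i => LinearMap.range (τ.flip (b i)))) {g : GL ι F}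
    {a : A ≃ₗ[F] A} {k : B ≃ₗ[F] B} (hab : ∀ u w, toLE g (τ u w) = τ (a u) (k w))
    (hk : ∀ i, ∃ j, ∃ c : F, k (b i) = c • b j) :
    g ∈ Geo.decompositionStabilizer (fun i => LinearMap.range (τ.flip (b i))) := by
  refine mem_decompositionStabilizer_of hD fun i => ?_
  obtain ⟨j, c, hc⟩ := hk i
  refine ⟨j, ?_⟩
  rintro _ ⟨u, rfl⟩
  exact ⟨c • a u, by simp [hab, hc]⟩

theorem tau_mem_decomp {S : PQ P (ι → F)} {t m : ℕ} {D : Fin t → Submodule F (ι → F)}
    (hD : Geo.IsNondegenerateMDecomposition S.B m D) {i : Fin t} {v : ι → F} (hv : v ∈ D i) {c : F}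
    (h : S.TauOK v c) : toLE.symm (S.tau v c h) ∈ Geo.decompositionStabilizer D := by
  refine mem_decompositionStabilizer_of hD.decomp fun j => ⟨j, fun x hx => ?_⟩
  rw [MulEquiv.apply_symm_apply]
  by_cases hj : j = i
  · subst hj; rw [PQ.tau_apply]; exact add_mem hx (Submodule.smul_mem _ _ hv)
  · rwa [S.tau_apply_of_perp _ _ _ (hD.orthogonal j i hj x hx v hv)]

theorem exists_orthogonal_card_three [Fintype F] (hq : Fintype.card F = 3) [FiniteDimensional F B]
    (S : PQ (FP.orth F) B) (hS : S.Nondeg) (hd : finrank F B = 3) :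
    ∃ (b : Basis (Fin 3) F B) (ε : F), ε ≠ 0 ∧ (∀ i, S.B (b i) (b i) = ε) ∧
      ∀ i j, i ≠ j → S.B (b i) (b j) = 0 := by
  have h3 := three_eq_zero_of_card_three hq
  have h2 : (2 : F) ≠ 0 := fun h => one_ne_zero (by linear_combination h3 - h : (1 : F) = 0)
  obtain ⟨b, -, h1, h4, h5⟩ := exists_orthogonal_family S (fun x => S.B x x ≠ 0) (fun _ h => h)
    (fun U hU h0 => exists_B_self_ne_orth h2 S hU h0) 3 ⊤ (S.nondegOn_top.2 hS) (by simpa using hd)
  have hsp : ∀ x, x ∈ Submodule.span F (Set.range b) := fun x => by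
    rw [h5 x trivial]
    exact Submodule.sum_mem _ fun i _ => Submodule.smul_mem _ _ (Submodule.subset_span ⟨i, rfl⟩)
  have fin : ∀ b' : Fin 3 → B, (∀ i, b i ∈ Submodule.span F (Set.range b')) → S.B (b' 0) (b' 0) ≠ 0 →
      S.B (b' 1) (b' 1) = S.B (b' 0) (b' 0) → S.B (b' 2) (b' 2) = S.B (b' 0) (b' 0) →
      S.B (b' 0) (b' 1) = 0 → S.B (b' 0) (b' 2) = 0 → S.B (b' 1) (b' 2) = 0 →
      ∃ (b : Basis (Fin 3) F B) (ε : F), ε ≠ 0 ∧ (∀ i, S.B (b i) (b i) = ε) ∧
      ∀ i j, i ≠ j → S.B (b i) (b j) = 0 := by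
    intro b' a1 a2 a3 a4 a5 a6 a7
    have c1 : ∀ i, S.B (b' i) (b' i) = S.B (b' 0) (b' 0) := fun i => by
      fin_cases i
      · rfl
      · exact a3
      · exact a4
    have c2 : ∀ i j, i ≠ j → S.B (b' i) (b' j) = 0 := fun i j hij => by
      fin_cases i <;> fin_cases j
      exacts [(hij rfl).elim, a5, a6, S.B_comm_zero a5, (hij rfl).elim, a7, S.B_comm_zero a6,
        S.B_comm_zero a7, (hij rfl).elim]
    obtain ⟨c, hc⟩ := exists_basis_of_orthogonal S b' (fun i => by rw [c1]; exact a2) c2 (fun x =>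
      (Submodule.span_le.2 (Set.range_subset_iff.2 a1) : Submodule.span F (Set.range b) ≤ _) (hsp x))
    exact ⟨c, _, a2, fun i => by rw [hc, c1], fun i j hij => by rw [hc, hc, c2 i j hij]⟩
  have aux : ∀ i j k : Fin 3, i ≠ j → i ≠ k → j ≠ k → (∀ l, l = i ∨ l = j ∨ l = k) →
      S.B (b j) (b j) = S.B (b i) (b i) → S.B (b k) (b k) ≠ S.B (b i) (b i) →
      ∃ (b : Basis (Fin 3) F B) (ε : F), ε ≠ 0 ∧ (∀ i, S.B (b i) (b i) = ε) ∧
      ∀ i j, i ≠ j → S.B (b i) (b j) = 0 := by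
    intro i j k hij hik hjk hall e1 e2
    have e3 : S.B (b k) (b k) = - S.B (b i) (b i) := by
      have s1 := pow_card_pred (k := 2) hq (h1 k)
      have s2 := pow_card_pred (k := 2) hq (h1 i)
      have : (S.B (b k) (b k) - S.B (b i) (b i)) * (S.B (b k) (b k) + S.B (b i) (b i)) = 0 := by
        linear_combination s1 - s2
      exact eq_neg_of_add_eq_zero_left ((mul_eq_zero.1 this).resolve_left (sub_ne_zero.2 e2))
    have m0 : b k ∈ Submodule.span F (Set.range ![b k, b i + b j, b i - b j]) :=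
      Submodule.subset_span ⟨0, rfl⟩
    have m1 : b i + b j ∈ Submodule.span F (Set.range ![b k, b i + b j, b i - b j]) :=
      Submodule.subset_span ⟨1, rfl⟩
    have m2 : b i - b j ∈ Submodule.span F (Set.range ![b k, b i + b j, b i - b j]) :=
      Submodule.subset_span ⟨2, rfl⟩
    refine fin ![b k, b i + b j, b i - b j] (fun l => ?_) (h1 k) ?_ ?_ ?_ ?_ ?_
    · rcases hall l with rfl | rfl | rfl
      · convert Submodule.smul_mem _ (2 : F)⁻¹ (add_mem m1 m2) using 1
        match_scalars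
        · field_simp; ring
        · ring
      · convert Submodule.smul_mem _ (2 : F)⁻¹ (sub_mem m1 m2) using 1
        match_scalars
        · field_simp; ring
        · ring
      · exact m0
    · simp [h4 _ _ hij, h4 _ _ hij.symm, e1, e3]; linear_combination S.B (b i) (b i) * h3
    · simp [h4 _ _ hij, h4 _ _ hij.symm, e1, e3]; linear_combination S.B (b i) (b i) * h3
    · simp [h4 _ _ hik.symm, h4 _ _ hjk.symm]
    · simp [h4 _ _ hik.symm, h4 _ _ hjk.symm]
    · simp [h4 _ _ hij, h4 _ _ hij.symm, e1]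
  by_cases c1 : S.B (b 1) (b 1) = S.B (b 0) (b 0)
  · by_cases c2 : S.B (b 2) (b 2) = S.B (b 0) (b 0)
    · exact fin b (fun i => Submodule.subset_span ⟨i, rfl⟩) (h1 0) c1 c2 (h4 _ _ (by decide))
        (h4 _ _ (by decide)) (h4 _ _ (by decide))
    · exact aux 0 1 2 (by decide) (by decide) (by decide) (by decide) c1 c2
  · by_cases c2 : S.B (b 2) (b 2) = S.B (b 0) (b 0)
    · exact aux 0 2 1 (by decide) (by decide) (by decide) (by decide) c2 c1
    · refine aux 1 2 0 (by decide) (by decide) (by decide) (by decide) ?_ (Ne.symm c1)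
      have s0 := pow_card_pred (k := 2) hq (h1 0)
      have s1 := pow_card_pred (k := 2) hq (h1 1)
      have s2 := pow_card_pred (k := 2) hq (h1 2)
      have t1 : (S.B (b 1) (b 1) - S.B (b 0) (b 0)) * (S.B (b 1) (b 1) + S.B (b 0) (b 0)) = 0 := by
        linear_combination s1 - s0
      have t2 : (S.B (b 2) (b 2) - S.B (b 0) (b 0)) * (S.B (b 2) (b 2) + S.B (b 0) (b 0)) = 0 := by
        linear_combination s2 - s0
      linear_combination (mul_eq_zero.1 t2).resolve_left (sub_ne_zero.2 c2) -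
        (mul_eq_zero.1 t1).resolve_left (sub_ne_zero.2 c1)

theorem B_eq_sum_orth {T : Type*} [Fintype T] (S : PQ P B) (b : Basis T F B) {ε : F}
    (h1 : ∀ i, S.B (b i) (b i) = ε) (h2 : ∀ i j, i ≠ j → S.B (b i) (b j) = 0) (x y : B) :
    S.B x y = ε * ∑ i, b.repr x i * P.σ (b.repr y i) := by
  classical
  conv_lhs => rw [← b.sum_repr x, ← b.sum_repr y, S.B_sum_left]
  rw [Finset.mul_sum]
  refine Finset.sum_congr rfl fun i _ => ?_
  rw [S.B_sum_right, Finset.sum_eq_single i]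
  · simp [h1]; ring
  · intro j _ hj; simp [h2 i j hj.symm]
  · simp

/-- Similarities of a three-dimensional orthogonal space over `F_3` are monomial. -/
theorem sim_monomial_card_three [Fintype F] (hq : Fintype.card F = 3) (S : PQ (FP.orth F) B)
    (b : Basis (Fin 3) F B) {ε : F} (hε : ε ≠ 0) (h1 : ∀ i, S.B (b i) (b i) = ε)
    (h2 : ∀ i j, i ≠ j → S.B (b i) (b j) = 0) {k : B ≃ₗ[F] B} {μ : F}
    (hk : ∀ w w', μ * S.B (k w) (k w') = S.B w w') (i : Fin 3) : ∃ j, ∃ c : F, k (b i) = c • b j := by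
  have h3 := three_eq_zero_of_card_three hq
  let M : Matrix (Fin 3) (Fin 3) F := fun i j => b.repr (k (b i)) j
  have hM : μ • (M * M.transpose) = 1 := by
    ext i j
    have := hk (b i) (b j)
    rw [B_eq_sum_orth S b h1 h2] at this
    apply mul_left_cancel₀ hε
    simp only [Matrix.smul_apply, M, smul_eq_mul]
    rw [mul_left_comm]
    refine this.trans ?_
    by_cases hij : i = j
    · subst hij; simp [h1]
    · simp [h2 i j hij, Matrix.one_apply_ne hij]
  have hdet := congrArg Matrix.det hM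
  rw [Matrix.det_smul, Matrix.det_mul, Matrix.det_transpose, Matrix.det_one, Fintype.card_fin] at hdet
  have hd0 : M.det ≠ 0 := fun h => by simp [h] at hdet
  have hμ0 : μ ≠ 0 := fun h => by simp [h] at hdet
  have hμ : μ = 1 := by
    linear_combination hdet - μ ^ 3 * pow_card_pred (k := 2) hq hd0 - μ * pow_card_pred (k := 2) hq hμ0
  have h4 := congrFun (congrFun hM i) i
  simp only [hμ, one_smul, Matrix.mul_apply, Matrix.transpose_apply, Matrix.one_apply_eq,
    Fin.sum_univ_three] at h4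
  have h5 := b.sum_repr (k (b i))
  rw [Fin.sum_univ_three] at h5
  change M i 0 • _ + M i 1 • _ + M i 2 • _ = _ at h5
  have sq : ∀ x : F, x ≠ 0 → x * x = 1 := fun x hx => by rw [← sq]; exact pow_card_pred (k := 2) hq hx
  have one : (1 : F) ≠ 0 := one_ne_zero
  by_cases a0 : M i 0 = 0 <;> by_cases a1 : M i 1 = 0 <;> by_cases a2 : M i 2 = 0
  · simp [a0, a1, a2] at h4
  · exact ⟨2, M i 2, by rw [← h5, a0, a1]; simp⟩
  · exact ⟨1, M i 1, by rw [← h5, a0, a2]; simp⟩
  · exact (one (by linear_combination h4 - sq _ a1 - sq _ a2 - M i 0 * a0)).elim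
  · exact ⟨0, M i 0, by rw [← h5, a1, a2]; simp⟩
  · exact (one (by linear_combination h4 - sq _ a0 - sq _ a2 - M i 1 * a1)).elim
  · exact (one (by linear_combination h4 - sq _ a0 - sq _ a1 - M i 2 * a2)).elim
  · exact (one (by linear_combination h3 - h4 + sq _ a0 + sq _ a1 + sq _ a2 - h3 - h3 + h3 + h3)).elim

end forms

theorem nontrivial_fin_pi {n : ℕ} (h : 1 ≤ n) : Nontrivial (Fin n → F) :=
  haveI : Nonempty (Fin n) := ⟨⟨0, h⟩⟩
  inferInstance

/-- `Sp_k(3) ⊗ O_3(3)` is imprimitive. -/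
theorem symp_tensor_card_three [Fintype F] (hq : Fintype.card F = 3) {f : (ι → F) → (ι → F) → F}
    (hf : Geo.IsSymplecticForm f) {n₁ : ℕ} (hn : 2 ≤ n₁) {e : ι ≃ Fin n₁ × Fin 3} {P : GL ι F}
    {f₁ : (Fin n₁ → F) → (Fin n₁ → F) → F} {f₂ : (Fin 3 → F) → (Fin 3 → F) → F}
    (hf₁ : Geo.IsSymplecticForm f₁) (hf₂ : Geo.IsSymmetricForm f₂)
    (hT : Geo.IsTensorFormStructure id f f₁ f₂ e P) :
    ∃ D : Fin 3 → Submodule F (ι → F), Geo.IsNondegenerateMDecomposition f n₁ D ∧
      Geo.tensorProductSubgroup n₁ 3 e P ⊓ preserving (glToMat ι F) f ≤ Geo.decompositionStabilizer D ∧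
      ∃ g ∈ preserving (glToMat ι F) f, g ∈ Geo.decompositionStabilizer D ∧
        g ∉ Geo.tensorProductSubgroup n₁ 3 e P := by
  have h3 := three_eq_zero_of_card_three hq
  have h2 : (2 : F) ≠ 0 := fun h => one_ne_zero (by linear_combination h3 - h : (1 : F) = 0)
  have := nontrivial_fin_pi (F := F) (n := n₁) (by omega)
  obtain ⟨c, hc, hT'⟩ := tensorForm_apply (sympPQ hf₁) (symmPQ h2 hf₂) (fun _ => rfl) (fun _ => rfl) hT
  obtain ⟨b, ε, hε, h4, h5⟩ := exists_orthogonal_card_three hq _ (symmPQ_nondeg h2 hf₂) (by simp)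
  have hτ := isTens_tensOf e P
  have hD := tensor_decomp hτ (S := sympPQ hf) (sympPQ_nondeg hf₁) hc hT' (by norm_num) b
    (fun i => by rw [h4]; exact hε) h5
  rw [finrank_pi', Fintype.card_fin] at hD
  refine ⟨_, hD, fun g hg => ?_, ?_⟩
  · obtain ⟨a, k, hak⟩ := (mem_tensorProductSubgroup_iff' e P g).1 hg.1
    obtain ⟨μ, -, h6, -⟩ := sim_of_tensor (S := sympPQ hf) (sympPQ_nondeg hf₁) (symmPQ_nondeg h2 hf₂) hc hT'
      ((mem_preserving_iff_symp hf g).1 hg.2) hak
    exact tensor_decomp_mem hD.decomp hak (sim_monomial_card_three hq _ b hε h4 h5 h6)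
  · obtain ⟨u, hu⟩ := exists_ne (0 : Fin n₁ → F)
    have hv := hτ.ne_zero hu (b.ne_zero 0)
    have hT1 := (sympPQ hf).symp_tauOK (tensOf e P u (b 0)) 1
    refine ⟨toLE.symm ((sympPQ hf).tau _ _ hT1), ?_, tau_mem_decomp (S := sympPQ hf) hD (i := 0) ⟨u, rfl⟩ _, ?_⟩
    · rw [mem_preserving_iff_symp hf, ← toLE_eq_glEquiv, MulEquiv.apply_symm_apply]
      exact PQ.tau_mem _ _ _ _
    · rw [mem_tensorProductSubgroup_iff', MulEquiv.apply_symm_apply]
      exact hτ.not_mem_TStab (by simpa using hn) (by simp) (lin_ne_zero (sympPQ_nondeg hf) hv) hv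
        (fun z => by simp)

/-- `GU_2(2) ⊗ GU_k(2)` is imprimitive. -/
theorem unit_tensor_card_four [Fintype F] (hq : Fintype.card F = 2 ^ 2) {f : (ι → F) → (ι → F) → F}
    (hf : Geo.IsUnitaryForm (frobQ hq) f) {n₂ : ℕ} (hn : 2 ≤ n₂) {e : ι ≃ Fin 2 × Fin n₂} {P : GL ι F}
    {f₁ : (Fin 2 → F) → (Fin 2 → F) → F} {f₂ : (Fin n₂ → F) → (Fin n₂ → F) → F}
    (hf₁ : Geo.IsUnitaryFormPow 2 f₁) (hf₂ : Geo.IsUnitaryFormPow 2 f₂)
    (hT : Geo.IsTensorFormStructure (fun x : F => x ^ 2) f f₁ f₂ e P) :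
    ∃ D : Fin 2 → Submodule F (ι → F), Geo.IsNondegenerateMDecomposition f n₂ D ∧
      Geo.tensorProductSubgroup 2 n₂ e P ⊓ preserving (glToMat ι F) f ≤ Geo.decompositionStabilizer D ∧
      ∃ g ∈ preserving (glToMat ι F) f ⊓ Geo.specialLinear ι F, g ∈ Geo.decompositionStabilizer D ∧
        g ∉ Geo.tensorProductSubgroup 2 n₂ e P := by
  have := nontrivial_fin_pi (F := F) (n := n₂) (by omega)
  have hf₁' := isUnitaryForm_of_pow hq hf₁
  have hf₂' := isUnitaryForm_of_pow hq hf₂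
  obtain ⟨c, hc, hT'⟩ := tensorForm_apply (unitPQ hf₁') (unitPQ hf₂') (fun _ => rfl) (fun _ => rfl) hT
  obtain ⟨b', -, h4, h5, h6⟩ := exists_orthonormal_unit (unit_ne hf₁') (unitPQ hf₁') 2 ⊤
    ((unitPQ hf₁').nondegOn_top.2 (unitPQ_nondeg hf₁')) (by simp)
  obtain ⟨b, hb⟩ := exists_basis_of_orthogonal (unitPQ hf₁') b' (fun i => by rw [h4]; exact one_ne_zero) h5
    (fun x => by
      rw [h6 x trivial]
      exact Submodule.sum_mem _ fun i _ => Submodule.smul_mem _ _ (Submodule.subset_span ⟨i, rfl⟩))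
  simp only [← hb] at h4 h5
  have hτ := isTens_tensOf e P
  have hD := tensor_decomp hτ.flip (S := unitPQ hf) (S₂ := unitPQ hf₁') (unitPQ_nondeg hf₂') hc
    (fun u w u' w' => by rw [mul_comm ((unitPQ hf₂').B u u')]; exact hT' w u w' u') le_rfl b
    (fun i => by rw [h4]; exact one_ne_zero) h5
  rw [finrank_pi', Fintype.card_fin] at hD
  refine ⟨_, hD, fun g hg => ?_, ?_⟩
  · obtain ⟨a, k, hak⟩ := (mem_tensorProductSubgroup_iff' e P g).1 hg.1
    obtain ⟨μ, hμ, -, h7⟩ := sim_of_tensor (S := unitPQ hf) (unitPQ_nondeg hf₁') (unitPQ_nondeg hf₂') hc hT'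
      ((mem_preserving_iff_unit hf g).1 hg.2) hak
    refine tensor_decomp_mem hD.decomp (a := k) (k := a) (fun u w => hak w u) fun i => ?_
    have h8 := h7 (b i) (b i)
    rw [h4, B_eq_sum_orth _ b h4 h5, Fin.sum_univ_two] at h8
    have h9 := b.sum_repr (a (b i))
    rw [Fin.sum_univ_two] at h9
    rcases norm_one_two hq (a := b.repr (a (b i)) 0) (b := b.repr (a (b i)) 1) (by
      intro h0; apply hμ; simp only [FP.unit_σ, RingHom.coe_coe, frobQ_apply] at h8
      linear_combination h0 - h8) with h10 | h10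
    · exact ⟨1, _, by rw [← h9, h10, zero_smul, zero_add]⟩
    · exact ⟨0, _, by rw [← h9, h10, zero_smul, add_zero]⟩
  · obtain ⟨u, -, hu, hus⟩ := (trP_of_unitary hf₂').exists_sing_of_two_le (unitPQ hf₂') ⊤ (by simpa using hn)
    have hv := hτ.ne_zero (b.ne_zero 0) hu
    have hs : (unitPQ hf).Sing (tensOf e P (b 0) u) := by
      rw [PQ.unit_sing, unitPQ_B, hT', hus.B_self]; simp
    obtain ⟨l, hl, hl0⟩ := (trP_of_unitary hf).ex
    have hT1 := tauOK_of_sing hs hl
    refine ⟨toLE.symm ((unitPQ hf).tau _ _ hT1), ⟨?_, ?_⟩,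
      tau_mem_decomp (S := unitPQ hf) hD (i := 0) ⟨u, rfl⟩ _, ?_⟩
    · exact (mem_preserving_iff_unit hf _).2 (by
        rw [← toLE_eq_glEquiv, MulEquiv.apply_symm_apply]; exact PQ.tau_mem _ _ _ _)
    · exact (mem_SL_iff _).2 (by rw [MulEquiv.apply_symm_apply]; exact det_tau_sing _ hs _ _)
    · rw [mem_tensorProductSubgroup_iff', MulEquiv.apply_symm_apply]
      exact hτ.not_mem_TStab (by simp) (by simpa using hn) (φ := l • (unitPQ hf).lin _)
        (smul_ne_zero hl0 (lin_ne_zero (unitPQ_nondeg hf) hv)) hv (fun z => by simp)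

end Cfsg.Agent.H7
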