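import Cfsg.Agent.H7.E6d

/-!
The 27-dimensional module of `E₆` in characteristic two: lifts, the cubic form, the diagonal automorphism.
-/

set_option autoImplicit false
set_option linter.unusedSectionVars false

namespace Cfsg.Agent.H7.E6

open Cfsg.Lie Bit H6.MP Matrix Finset

/-- coding of the basis of the Lie algebra -/
abbrev eA : chevE6.Idx ≃ Fin 78 := enc chevE6

/-- coding of the basis of the module -/
abbrev eV : Fin 27 ≃ Fin 27 := Equiv.refl _

variable {K : Type*} [Field K] [CharP K 2]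

variable (K) in
/-- the representation of the Lie algebra -/
def rho : (chevE6.Idx → K) →ₗ[K] Matrix (Fin 27) (Fin 27) K := stk eV eA Φ

theorem rho_inj : Function.Injective (rho K) := stk_inj eV eA chk_inj

/-- the cubic form on sequences -/
def cubF (g : ℕ → K) : K := Tr.foldr (fun x acc => g x.1 * g x.2.1 * g x.2.2 + acc) 0

/-- the cubic form -/
def cub (w : Fin 27 → K) : K := cubF fun i => if h : i < 27 then w ⟨i, h⟩ else 0

theorem eval_cubE (l : List K) (f : ℕ → Expr) : (cubE f).eval l = cubF fun i => (f i).eval l := by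
  rw [cubE, cubF]
  induction Tr with
  | nil => rfl
  | cons x L ih => simp only [List.foldr_cons, Expr.eval, ih]

theorem cubF_eq {g : ℕ → K} {w : Fin 27 → K} (h : ∀ i : Fin 27, g i = w i) : cubF g = cub w := by
  have : ∀ x ∈ Tr, x.1 < 27 ∧ x.2.1 < 27 ∧ x.2.2 < 27 := by decide
  rw [cub, cubF, cubF]
  generalize Tr = L at this
  induction L with
  | nil => rfl
  | cons x L ih =>
    obtain ⟨h1, h2, h3⟩ := this x (by simp)
    simp only [List.foldr_cons, ih fun y hy => this y (List.mem_cons_of_mem _ hy), h1, h2, h3, dif_pos,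
      ← h]

theorem cub_smul (c : K) (w : Fin 27 → K) : cub (c • w) = c ^ 3 * cub w := by
  rw [← cubF_eq (g := fun i => c * if h : i < 27 then w ⟨i, h⟩ else 0) (by simp), cub, cubF, cubF]
  induction Tr with
  | nil => simp
  | cons x L ih => simp only [List.foldr_cons, ih]; ring

theorem cub_v0 : cub (toV K eV v0) = 1 := by
  rw [← cubF_eq (g := bit K v0) (w := toV K eV v0) fun _ => rfl]
  simp [cubF, Tr, bit, v0, Nat.testBit]

theorem eval_rowE (l : List K) (A i : ℕ) :
    (rowE A i).eval l = ∑ j ∈ range 27, bit K A (27 * j + i) * l.getD j 0 := by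
  rw [rowE]
  generalize 27 = m at *
  suffices ∀ p : ℕ, Expr.eval l (Nat.rec (motive := fun _ => Expr) .zero (fun j acc => Bool.rec
    (motive := fun _ => Expr) acc (.add acc (.var j)) (bt A (Nat.add (Nat.mul m j) i))) p) =
      ∑ j ∈ range p, bit K A (m * j + i) * l.getD j 0 from this m
  intro p
  induction p with
  | zero => rfl
  | succ p ih =>
    rw [sum_range_succ, ← ih]
    simp only [bt_eq, bit, Nat.add_eq, Nat.mul_eq]
    cases A.testBit (m * p + i) <;> simp [Expr.eval]

theorem cub_of_chk {rs : List Rule} {c : Expr} {P : ℕ × ℕ} (h : cubChk rs c P = true) (t : K)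
    (w : Fin 27 → K) (hrs : ∀ r ∈ rs, r.Holds (List.ofFn w ++ [t])) :
    cub (toQ t eV eV P *ᵥ w) = c.eval (List.ofFn w ++ [t]) * cub w := by
  have h1 : ∀ i : Fin 27, (List.ofFn w ++ [t]).getD i 0 = w i := fun i => by
    rw [List.getD_append _ _ _ _ (by simp), List.getD_eq_getElem _ _ (by simp), List.getElem_ofFn]
  have h2 : (List.ofFn w ++ [t]).getD 27 0 = t := by
    simp [List.getD_eq_getElem?_getD]
  have := eq_of_eqCheck 2 (List.ofFn w ++ [t]) (by simp) rs hrs 3 _ _ h
  simp only [Expr.eval, eval_cubE, eval_rowE, h2] at this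
  rw [← cubF_eq (g := fun i => (List.ofFn w ++ [t]).getD i 0) (w := w) h1, ← this]
  refine (cubF_eq fun i => ?_).symm
  simp only [sum_range, h1]
  simp [toQ, toM, mulVec, dotProduct, add_mul, sum_add_distrib, mul_sum, mul_assoc]

theorem root_chk {r : ℕ} (hr : r < 72) : rootChk r = true := by
  obtain ⟨a, b, hb, rfl⟩ : ∃ a b, b < 12 ∧ r = 12 * a + b := ⟨r / 12, r % 12, by omega, by omega⟩
  have : a < 6 := by omega
  interval_cases a
  exacts [all_spec chk_root0 b hb, all_spec chk_root1 b hb, all_spec chk_root2 b hb,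
    all_spec chk_root3 b hb, all_spec chk_root4 b hb, all_spec chk_root5 b hb]

/-- the lift of `x_r(t)` -/
def xl (r : ℕ) (t : K) : Matrix (Fin 27) (Fin 27) K := if r < 72 then 1 + t • toM K eV eV (E r) else 1

theorem lift_x (r : ℕ) (t : K) : Lift (rho K) (chevE6.x K r t) (xl r t) := by
  by_cases hr : r < 72
  · have := root_chk hr
    simp only [rootChk, Bool.and_eq_true] at this
    rw [ChevalleyDatum.x, dif_pos (by exact hr), xMat_eq chevE6 K ⟨r, hr⟩ this.1.1.1.1, xl, if_pos hr]
    have := lift_of_xlChk eV eA this.1.1.1.2 t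
    rw [toM_zero eV eV, smul_zero, add_zero] at this
    exact this
  · rw [ChevalleyDatum.x, dif_neg (by exact hr), xl, if_neg hr]; exact Lift.one

theorem xl_sq (r : ℕ) (t : K) : xl r t * xl r t = 1 := by
  rw [xl]
  split_ifs with hr
  · have := root_chk hr
    simp only [rootChk, Bool.and_eq_true, Nat.beq_eq] at this
    have := congrArg (toM K eV eV) this.1.1.2
    rw [toM_mul eV eV eV, toM_zero] at this
    simp only [mul_add, add_mul, mul_one, one_mul, smul_mul_assoc, mul_smul_comm, this, smul_zero, add_zero,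
      add_assoc, CharTwo.add_self_eq_zero]
  · simp

theorem cub_xl (r : ℕ) (t : K) (w : Fin 27 → K) : cub (xl r t *ᵥ w) = cub w := by
  rw [xl]
  split_ifs with hr
  · have := root_chk hr
    simp only [rootChk, Bool.and_eq_true] at this
    simpa [toQ, toM_one eV, Expr.eval] using cub_of_chk this.1.2 t w (by simp)
  · simp

theorem x_sq (r : ℕ) (t : K) : chevE6.x K r t * chevE6.x K r t = 1 :=
  Lift.uniq rho_inj isUnit_one (xl_sq r t ▸ (lift_x r t).mul (lift_x r t)) Lift.one

/-- a word in the root elements -/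
def wU (w : List (ℕ × K)) : GL chevE6.Idx K :=
  (w.map fun p => ⟨_, _, x_sq p.1 p.2, x_sq p.1 p.2⟩).prod

/-- its lift -/
def wV (w : List (ℕ × K)) : GL (Fin 27) K :=
  (w.map fun p => ⟨_, _, xl_sq p.1 p.2, xl_sq p.1 p.2⟩).prod

theorem coe_wU (w : List (ℕ × K)) : (wU w : Matrix _ _ K) = chevE6.wordMat K w := by
  induction w <;> simp_all [wU, ChevalleyDatum.wordMat]

theorem coe_wV (w : List (ℕ × K)) : (wV w : Matrix _ _ K) = (w.map fun p => xl p.1 p.2).prod := by
  induction w <;> simp_all [wV]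

theorem wU_mem {S : Set (List (ℕ × K))} {w : List (ℕ × K)} (h : w ∈ S) : wU w ∈ chevE6.genSubgroup K S :=
  Subgroup.subset_closure ⟨w, h, coe_wU w⟩

theorem gen_le {S : Set (List (ℕ × K))} {H : Subgroup (GL chevE6.Idx K)} (h : ∀ w ∈ S, wU w ∈ H) :
    chevE6.genSubgroup K S ≤ H :=
  (Subgroup.closure_le _).2 fun _ ⟨w, hw, e⟩ => (Units.ext (e.trans (coe_wU w).symm) : _ = wU w) ▸ h w hw

theorem lift_w (w : List (ℕ × K)) : Lift (rho K) (wU w) (wV w) := by
  rw [coe_wU, coe_wV, ChevalleyDatum.wordMat]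
  induction w with
  | nil => exact Lift.one
  | cons p w ih => exact (lift_x p.1 p.2).mul ih

theorem cub_w (w : List (ℕ × K)) (x : Fin 27 → K) : cub ((wV w : Matrix _ _ K) *ᵥ x) = cub x := by
  rw [coe_wV]
  induction w with
  | nil => simp
  | cons p w ih => rw [List.map_cons, List.prod_cons, ← mulVec_mulVec, cub_xl, ih]

variable (K) in
/-- the stabiliser of the cubic form -/
def cubSub : Subgroup (GL (Fin 27) K) where
  carrier := {M | ∀ x, cub ((M : Matrix _ _ K) *ᵥ x) = cub x}
  one_mem' := by simp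
  mul_mem' h h' x := by rw [Units.val_mul, ← mulVec_mulVec, h, h']
  inv_mem' h x := by rw [← h, mulVec_mulVec, Units.mul_inv, one_mulVec]

theorem exists_lift {S : Set (List (ℕ × K))} {g : GL chevE6.Idx K} (hg : g ∈ chevE6.genSubgroup K S) :
    ∃ M ∈ cubSub K, Lift (rho K) g M := by
  obtain ⟨p, hp, rfl⟩ := gen_le (H := (liftSub (rho K) ⊓ (cubSub K).comap (MonoidHom.snd _ _)).map
    (MonoidHom.fst _ _)) (fun w _ => ⟨(wU w, wV w), ⟨lift_w w, cub_w w⟩, rfl⟩) hg
  exact ⟨p.2, hp.2, hp.1⟩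

theorem schur {M : Matrix (Fin 27) (Fin 27) K} (h : Lift (rho K) 1 M) : ∃ c : K, M = c • 1 := by
  have hX : ∀ j, M * toM K eV eV (Bit.col 729 Φ (j % 78)) = toM K eV eV (Bit.col 729 Φ (j % 78)) * M := fun j => by
    have := h (Pi.single (eA.symm ⟨j % 78, Nat.mod_lt _ (by decide)⟩) 1)
    rw [one_mulVec, rho, stk_single, Equiv.apply_symm_apply] at this
    exact this.symm
  have := eig_of_rk1 eV 0 chk_schur.1 (by simpa using hX 6) (by simpa using hX 17)
  exact ⟨_, scalar_of_span eV chk_schur.2 hX this this⟩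

theorem lift_ratio {g : GL chevE6.Idx K} {M M' : GL (Fin 27) K} (h : Lift (rho K) g M)
    (h' : Lift (rho K) g M') : ∃ c : K, M.1 = c • M'.1 := by
  have := h.mul h'.inv
  rw [Units.mul_inv] at this
  obtain ⟨c, hc⟩ := schur this
  exact ⟨c, by rw [(Units.mul_inv_eq_iff_eq_mul _).1 hc, smul_mul_assoc, one_mul]⟩

/-! ### The diagonal automorphism -/

variable {ω : K} (hω : ω * ω = ω + 1)
include hω

theorem lift_d : Lift (rho K) (toQ ω eA eA dA) (toQ ω eV eV dV) := by
  have := chk_delta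
  simp only [Bool.and_eq_true] at this
  exact lift_of_qlChk hω eV eA this.1.1

theorem dV_cube : toQ ω eV eV dV * (toQ ω eV eV dV * toQ ω eV eV dV) = 1 := by
  have := chk_delta
  simp only [Bool.and_eq_true] at this
  rw [← toQ_mul hω, ← toQ_mul hω, eq_of_beqQ this.1.2, toQ_zero, toM_one]

theorem dA_cube : toQ ω eA eA dA * (toQ ω eA eA dA * toQ ω eA eA dA) = 1 :=
  Lift.uniq rho_inj isUnit_one (dV_cube hω ▸ (lift_d hω).mul ((lift_d hω).mul (lift_d hω))) Lift.one

/-- the diagonal automorphism -/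
def dU : GL chevE6.Idx K := ⟨_, _, dA_cube hω, (mul_assoc ..).trans (dA_cube hω)⟩

/-- its lift -/
def dW : GL (Fin 27) K := ⟨_, _, dV_cube hω, (mul_assoc ..).trans (dV_cube hω)⟩

theorem lift_dU : Lift (rho K) (dU hω) (dW hω) := lift_d hω

theorem cub_dW (x : Fin 27 → K) : cub ((dW hω : Matrix _ _ K) *ᵥ x) = ω * cub x := by
  have := chk_delta
  simp only [Bool.and_eq_true] at this
  have h2 : (List.ofFn x ++ [ω]).getD 27 0 = ω := by
    simp [List.getD_eq_getElem?_getD]
  simpa only [Expr.eval, h2, dW] using cub_of_chk this.2 ω x (by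
    simp only [List.mem_singleton, forall_eq, Rule.Holds, omRule, Expr.eval, h2, hω])

theorem dW_xl (r : ℕ) (t : K) :
    (dW hω).1 * xl r t = xl r (ω ^ chi.getD r 0 * t) * (dW hω).1 := by
  simp only [xl]
  split_ifs with hr
  · have := root_chk hr
    simp only [rootChk, Bool.and_eq_true] at this
    have h1 := congrArg (toQ ω eV eV) (eq_of_beqQ this.2)
    have h2 : ∀ k P, toQ ω eV eV (omQ^[k] P) = ω ^ k • toQ ω eV eV P := fun k P => by
      induction k with
      | zero => simp
      | succ k ih => rw [Function.iterate_succ_apply', toQ_om hω, ih, smul_smul, pow_succ']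
    rw [h2, toQ_mul hω eV eV eV, toQ_mul hω eV eV eV, toQ_zero] at h1
    simp only [dW, mul_add, add_mul, mul_smul_comm, smul_mul_assoc, h1, smul_smul, mul_comm t, mul_one, one_mul]
  · simp

theorem dU_wU (w : List (ℕ × K)) :
    dU hω * wU w * (dU hω)⁻¹ = wU (w.map fun p => (p.1, ω ^ chi.getD p.1 0 * p.2)) := by
  rw [mul_inv_eq_iff_eq_mul]
  refine Units.ext (Lift.uniq rho_inj (dW hω * wV w).isUnit ((lift_dU hω).mul (lift_w w)) ?_)
  suffices (dW hω * wV w).1 = (wV (w.map fun p => (p.1, ω ^ chi.getD p.1 0 * p.2))).1 * (dW hω).1 from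
    this ▸ (lift_w _).mul (lift_dU hω)
  rw [Units.val_mul, coe_wV, coe_wV]
  induction w with
  | nil => simp
  | cons p w ih => simp only [List.map_cons, List.prod_cons, ← mul_assoc, dW_xl]; simp only [mul_assoc, ih]

theorem dU_norm {g : GL chevE6.Idx K} (hg : g ∈ twistedE6 K 2) : dU hω * g * (dU hω)⁻¹ ∈ twistedE6 K 2 := by
  refine gen_le (H := (twistedE6 K 2).comap (MulAut.conj (dU hω)).toMonoidHom) (fun w hw => ?_) hg
  change dU hω * wU w * (dU hω)⁻¹ ∈ twistedE6 K 2
  rw [dU_wU]
  refine wU_mem ?_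
  rcases hw with ⟨t, ht, r, hr, rfl⟩ | ⟨t, r, hr, rfl⟩
  · refine .inl ⟨t, ht, r, hr, ?_⟩
    have : chi.getD r 0 = 0 := by revert r; decide
    simp only [List.map_cons, List.map_nil, this, pow_zero, one_mul]
  · refine .inr ⟨ω ^ chi.getD r.1 0 * t, r, hr, ?_⟩
    have : chi.getD r.1 0 = 0 ∧ chi.getD r.2 0 = 0 ∨ chi.getD r.1 0 = 1 ∧ chi.getD r.2 0 = 2 ∨
      chi.getD r.1 0 = 2 ∧ chi.getD r.2 0 = 1 := by revert r; decide
    simp only [List.map_cons, List.map_nil, List.cons.injEq, Prod.mk.injEq, true_and, and_true]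
    rcases this with ⟨h1, h2⟩ | ⟨h1, h2⟩ | ⟨h1, h2⟩ <;> rw [h1, h2] <;> grind

end Cfsg.Agent.H7.E6
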