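import Cfsg.Agent.H7.E6a

/-!
The subgroup `F₄(2)` of `E₆` in characteristic two.
-/

set_option autoImplicit false
set_option linter.unusedSectionVars false

namespace Cfsg.Agent.H7.E6

open Cfsg.Lie Bit Matrix Finset

/-- coding of the basis of the Lie algebra of type `F₄` -/
abbrev eB : chevF4.Idx ≃ Fin 52 := enc chevF4

variable (K : Type*) [Field K] [CharP K 2]

/-- the word of a generator -/
def gen (k : ℕ) : List (ℕ × K) := (gw.getD k []).map fun r => (r, 1)

/-- the subgroup `F₄(2)` -/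
def H0 : Subgroup (GL chevE6.Idx K) := chevE6.genSubgroup K {w | ∃ k < 8, w = gen K k}

variable {K}

theorem gw_lt : ∀ k < 8, ∀ r ∈ gw.getD k [], r < 72 := by decide

theorem coe_gA {k : ℕ} (hk : k < 8) : (wU (gen K k)).1 = toM K eA eA (gA k) := by
  rw [coe_wU, gA, toM_evalW, ChevalleyDatum.wordMat, gen, List.map_map]
  refine congrArg _ (List.map_congr_left fun r hr => ?_)
  have := gw_lt k hk r hr
  exact (dif_pos this).trans (xMat_one chevE6 K ⟨r, this⟩)

theorem coe_gV {k : ℕ} (hk : k < 8) : (wV (gen K k)).1 = toM K eV eV (gV k) := by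
  rw [coe_wV, gV, toM_evalW, gen, List.map_map]
  refine congrArg _ (List.map_congr_left fun r hr => ?_)
  simp only [Function.comp, xl, gw_lt k hk r hr, if_true, toM_xor, toM_one, one_smul]

theorem gen_chk {k : ℕ} (hk : k < 8) : app 27 27 (gV k) v0 = v0 ∧ mul 27 27 27 (gV k) (gV k) = one 27 ∧
    mul 52 52 52 (x1 chevF4 (gb.getD k 0)) (x1 chevF4 (gb.getD k 0)) = one 52 ∧
    mul 78 78 52 (gA k) Bm = mul 78 52 52 Bm (x1 chevF4 (gb.getD k 0)) := by
  simpa only [Bool.and_eq_true, Nat.beq_eq, and_assoc] using all_spec chk_gen k hk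

theorem H0_le : H0 K ≤ twistedE6 K 2 := gen_le fun w ⟨k, hk, e⟩ => wU_mem <| by
  subst e
  interval_cases k
  iterate 4 exact .inl ⟨1, by simp, _, by decide, rfl⟩
  exacts [.inr ⟨1, (56, 36), by decide, by rw [one_pow]; rfl⟩, .inr ⟨1, (15, 35), by decide, by rw [one_pow]; rfl⟩,
    .inr ⟨1, (42, 37), by decide, by rw [one_pow]; rfl⟩, .inr ⟨1, (29, 34), by decide, by rw [one_pow]; rfl⟩]

theorem exists_fix {g : GL chevE6.Idx K} (hg : g ∈ H0 K) :
    ∃ M : GL (Fin 27) K, M.1 *ᵥ toV K eV v0 = toV K eV v0 ∧ Lift (rho K) g M := by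
  obtain ⟨p, hp, rfl⟩ := gen_le (H := (liftSub (rho K) ⊓ (MulAction.stabilizer _ (toV K eV v0)).comap
    (MonoidHom.snd _ (GL (Fin 27) K))).map (MonoidHom.fst _ _)) (fun w (⟨k, hk, e⟩ : ∃ k < 8, _) => ⟨(wU w, wV w),
      ⟨lift_w w, show (wV w).1 *ᵥ _ = _ by rw [e, coe_gV hk, ← toV_app, (gen_chk hk).1]⟩, rfl⟩) hg
  exact ⟨p.2, hp.2, hp.1⟩

theorem fix_space {x : Fin 27 → K} (h : ∀ k < 8, (wV (gen K k)).1 *ᵥ x = x) : ∃ c : K, x = c • toV K eV v0 := by
  have := congrArg (toM K eV eV · *ᵥ x) chk_fix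
  simp only [toM_sumB, toM_xor, toM_one, toM_rk1, toM_mul eV eV eV, sum_mulVec, ← mulVec_mulVec, add_mulVec,
    one_mulVec, vecMulVec_mulVec] at this
  rw [sum_eq_zero fun k hk => by
    rw [← coe_gV (mem_range.1 hk), h k (mem_range.1 hk), CharTwo.add_self_eq_zero, mulVec_zero]] at this
  exact ⟨_, (CharTwo.add_eq_zero.1 this.symm).trans (op_smul_eq_smul ..)⟩

/-- an element normalising `F₄(2)` has a lift fixing the line of `v0` -/
theorem norm_fix {h : GL chevE6.Idx K} {M : GL (Fin 27) K} (hM : Lift (rho K) h M)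
    (hh : ∀ g ∈ H0 K, h * g * h⁻¹ ∈ H0 K) : ∃ c : K, toV K eV v0 = c • M.1 *ᵥ toV K eV v0 := by
  obtain ⟨c, hc⟩ := fix_space (x := (M⁻¹).1 *ᵥ toV K eV v0) fun k hk => by
    obtain ⟨N, hN, hl⟩ := exists_fix (hh _ (wU_mem ⟨k, hk, rfl⟩))
    obtain ⟨a, ha⟩ := lift_ratio (M := M * wV (gen K k) * M⁻¹) (g := h * wU (gen K k) * h⁻¹)
      ((hM.mul (lift_w (gen K k))).mul hM.inv) hl
    have h1 : (wV (gen K k)).1 *ᵥ ((M⁻¹).1 *ᵥ toV K eV v0) = a • (M⁻¹).1 *ᵥ toV K eV v0 := by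
      have := congrArg (fun X => (M⁻¹).1 *ᵥ (X *ᵥ toV K eV v0)) ha
      simpa only [Units.val_mul, mulVec_mulVec, ← mul_assoc, Units.inv_mul, one_mul, smul_mulVec, hN,
        mulVec_smul] using this
    have h2 := congrArg ((wV (gen K k)).1 *ᵥ ·) h1
    beta_reduce at h2
    rw [mulVec_smul, mulVec_mulVec, h1, smul_smul, coe_gV hk, ← toM_mul, (gen_chk hk).2.1, toM_one,
      one_mulVec] at h2
    have h3 : (M⁻¹).1 *ᵥ toV K eV v0 ≠ 0 := fun h0 => by
      have := congrArg (M.1 *ᵥ ·) h0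
      simp only [mulVec_mulVec, Units.mul_inv, one_mulVec, mulVec_zero] at this
      have h4 := cub_smul (0 : K) (toV K eV v0)
      rw [zero_smul, ← this, cub_v0] at h4
      simp at h4
    have h4 : a * a = 1 := smul_left_injective K h3 (h2.symm.trans (one_smul _ _).symm)
    rw [h1, show a = 1 by grind, one_smul]
  exact ⟨c, by rw [← mulVec_smul, ← hc, mulVec_mulVec, Units.mul_inv, one_mulVec]⟩

/-- the generators of `F₄(2)` -/
noncomputable def bU (k : ℕ) (hk : k < 8) : GL chevF4.Idx (ZMod 2) :=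
  have : toM (ZMod 2) eB eB (x1 chevF4 (gb.getD k 0)) * toM (ZMod 2) eB eB (x1 chevF4 (gb.getD k 0)) = 1 := by
    rw [← toM_mul, (gen_chk hk).2.2.1, toM_one]
  ⟨_, _, this, this⟩

theorem F4_eq : Subgroup.closure {g | ∃ k hk, g = bU k hk} = chevF4.group (ZMod 2) := by
  refine le_antisymm ((Subgroup.closure_le _).2 ?_) ((Subgroup.closure_le _).2 ?_)
  · rintro _ ⟨k, hk, rfl⟩
    have : ∀ k < 8, gb.getD k 0 < 48 := by decide
    exact Subgroup.subset_closure ⟨⟨_, this k hk⟩, 1, (xMat_one chevF4 _ ⟨_, this k hk⟩).symm⟩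
  · rintro g ⟨r, t, e⟩
    fin_cases t
    · rw [show g = 1 from Units.ext (e.trans (xMat_zero ..))]; exact one_mem _
    obtain ⟨g', hg', e'⟩ := slp_spec eB ((Subgroup.closure {g | ∃ k hk, g = bU k hk}).toSubmonoid.map
      (Units.coeHom _)) chk_prog (fun j hj => by
        have : ∀ j < 34, Nat.testBit 8788131840 j → ∃ k < 8, j = gb.getD k 0 := by decide
        obtain ⟨k, hk, rfl⟩ := this j (Nat.lt_of_not_le fun h => by
          rw [Nat.testBit_lt_two_pow (lt_of_lt_of_le (by decide) (Nat.pow_le_pow_right two_pos h))] at hj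
          cases hj) hj
        exact ⟨bU k hk, Subgroup.subset_closure ⟨k, hk, rfl⟩, rfl⟩) (j := r)
      (by rw [Nat.testBit_two_pow_sub_one]; exact decide_eq_true r.2)
    rwa [show g = g' from Units.ext (e.trans ((xMat_one chevF4 _ r).trans e'.symm))]

theorem H0_iso_two : Nonempty (H0 (ZMod 2) ≃* chevF4.group (ZMod 2)) := by
  let Δ := Subgroup.closure {p : _ × _ | ∃ k hk, p = (wU (gen (ZMod 2) k), bU k hk)}
  have h1 : Δ.map (MonoidHom.fst _ _) = H0 (ZMod 2) := by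
    refine le_antisymm (Subgroup.map_le_iff_le_comap.2 ((Subgroup.closure_le _).2 ?_)) (gen_le ?_)
    · rintro _ ⟨k, hk, rfl⟩; exact wU_mem ⟨k, hk, rfl⟩
    · rintro _ ⟨k, hk, rfl⟩; exact ⟨_, Subgroup.subset_closure ⟨k, hk, rfl⟩, rfl⟩
  have h2 : Δ.map (MonoidHom.snd _ _) = chevF4.group (ZMod 2) := by
    rw [← F4_eq, MonoidHom.map_closure]
    congr 1; ext g; simp
  have h3 : ∀ p ∈ Δ, p.1.1 * toM (ZMod 2) eA eB Bm = toM (ZMod 2) eA eB Bm * p.2.1 := fun p hp => by
    induction hp using Subgroup.closure_induction with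
    | mem p hp =>
      obtain ⟨k, hk, rfl⟩ := hp
      rw [coe_gA hk, ← toM_mul, (gen_chk hk).2.2.2, toM_mul eA eB eB]; rfl
    | one => simp
    | mul p q _ _ hp hq => simp only [Prod.fst_mul, Prod.snd_mul, Units.val_mul, Matrix.mul_assoc, hq]
                           simp only [← Matrix.mul_assoc, hp]
    | inv p _ hp =>
      have := congrArg (fun X => (p.1⁻¹).1 * X * (p.2⁻¹).1) hp
      simp only [← Matrix.mul_assoc, Units.inv_mul, Matrix.one_mul] at this
      simpa only [Matrix.mul_assoc, Units.mul_inv, Matrix.mul_one, Prod.fst_inv, Prod.snd_inv] using this.symm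
  rw [← h1, ← h2]
  refine iso_of_graph Δ (fun p hp e => Units.ext ?_) fun p hp e => Units.ext ?_
  · have := congrArg (toM (ZMod 2) eB eA Cm * ·) (h3 p hp)
    simpa only [e, Units.val_one, Matrix.one_mul, ← Matrix.mul_assoc, ← toM_mul, chk_emb, toM_one]
      using this.symm
  · obtain ⟨M, hM, hl⟩ := exists_fix (h1.le ⟨p, hp, rfl⟩)
    have hX : ∀ j, M.1 * toM (ZMod 2) eV eV (XF j) = toM (ZMod 2) eV eV (XF j) * M.1 := fun j => by
      let k := eB.symm ⟨j % 52, Nat.mod_lt _ (by decide)⟩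
      have h4 : toM (ZMod 2) eA eB Bm *ᵥ Pi.single k 1 = toV (ZMod 2) eA (Bit.col 78 Bm (j % 52)) := by
        ext i; simpa [k] using (toV_col eA eB Bm i k).symm
      have := hl (toM (ZMod 2) eA eB Bm *ᵥ Pi.single k 1)
      rw [mulVec_mulVec, MonoidHom.coe_fst, h3 p hp, e, Units.val_one, Matrix.mul_one, h4, rho, stk_toV] at this
      exact this.symm
    have h5 := eig_of_rk1 eV 0 chk_cent.1 (hX 4) (hX 10)
    have h6 : M.1 0 0 = 1 := by
      by_contra h
      rw [show M.1 0 0 = 0 by revert h; generalize M.1 0 0 = c; revert c; decide, zero_smul] at h5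
      have := congrArg ((M⁻¹).1 *ᵥ ·) h5
      simp only [mulVec_mulVec, Units.inv_mul, one_mulVec, mulVec_zero] at this
      exact absurd (congrFun this 26) (by decide)
    rw [h6] at h5
    have := scalar_of_span eV chk_cent.2 hX h5 (by rw [hM, one_smul])
    rw [this, one_smul] at hl
    exact Lift.uniq rho_inj isUnit_one hl Lift.one

theorem H0_iso : Nonempty (H0 K ≃* chevF4.group (ZMod 2)) := by
  let f := ZMod.castHom (dvd_refl 2) K
  have h : (H0 (ZMod 2)).map (GeneralLinearGroup.map f) = H0 K := by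
    have e : ∀ k < 8, GeneralLinearGroup.map f (wU (gen (ZMod 2) k)) = wU (gen K k) := fun k hk =>
      Units.ext (by rw [coe_gA hk, ← toM_map f, ← coe_gA hk]; rfl)
    refine le_antisymm (Subgroup.map_le_iff_le_comap.2 (gen_le ?_)) (gen_le ?_)
    · rintro _ ⟨k, hk, rfl⟩; exact Subgroup.mem_comap.2 (e k hk ▸ wU_mem ⟨k, hk, rfl⟩)
    · rintro _ ⟨k, hk, rfl⟩; exact ⟨_, wU_mem ⟨k, hk, rfl⟩, e k hk⟩
  have hf : Function.Injective (GeneralLinearGroup.map (n := chevE6.Idx) f) := fun a b hab =>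
    Units.ext (Matrix.map_injective f.injective (congrArg Units.val hab))
  exact ⟨((MulEquiv.subgroupCongr h).symm.trans ((H0 (ZMod 2)).equivMapOfInjective _ hf).symm).trans
    H0_iso_two.some⟩

theorem dW_pow {ω : K} (hω : ω * ω = ω + 1) (i : ℕ) : Lift (rho K) (dU hω ^ i).1 (dW hω ^ i).1 ∧
    ∀ x, cub ((dW hω ^ i).1 *ᵥ x) = ω ^ i * cub x := by
  induction i with
  | zero => simpa using Lift.one
  | succ i ih =>
    simp only [pow_succ', Units.val_mul, ← mulVec_mulVec, cub_dW, ih.2, mul_assoc, implies_true, and_true]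
    exact (lift_dU hω).mul ih.1

theorem dU_pow_norm {ω : K} (hω : ω * ω = ω + 1) (i : ℕ) {g : GL chevE6.Idx K} (hg : g ∈ twistedE6 K 2) :
    dU hω ^ i * g * (dU hω ^ i)⁻¹ ∈ twistedE6 K 2 := by
  induction i with
  | zero => simpa using hg
  | succ i ih => simpa only [pow_succ', mul_assoc, _root_.mul_inv_rev] using dU_norm hω ih

theorem not_conj (hK : ∀ c : K, c ≠ 0 → c ^ 3 = 1) {ω : K} (hω : ω * ω = ω + 1) {i j : ℕ}
    {g : GL chevE6.Idx K} (hg : g ∈ twistedE6 K 2)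
    (h : ∀ a ∈ H0 K, ∃ b ∈ H0 K, dU hω ^ j * b * (dU hω ^ j)⁻¹ = g * (dU hω ^ i * a * (dU hω ^ i)⁻¹) * g⁻¹) :
    ω ^ i = ω ^ j := by
  obtain ⟨M, hM, hl⟩ := exists_lift hg
  obtain ⟨c, hc⟩ := norm_fix (h := (dU hω ^ j)⁻¹ * g * dU hω ^ i) (M := (dW hω ^ j)⁻¹ * M * dW hω ^ i)
    (((dW_pow hω j).1.inv.mul hl).mul (dW_pow hω i).1) fun a ha => by
      obtain ⟨b, hb, e⟩ := h a ha
      convert hb using 1
      rw [← mul_left_cancel_iff (a := dU hω ^ j), ← mul_right_cancel_iff (a := (dU hω ^ j)⁻¹), e]; group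
  have h0 : c ≠ 0 := by
    rintro rfl
    have h4 := cub_smul (0 : K) ((((dW hω ^ j)⁻¹ * M * dW hω ^ i).1) *ᵥ toV K eV v0)
    rw [← hc, cub_v0] at h4
    simp at h4
  have := congrArg (fun x => cub ((dW hω ^ j).1 *ᵥ x)) hc
  simp only [mulVec_smul, cub_smul, hK c h0, one_mul, mulVec_mulVec, Units.val_mul, ← mul_assoc,
    Units.mul_inv] at this
  rw [← mulVec_mulVec, hM, (dW_pow hω i).2, (dW_pow hω j).2, cub_v0] at this
  simpa using this.symm

end Cfsg.Agent.H7.E6
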