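import Cfsg.Agent.H7.Cert
import Cfsg.Prelude.Def_Spor_J2

/-!
The icosian ring in coordinates.
-/

set_option autoImplicit false
set_option linter.unusedSectionVars false

namespace Cfsg.Agent.H7.J2

open Cfsg.Spor Quaternion Matrix

/-- coordinates for the basis `1, τ, i, τ i, s, τ s, i s, τ i s` of the icosian ring -/
@[ext] structure Z8 where
  (a0 a1 a2 a3 a4 a5 a6 a7 : ℤ)
  deriving DecidableEq

namespace Z8

instance : Zero Z8 := ⟨⟨0, 0, 0, 0, 0, 0, 0, 0⟩⟩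
instance : One Z8 := ⟨⟨1, 0, 0, 0, 0, 0, 0, 0⟩⟩
instance : Add Z8 := ⟨fun a b => ⟨a.a0 + b.a0, a.a1 + b.a1, a.a2 + b.a2, a.a3 + b.a3, a.a4 + b.a4,
  a.a5 + b.a5, a.a6 + b.a6, a.a7 + b.a7⟩⟩
instance : Neg Z8 := ⟨fun a => ⟨-a.a0, -a.a1, -a.a2, -a.a3, -a.a4, -a.a5, -a.a6, -a.a7⟩⟩
instance : Star Z8 := ⟨fun a => ⟨a.a0 + a.a4 - a.a6 + a.a7, a.a1 + a.a5 + a.a6, -a.a2, -a.a3, -a.a4, -a.a5,
  -a.a6, -a.a7⟩⟩
instance : Mul Z8 := ⟨fun a b => ⟨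
    a.a0 * b.a0 + a.a1 * b.a1 - a.a2 * b.a2 - a.a3 * b.a3 - a.a4 * b.a2 + a.a4 * b.a3 - a.a4 * b.a4 + a.a5 * b.a2 - a.a5 * b.a5 - a.a6 * b.a2 - a.a6 * b.a6 - a.a7 * b.a3 - a.a7 * b.a7,
    a.a0 * b.a1 + a.a1 * b.a0 + a.a1 * b.a1 - a.a2 * b.a3 - a.a3 * b.a2 - a.a3 * b.a3 + a.a4 * b.a2 - a.a4 * b.a5 + a.a5 * b.a3 - a.a5 * b.a4 - a.a5 * b.a5 - a.a6 * b.a3 - a.a6 * b.a7 - a.a7 * b.a2 - a.a7 * b.a3 - a.a7 * b.a6 - a.a7 * b.a7,
    a.a0 * b.a2 + a.a1 * b.a3 + a.a2 * b.a0 + a.a3 * b.a1 + a.a4 * b.a2 + a.a4 * b.a6 + a.a5 * b.a3 + a.a5 * b.a7 - a.a6 * b.a2 + a.a6 * b.a3 - a.a6 * b.a4 + a.a7 * b.a2 - a.a7 * b.a5,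
    a.a0 * b.a3 + a.a1 * b.a2 + a.a1 * b.a3 + a.a2 * b.a1 + a.a3 * b.a0 + a.a3 * b.a1 + a.a4 * b.a3 + a.a4 * b.a7 + a.a5 * b.a2 + a.a5 * b.a3 + a.a5 * b.a6 + a.a5 * b.a7 + a.a6 * b.a2 - a.a6 * b.a5 + a.a7 * b.a3 - a.a7 * b.a4 - a.a7 * b.a5,
    a.a0 * b.a4 + a.a1 * b.a5 - a.a2 * b.a6 - a.a3 * b.a7 + a.a4 * b.a0 + a.a4 * b.a4 - a.a4 * b.a6 + a.a4 * b.a7 + a.a5 * b.a1 + a.a5 * b.a5 + a.a5 * b.a6 + a.a6 * b.a2 + a.a7 * b.a3,
    a.a0 * b.a5 + a.a1 * b.a4 + a.a1 * b.a5 - a.a2 * b.a7 - a.a3 * b.a6 - a.a3 * b.a7 + a.a4 * b.a1 + a.a4 * b.a5 + a.a4 * b.a6 + a.a5 * b.a0 + a.a5 * b.a1 + a.a5 * b.a4 + a.a5 * b.a5 + a.a5 * b.a7 + a.a6 * b.a3 + a.a7 * b.a2 + a.a7 * b.a3,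
    a.a0 * b.a6 + a.a1 * b.a7 + a.a2 * b.a4 + a.a3 * b.a5 - a.a4 * b.a2 - a.a5 * b.a3 + a.a6 * b.a0 + a.a6 * b.a4 - a.a6 * b.a6 + a.a6 * b.a7 + a.a7 * b.a1 + a.a7 * b.a5 + a.a7 * b.a6,
    a.a0 * b.a7 + a.a1 * b.a6 + a.a1 * b.a7 + a.a2 * b.a5 + a.a3 * b.a4 + a.a3 * b.a5 - a.a4 * b.a3 - a.a5 * b.a2 - a.a5 * b.a3 + a.a6 * b.a1 + a.a6 * b.a5 + a.a6 * b.a6 + a.a7 * b.a0 + a.a7 * b.a1 + a.a7 * b.a4 + a.a7 * b.a5 + a.a7 * b.a7⟩⟩

theorem zero_def : (0 : Z8) = ⟨0, 0, 0, 0, 0, 0, 0, 0⟩ := rfl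
theorem one_def : (1 : Z8) = ⟨1, 0, 0, 0, 0, 0, 0, 0⟩ := rfl
theorem add_def (a b : Z8) : a + b = ⟨a.a0 + b.a0, a.a1 + b.a1, a.a2 + b.a2, a.a3 + b.a3, a.a4 + b.a4,
  a.a5 + b.a5, a.a6 + b.a6, a.a7 + b.a7⟩ := rfl
theorem neg_def (a : Z8) : -a = ⟨-a.a0, -a.a1, -a.a2, -a.a3, -a.a4, -a.a5, -a.a6, -a.a7⟩ := rfl
theorem star_def (a : Z8) : star a = ⟨a.a0 + a.a4 - a.a6 + a.a7, a.a1 + a.a5 + a.a6, -a.a2, -a.a3, -a.a4,
  -a.a5, -a.a6, -a.a7⟩ := rfl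

/-- the quaternion with given coordinates -/
noncomputable def q (a : Z8) : ℍ[ℝ] :=
  ⟨((2 * a.a0 + a.a4 - a.a6 + a.a7 : ℤ) + (2 * a.a1 + a.a5 + a.a6 : ℤ) * tau) / 2,
    ((2 * a.a2 + a.a4 - a.a5 + a.a6 : ℤ) + (2 * a.a3 - a.a4 + a.a7 : ℤ) * tau) / 2,
    ((-a.a7 : ℤ) + (-a.a6 - a.a7 : ℤ) * tau) / 2, ((a.a5 : ℤ) + (a.a4 + a.a5 : ℤ) * tau) / 2⟩

theorem q_re (a : Z8) : (q a).re = ((2 * a.a0 + a.a4 - a.a6 + a.a7 : ℤ) + (2 * a.a1 + a.a5 + a.a6 : ℤ) * tau) / 2 ∧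
    (q a).imI = ((2 * a.a2 + a.a4 - a.a5 + a.a6 : ℤ) + (2 * a.a3 - a.a4 + a.a7 : ℤ) * tau) / 2 ∧
    (q a).imJ = ((-a.a7 : ℤ) + (-a.a6 - a.a7 : ℤ) * tau) / 2 ∧
    (q a).imK = ((a.a5 : ℤ) + (a.a4 + a.a5 : ℤ) * tau) / 2 := ⟨rfl, rfl, rfl, rfl⟩

theorem sqrt5 : √5 = 2 * tau - 1 := by rw [tau]; ring
theorem sig_eq : sig = 1 - tau := by rw [sig, tau]; ring
theorem tau_sq : tau * tau = tau + 1 := by
  have : √5 * √5 = 5 := Real.mul_self_sqrt (by norm_num)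
  rw [tau]; linear_combination this / 4

theorem tau_indep {m n : ℤ} (h : (m : ℝ) + n * tau = 0) : m = 0 ∧ n = 0 := by
  have h5 : Irrational √5 := by simpa using (Nat.prime_five).irrational_sqrt
  by_cases hn : n = 0
  · simpa [hn] using h
  · refine absurd ⟨(-2 * m - n) / n, ?_⟩ h5
    have : (n : ℝ) ≠ 0 := by exact_mod_cast hn
    rw [sqrt5]; push_cast; field_simp; linear_combination -2 * h

theorem q_add (a b : Z8) : q (a + b) = q a + q b := by ext <;> simp [q_re, add_def] <;> ring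
theorem q_neg (a : Z8) : q (-a) = -q a := by ext <;> simp [q_re, neg_def] <;> ring
theorem q_zero : q 0 = 0 := by ext <;> simp [q_re, zero_def]
theorem q_one : q 1 = 1 := by ext <;> simp [q_re, one_def]
theorem q_star (a : Z8) : q (star a) = star (q a) := by ext <;> simp [q_re, star_def] <;> ring

theorem q_mul (a b : Z8) : q (a * b) = q a * q b := by
  have := tau_sq
  change q (Mul.mul a b) = _
  ext <;> simp [q_re, Mul.mul] <;> grind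

theorem q_inj : Function.Injective q := fun a b h => by
  have h0 : q (a + -b) = 0 := by rw [q_add, q_neg, h, add_neg_cancel]
  simp only [Quaternion.ext_iff, q_re, re_zero, imI_zero, imJ_zero, imK_zero, div_eq_zero_iff,
    two_ne_zero, or_false] at h0
  have h1 := tau_indep h0.1
  have h2 := tau_indep h0.2.1
  have h3 := tau_indep h0.2.2.1
  have h4 := tau_indep h0.2.2.2
  simp only [add_def, neg_def] at h1 h2 h3 h4
  ext <;> omega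

instance : Ring Z8 := Ring.ofMinimalAxioms
  (fun _ _ _ => q_inj (by simp only [q_add, add_assoc])) (fun _ => q_inj (by simp only [q_add, q_zero, zero_add]))
  (fun _ => q_inj (by simp only [q_add, q_neg, q_zero, neg_add_cancel]))
  (fun _ _ _ => q_inj (by simp only [q_mul, mul_assoc])) (fun _ => q_inj (by simp only [q_mul, q_one, one_mul]))
  (fun _ => q_inj (by simp only [q_mul, q_one, mul_one])) (fun _ _ _ => q_inj (by simp only [q_add, q_mul, mul_add]))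
  (fun _ _ _ => q_inj (by simp only [q_add, q_mul, add_mul]))

instance : StarRing Z8 where
  star_involutive _ := q_inj (by simp only [q_star, star_star])
  star_mul _ _ := q_inj (by simp only [q_star, q_mul, star_mul])
  star_add _ _ := q_inj (by simp only [q_star, q_add, star_add])

/-- the embedding in the quaternions -/
noncomputable def qh : Z8 →+* ℍ[ℝ] := ⟨⟨⟨q, q_one⟩, q_mul⟩, q_zero, q_add⟩

theorem qh_star (a : Z8) : qh (star a) = star (qh a) := q_star a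
theorem qh_inj : Function.Injective qh := q_inj

theorem range_qh : qh.range = icosians := by
  refine le_antisymm ?_ (Subring.closure_le.2 ?_)
  · rintro _ ⟨a, rfl⟩
    have hi : qI ∈ icosians := Subring.subset_closure (by simp)
    obtain ⟨s, hs, e⟩ : ∃ s ∈ icosians, s.re = 1 / 2 ∧ s.imI = sig / 2 ∧ s.imJ = 0 ∧ s.imK = tau / 2 :=
      ⟨_, Subring.subset_closure (.inr rfl), rfl, rfl, rfl, rfl⟩
    have e' : qI.re = 0 ∧ qI.imI = 1 ∧ qI.imJ = 0 ∧ qI.imK = 0 := ⟨rfl, rfl, rfl, rfl⟩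
    have ht := add_mem (add_mem (sub_mem (one_mem _) hi) (mul_mem hi hs)) (mul_mem hs hi)
    have h (m n : ℤ) := add_mem (intCast_mem icosians m) (mul_mem (intCast_mem icosians n) ht)
    convert add_mem (add_mem (add_mem (h a.a0 a.a1) (mul_mem (h a.a2 a.a3) hi)) (mul_mem (h a.a4 a.a5) hs))
      (mul_mem (h a.a6 a.a7) (mul_mem hi hs)) using 1
    have := tau_sq
    ext <;> simp [qh, q_re, e, e', sig_eq] <;> grind
  · rintro _ (rfl | rfl)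
    · exact ⟨⟨0, 0, 1, 0, 0, 0, 0, 0⟩, by ext <;> simp [qh, q, qI]⟩
    · exact ⟨⟨0, 0, 0, 0, 1, 0, 0, 0⟩, by ext <;> simp [qh, q, sig_eq, sub_eq_add_neg]⟩

/-- the icosian `h` -/
def hc : Z8 := ⟨2, -2, 1, 0, -1, 1, 1, -1⟩

/-- its conjugate -/
def hb : Z8 := ⟨-1, 0, -1, 0, 1, -1, -1, 1⟩

theorem qh_hc : qh hc = icoH := by ext <;> simp [qh, q, hc, icoH, sqrt5]; ring
theorem qh_hb : qh hb = star icoH := by rw [← qh_hc, ← qh_star]; rfl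

/-- half of an element -/
def half (a : Z8) : Z8 := ⟨a.a0 / 2, a.a1 / 2, a.a2 / 2, a.a3 / 2, a.a4 / 2, a.a5 / 2, a.a6 / 2, a.a7 / 2⟩

theorem half_add (a : Z8) : half (a + a) = a := by ext <;> simp only [half, add_def] <;> omega

/-- rational part of the norm -/
def nA (a : Z8) : ℤ := a.a0 * a.a0 + a.a0 * a.a4 - a.a0 * a.a6 + a.a0 * a.a7 + a.a1 * a.a1 + a.a1 * a.a5 +
  a.a1 * a.a6 + a.a2 * a.a2 + a.a2 * a.a4 - a.a2 * a.a5 + a.a2 * a.a6 + a.a3 * a.a3 - a.a3 * a.a4 + a.a3 * a.a7 +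
  a.a4 * a.a4 + a.a5 * a.a5 + a.a6 * a.a6 + a.a7 * a.a7

/-- irrational part of the norm -/
def nB (a : Z8) : ℤ := 2 * a.a0 * a.a1 + a.a0 * a.a5 + a.a0 * a.a6 + a.a1 * a.a1 + a.a1 * a.a4 + a.a1 * a.a5 +
  a.a1 * a.a7 + 2 * a.a2 * a.a3 - a.a2 * a.a4 + a.a2 * a.a7 + a.a3 * a.a3 - a.a3 * a.a5 + a.a3 * a.a6 +
  a.a3 * a.a7 + 2 * a.a4 * a.a5 + a.a5 * a.a5 + 2 * a.a6 * a.a7 + a.a7 * a.a7

theorem mul_star (a : Z8) : a * star a = ⟨nA a, nB a, 0, 0, 0, 0, 0, 0⟩ := by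
  change Mul.mul a (star a) = _
  ext <;> simp only [Mul.mul, star_def, nA, nB] <;> grind

theorem star_mul' (a : Z8) : star a * a = a * star a :=
  qh_inj (by simp only [map_mul, qh_star, Quaternion.self_mul_star, Quaternion.star_mul_self])

theorem nrm_mul (a b : Z8) : a * b * star (a * b) = a * star a * (b * star b) :=
  qh_inj (by simp only [map_mul, qh_star, coe_mul, Quaternion.self_mul_star])

theorem nA_hc (a : Z8) : nA (a * hc) = 2 * nA a ∧ nB (a * hc) = 2 * nB a := by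
  have := nrm_mul a hc
  rw [mul_star, mul_star, show hc * star hc = 1 + 1 from rfl, mul_add, mul_one, add_def] at this
  simp only [Z8.mk.injEq] at this
  omega

theorem nA_unit {u : Z8} (hu : u * star u = 1) (a : Z8) : nA (u * a) = nA a ∧ nB (u * a) = nB a := by
  have := nrm_mul u a
  rw [hu, one_mul, mul_star, mul_star] at this
  simp only [Z8.mk.injEq] at this
  omega

/-- the doubled coordinates -/
def dbl (a : Z8) : List ℤ := [2 * a.a0 + a.a4 - a.a6 + a.a7, 2 * a.a1 + a.a5 + a.a6, 2 * a.a2 + a.a4 - a.a5 + a.a6,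
  2 * a.a3 - a.a4 + a.a7, -a.a7, -a.a6 - a.a7, a.a5, a.a4 + a.a5]

theorem sum_dbl (a : Z8) : ((dbl a).map (· ^ 2)).sum = 4 * nA a := by simp [dbl, nA]; ring

theorem nA_nonneg (a : Z8) : 0 ≤ nA a := by
  have := sum_dbl a
  have := List.sum_nonneg (l := (dbl a).map (· ^ 2)) (by simp only [List.forall_mem_map]; intros; positivity)
  omega

theorem eq_zero_of_nA {a : Z8} (h : nA a = 0) : a = 0 := by
  have h1 := star_mul' a
  have h2 := sum_dbl a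
  have h3 : ∀ x ∈ dbl a, x = 0 := fun x hx => by
    have := List.single_le_sum (l := (dbl a).map (· ^ 2)) (by simp only [List.forall_mem_map]; intros; positivity)
      _ (List.mem_map_of_mem hx)
    nlinarith [sq_nonneg x]
  simp only [dbl, List.mem_cons, List.not_mem_nil, or_false, forall_eq_or_imp, forall_eq] at h3
  ext <;> simp only [zero_def] <;> omega

theorem nA_par (a b : Z8) : nA (a + b) + nA (a - b) = 2 * nA a + 2 * nA b := by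
  simp only [sub_eq_add_neg, nA, add_def, neg_def]; ring

theorem nA_dbl (a : Z8) : nA (a + a) = 4 * nA a ∧ nB (a + a) = 4 * nB a := by
  simp only [nA, nB, add_def]; constructor <;> ring

theorem two_dvd {v a b : Z8} (h : v = a * hc) (h' : v = b * hb) : ∃ u, v = u + u := by
  refine ⟨a + b + v * ⟨0, 1, 0, 0, 0, 0, 0, 0⟩, ?_⟩
  have h1 : v * hb = a + a := by rw [h, mul_assoc, show hc * hb = 1 + 1 from rfl, mul_add, mul_one]
  have h2 : v * hc = b + b := by rw [h', mul_assoc, show hb * hc = 1 + 1 from rfl, mul_add, mul_one]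
  have h3 : v * (hb + hc + ⟨0, 1, 0, 0, 0, 0, 0, 0⟩ + ⟨0, 1, 0, 0, 0, 0, 0, 0⟩) = v := mul_one v
  simp only [mul_add, h1, h2] at h3
  exact h3.symm.trans (by abel)

end Z8

end Cfsg.Agent.H7.J2
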