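import Cfsg.Agent.H7.J2a

/-!
The icosian Leech lattice in coordinates, and the six-dimensional representation of `J₂` over the
field with four elements.
-/

set_option autoImplicit false
set_option linter.unusedSectionVars false

namespace Cfsg.Agent.H7.J2

open Cfsg.Spor Quaternion Matrix Z8 Cert

/-- a basis of the lattice -/
def Bm : Matrix (Fin 3) (Fin 3) Z8 := !![1 + 1, 0, 0; hc, hc, 0; hb, 1, 1]

/-- half of its Gram matrix -/
def Gm : Matrix (Fin 3) (Fin 3) Z8 :=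
  !![1 + 1, hb, hc; hc, 1 + 1, ⟨3, -2, 1, -1, -2, 1, 2, -1⟩; hb, ⟨-2, 1, -1, 1, 2, -1, -2, 1⟩, 1 + 1]

theorem Bm_mul : Bm * Bmᴴ = Gm + Gm := by decide
theorem Gm_star : Gmᴴ = Gm := by decide

/-- the coordinates of a lattice vector -/
def crd (x y z : Z8) : Fin 3 → Z8 := ![half (x + -y + z * (1 + -hb)), half ((y + -z) * hb), z]

theorem vec_eq (c : Fin 3 → Z8) : c ᵥ* Bm = ![c 0 + c 0 + c 1 * hc + c 2 * hb, c 1 * hc + c 2, c 2] := by
  funext t; fin_cases t <;> simp [Bm, vecMul, dotProduct, Fin.sum_univ_three, mul_add]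

theorem crd_vec (c : Fin 3 → Z8) : crd ((c ᵥ* Bm) 0) ((c ᵥ* Bm) 1) ((c ᵥ* Bm) 2) = c := by
  rw [vec_eq]
  funext t; fin_cases t
  · exact (congrArg half (by simp; noncomm_ring)).trans (half_add _)
  · exact (congrArg half (by simp [mul_assoc, show hc * hb = 1 + 1 from rfl, mul_add])).trans (half_add _)
  · rfl

/-- the congruences defining the lattice -/
def Lam (x y z : Z8) : Prop := (∃ a, x - y = a * hc) ∧ (∃ a, y - z = a * hc) ∧ ∃ a, x + y + z = a * hb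

theorem lam_iff (v : Fin 3 → Z8) : Lam (v 0) (v 1) (v 2) ↔ ∃ c, v = c ᵥ* Bm := by
  have h1 : hb = ⟨-1, 1, 0, 1, 1, 0, -1, 0⟩ * hc + 1 := rfl
  have h2 : hb * hc = 1 + 1 := rfl
  have h3 : hc * hb = 1 + 1 := rfl
  constructor
  · rintro ⟨⟨a, ha⟩, ⟨b, hb'⟩, ⟨d, hd⟩⟩
    obtain ⟨u, hu⟩ := two_dvd (v := v 0 - v 1 + v 2 * (1 - hb)) (a := a - v 2 * ⟨-1, 1, 0, 1, 1, 0, -1, 0⟩)
      (b := d - v 1 * hc - v 2) (by rw [ha, h1]; noncomm_ring)
      (by rw [sub_mul, sub_mul, ← hd, mul_assoc, h3]; noncomm_ring)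
    refine ⟨![u, b, v 2], ?_⟩
    rw [vec_eq]
    funext t; fin_cases t
    · simp [← hu, ← hb']; noncomm_ring
    · simp [← hb']
    · rfl
  · rintro ⟨c, rfl⟩
    rw [vec_eq]
    refine ⟨⟨c 0 * hb + c 2 * ⟨-1, 1, 0, 1, 1, 0, -1, 0⟩, ?_⟩, ⟨c 1, by simp⟩,
      ⟨c 0 * hc + c 1 * hc * hc + c 2 + c 2 * hc, ?_⟩⟩
    · simp only [add_mul, mul_assoc, h2, cons_val]; rw [h1]; noncomm_ring
    · simp only [add_mul, mul_assoc, h3, cons_val]; noncomm_ring

theorem mem_ico {x : ℍ[ℝ]} : x ∈ icosians ↔ ∃ a, qh a = x := by rw [← range_qh]; rfl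

theorem mem_ideal {a h : Z8} : qh a ∈ leftIdeal (qh h) ↔ ∃ b, a = b * h := by
  simp only [leftIdeal, mem_ico, Set.mem_ofPred_eq, exists_exists_eq_and, ← map_mul, qh_inj.eq_iff]

theorem mem_leech (v : Fin 3 → Z8) : (fun t => qh (v t)) ∈ icoLeech ↔ Lam (v 0) (v 1) (v 2) := by
  simp only [icoLeech, Set.mem_ofPred_eq, ← qh_hb, ← map_sub, ← map_add, Lam]
  simp only [← qh_hc, mem_ideal, mem_ico, exists_apply_eq_apply, implies_true, true_and]

/-- coordinates on the lattice -/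
noncomputable def L : (Fin 3 → Z8) ≃ icoLeech :=
  Equiv.ofBijective (fun c => ⟨fun t => qh ((c ᵥ* Bm) t), (mem_leech _).2 ((lam_iff _).2 ⟨c, rfl⟩)⟩)
    ⟨fun c d h => by
      have : c ᵥ* Bm = d ᵥ* Bm := funext fun t => qh_inj (congrFun (congrArg Subtype.val h) t)
      rw [← crd_vec c, this, crd_vec], fun ⟨x, hx⟩ => by
      choose v hv using fun t => mem_ico.1 (hx.1 t)
      obtain rfl : (fun t => qh (v t)) = x := funext hv
      obtain ⟨c, rfl⟩ := (lam_iff v).1 ((mem_leech v).1 hx)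
      exact ⟨c, rfl⟩⟩

/-- half of the hermitian product -/
def ip (c d : Fin 3 → Z8) : Z8 := c ⬝ᵥ Gm *ᵥ star d

theorem dot_eq (c d : Fin 3 → Z8) : (c ᵥ* Bm) ⬝ᵥ star (d ᵥ* Bm) = ip c d + ip c d := by
  rw [star_vecMul, ← dotProduct_mulVec, mulVec_mulVec, Bm_mul, add_mulVec, dotProduct_add, ip]

theorem qip_L (c d : Fin 3 → Z8) : qip (L c) (L d) = qh (ip c d) + qh (ip c d) := by
  rw [← map_add, ← dot_eq]
  simp only [qip, dotProduct, map_sum, map_mul, Pi.star_apply, qh_star]; rfl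

/-- the matrix of a reflection -/
def Rf (d : Fin 3 → Z8) : Matrix (Fin 3) (Fin 3) Z8 := 1 - vecMulVec (Gm *ᵥ star d) d

theorem vec_Rf (c d : Fin 3 → Z8) : c ᵥ* Rf d = c - ip c d • d := by
  rw [Rf, vecMul_sub, vecMul_one, vecMul_vecMulVec, ip]

theorem qrefl_L (c d : Fin 3 → Z8) : qrefl (L d) (L c) = L (c ᵥ* Rf d) := by
  funext t
  rw [qrefl, qip_L, ← two_smul ℝ, smul_smul, vec_Rf]
  change qh ((c ᵥ* Bm) t) - _ * qh ((d ᵥ* Bm) t) = qh (((c - ip c d • d) ᵥ* Bm) t)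
  simp [sub_vecMul, smul_vecMul]

theorem ip_star (c d : Fin 3 → Z8) : star (ip c d) = ip d c := by
  rw [ip, ip, ← star_star c, ← star_dotProduct, star_mulVec, star_star, star_star, Gm_star, dotProduct_mulVec]

theorem ip_sub_smul (c d e f : Fin 3 → Z8) (s t : Z8) : ip (c - s • d) (e - t • f) =
    ip c e - ip c f * star t - s * ip d e + s * ip d f * star t := by
  simp only [ip, dotProduct, mulVec, Fin.sum_univ_three, Pi.sub_apply, Pi.smul_apply, smul_eq_mul,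
    Pi.star_apply, star_sub, star_mul]
  noncomm_ring

theorem ip_Rf {d : Fin 3 → Z8} (hd : ip d d = 1 + 1) (c e : Fin 3 → Z8) : ip (c ᵥ* Rf d) (e ᵥ* Rf d) = ip c e := by
  rw [vec_Rf, vec_Rf, ip_sub_smul, hd, ip_star]; noncomm_ring

theorem Rf_Rf {d : Fin 3 → Z8} (hd : ip d d = 1 + 1) (c : Fin 3 → Z8) : c ᵥ* Rf d ᵥ* Rf d = c := by
  have : ip (c - ip c d • d) d = -ip c d := by
    simpa [hd, mul_add] using ip_sub_smul c d d 0 (ip c d) 0
  rw [vec_Rf c, vec_Rf, this]; simp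

/-- `G` is the matrix of the isometry `f⁻¹` -/
def Rel (f : Equiv.Perm icoLeech) (G : Matrix (Fin 3) (Fin 3) Z8) : Prop :=
  (∀ c, f⁻¹ (L c) = L (c ᵥ* G)) ∧ ∀ c e, ip (c ᵥ* G) (e ᵥ* G) = ip c e

theorem Rel.uniq {f : Equiv.Perm icoLeech} {G G' : Matrix (Fin 3) (Fin 3) Z8} (h : Rel f G) (h' : Rel f G') :
    G = G' := Matrix.ext_iff_vecMul.2 fun c => L.injective ((h.1 c).symm.trans (h'.1 c))

theorem Rel.one : Rel 1 1 := by simp [Rel]

theorem Rel.mul {f f' : Equiv.Perm icoLeech} {G G' : Matrix (Fin 3) (Fin 3) Z8} (h : Rel f G) (h' : Rel f' G') :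
    Rel (f * f') (G * G') :=
  ⟨fun c => by rw [_root_.mul_inv_rev, Equiv.Perm.mul_apply, h.1, h'.1, vecMul_vecMul],
    fun c e => by rw [← vecMul_vecMul, ← vecMul_vecMul, h'.2, h.2]⟩

theorem rel_refl {f : Equiv.Perm icoLeech} (hf : IsIcoReflection f) :
    ∃ d, ip d d = 1 + 1 ∧ Rel f (Rf d) ∧ f⁻¹ = f := by
  obtain ⟨r, h1, h2⟩ := hf
  obtain ⟨d, rfl⟩ := L.surjective r
  have hd : ip d d = 1 + 1 := by
    rw [← half_add (ip d d), ← half_add (1 + 1)]
    refine congrArg half (qh_inj ?_)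
    rw [map_add, ← qip_L, h1]; simp only [map_add, map_one]; norm_num
  have h3 : ∀ c, f (L c) = L (c ᵥ* Rf d) := fun c => Subtype.ext ((h2 _).trans (qrefl_L c d))
  have h4 : f⁻¹ = f := inv_eq_of_mul_eq_one_right <| Equiv.ext fun x => by
    obtain ⟨c, rfl⟩ := L.surjective x
    rw [Equiv.Perm.mul_apply, h3, h3, Rf_Rf hd]; rfl
  exact ⟨d, hd, ⟨h4.symm ▸ h3, ip_Rf hd⟩, h4⟩

theorem exists_refl {d : Fin 3 → Z8} (hd : ip d d = 1 + 1) : ∃ f, IsIcoReflection f ∧ Rel f (Rf d) := by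
  refine ⟨(L.symm.trans (Function.Involutive.toPerm (· ᵥ* Rf d) (Rf_Rf hd))).trans L,
    ⟨L d, by rw [qip_L, hd, map_add, map_one]; norm_num, fun x => ?_⟩, fun c => ?_, ip_Rf hd⟩
  · obtain ⟨c, rfl⟩ := L.surjective x
    simp [qrefl_L]; rfl
  · simp; rfl

theorem exists_rel (f : twoJ2) : ∃ G, Rel f G := by
  obtain ⟨f, hf⟩ := f
  induction hf using Subgroup.closure_induction'' with
  | mem f hf => obtain ⟨d, -, h, -⟩ := rel_refl hf; exact ⟨_, h⟩
  | inv_mem f hf => obtain ⟨d, -, h, e⟩ := rel_refl hf; exact ⟨_, e.symm ▸ h⟩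
  | one => exact ⟨1, Rel.one⟩
  | mul f g _ _ hf hg => exact ⟨_, hf.choose_spec.mul hg.choose_spec⟩

/-- the matrices of the elements of `2·J₂` -/
noncomputable def mat : twoJ2 →* Matrix (Fin 3) (Fin 3) Z8 where
  toFun f := (exists_rel f).choose
  map_one' := (exists_rel 1).choose_spec.uniq Rel.one
  map_mul' f g := (exists_rel _).choose_spec.uniq ((exists_rel f).choose_spec.mul (exists_rel g).choose_spec)

theorem rel_mat (f : twoJ2) : Rel f (mat f) := (exists_rel f).choose_spec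

/-! ### The kernel of the reduction modulo two -/

/-- the Euclidean norm -/
def nE (c : Fin 3 → Z8) : ℤ := nA ((c ᵥ* Bm) 0) + nA ((c ᵥ* Bm) 1) + nA ((c ᵥ* Bm) 2)

theorem norm_eq (c : Fin 3 → Z8) : nE c = 2 * (ip c c).a0 ∧
    nB ((c ᵥ* Bm) 0) + nB ((c ᵥ* Bm) 1) + nB ((c ᵥ* Bm) 2) = 2 * (ip c c).a1 := by
  have := dot_eq c c
  simp only [dotProduct, Fin.sum_univ_three, Pi.star_apply, mul_star, add_def, Z8.mk.injEq] at this
  rw [nE]; omega

theorem Lam.swap₁ {x y z : Z8} : Lam x y z → Lam y x z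
  | ⟨⟨a, h1⟩, ⟨b, h2⟩, ⟨d, h3⟩⟩ => ⟨⟨-a, by rw [neg_mul, ← h1]; abel⟩, ⟨a + b, by rw [add_mul, ← h1, ← h2]; abel⟩,
    ⟨d, by rw [← h3]; abel⟩⟩

theorem Lam.swap₂ {x y z : Z8} : Lam x y z → Lam x z y
  | ⟨⟨a, h1⟩, ⟨b, h2⟩, ⟨d, h3⟩⟩ => ⟨⟨a + b, by rw [add_mul, ← h1, ← h2]; abel⟩, ⟨-b, by rw [neg_mul, ← h2]; abel⟩,
    ⟨d, by rw [← h3]; abel⟩⟩

theorem Lam.small {x y : Z8} (h : Lam x y 0) (h' : nA x + nA y ≤ 3) : x = 0 ∧ y = 0 := by
  have key : ∀ {x y : Z8}, Lam x y 0 → nA x + nA y ≤ 3 → nA x ≤ nA y → x = 0 ∧ y = 0 := by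
    rintro x y ⟨⟨a, h1⟩, ⟨b, h2⟩, ⟨d, h3⟩⟩ h' h''
    have h4 : x = (a + b) * hc := by rw [add_mul, ← h1, ← h2]; abel
    have h5 := (nA_hc (a + b)).1
    have := nA_nonneg (a + b)
    obtain rfl : x = 0 := eq_zero_of_nA (by rw [← h4] at h5; omega)
    obtain ⟨u, rfl⟩ := two_dvd (v := y) (by simpa using h2) (by simpa using h3)
    have := (nA_dbl u).1
    have := nA_nonneg u
    have : nA 0 = 0 := rfl
    exact ⟨rfl, eq_zero_of_nA (by omega)⟩
  rcases le_total (nA x) (nA y) with e | e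
  · exact key h h' e
  · exact (key h.swap₁ (by omega) e).symm

theorem eq_zero_of_nE {c : Fin 3 → Z8} (h : nE c ≤ 2) : c = 0 := by
  have h1 := (lam_iff _).2 ⟨c, rfl⟩
  rw [← crd_vec c]
  rw [nE] at h
  generalize (c ᵥ* Bm) 0 = x, (c ᵥ* Bm) 1 = y, (c ᵥ* Bm) 2 = z at *
  have := nA_nonneg x; have := nA_nonneg y; have := nA_nonneg z
  obtain h2 | h2 | h2 : nA x = 0 ∨ nA y = 0 ∨ nA z = 0 := by omega
  all_goals obtain rfl := eq_zero_of_nA h2
  · obtain ⟨rfl, rfl⟩ := h1.swap₁.swap₂.small (by omega); decide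
  · obtain ⟨rfl, rfl⟩ := h1.swap₂.small (by omega); decide
  · obtain ⟨rfl, rfl⟩ := h1.small (by omega); decide

theorem pm_one {f : Equiv.Perm icoLeech} {G W : Matrix (Fin 3) (Fin 3) Z8} (h : Rel f G) (e : G = 1 + (W + W)) :
    G = 1 ∨ G = -1 := by
  have h2 : ∀ i, nE (Pi.single i 1) = 4 := by decide
  have h3 : ∀ a b : Fin 3 → Z8, nE (a + b) + nE (a - b) = 2 * nE a + 2 * nE b := fun a b => by
    simp only [nE, add_vecMul, sub_vecMul, Pi.add_apply, Pi.sub_apply]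
    linear_combination nA_par ((a ᵥ* Bm) 0) ((b ᵥ* Bm) 0) + nA_par ((a ᵥ* Bm) 1) ((b ᵥ* Bm) 1) +
      nA_par ((a ᵥ* Bm) 2) ((b ᵥ* Bm) 2)
  have key : ∀ i, Pi.single i 1 ᵥ* G = Pi.single i 1 ∨ Pi.single i 1 ᵥ* G = -Pi.single i 1 := fun i => by
    have h1 := (norm_eq (Pi.single i 1 ᵥ* G)).1
    rw [h.2, ← (norm_eq _).1, h2] at h1
    have h4 := h3 (Pi.single i 1 + Pi.single i 1 ᵥ* W) (Pi.single i 1 ᵥ* W)
    simp only [e, vecMul_add, vecMul_one] at h1 ⊢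
    rw [add_sub_cancel_right, h2, add_assoc, h1] at h4
    rcases le_total (nE (Pi.single i 1 ᵥ* W)) 2 with h5 | h5
    · simp [eq_zero_of_nE h5]
    · have := eq_zero_of_nE (c := Pi.single i 1 + Pi.single i 1 ᵥ* W) (by omega)
      rw [← add_assoc, this, zero_add]
      exact .inr (eq_neg_of_add_eq_zero_right this)
  have h5 := h.2 (Pi.single 0 1) (Pi.single 1 1)
  have h6 := h.2 (Pi.single 0 1) (Pi.single 2 1)
  have : G = of ![Pi.single 0 1 ᵥ* G, Pi.single 1 1 ᵥ* G, Pi.single 2 1 ᵥ* G] := by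
    ext1 i j; fin_cases i <;> simp
  rw [this]
  rcases key 0 with a | a <;> rcases key 1 with b | b <;> rcases key 2 with c | c <;>
    rw [a, b] at h5 <;> rw [a, c] at h6 <;> rw [a, b, c] <;> revert h5 h6 <;> decide

theorem central {f : twoJ2} (h : mat f = 1 ∨ mat f = -1) : f ∈ Subgroup.center twoJ2 := by
  refine Subgroup.mem_center_iff.2 fun g => inv_injective (Subtype.ext (Equiv.ext fun x => ?_))
  obtain ⟨c, rfl⟩ := L.surjective x
  refine ((rel_mat _).1 c).trans (Eq.trans ?_ ((rel_mat _).1 c).symm)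
  rcases h with h | h <;> simp [h]

/-! ### Reduction modulo two -/

/-- entries of the reduction: rational parts -/
def en0 (a : Z8) (s t : ℕ) : ℤ := if s = 0 then if t = 0 then a.a0 + a.a5 + a.a6 + a.a7 else a.a2 + a.a6 + a.a7
  else if t = 0 then a.a2 + a.a4 + a.a5 + a.a7 else a.a0 + a.a4 + a.a5

/-- entries of the reduction: irrational parts -/
def en1 (a : Z8) (s t : ℕ) : ℤ := if s = 0 then if t = 0 then a.a1 + a.a4 + a.a5 + a.a6 else a.a3 + a.a6
  else if t = 0 then a.a3 + a.a4 + a.a6 + a.a7 else a.a1 + a.a4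

variable {F : Type*} [Field F] [CharP F 2] {ω : F} (hω : ω * ω = ω + 1)

/-- the reduction modulo two -/
def θ : Z8 →+* Matrix (Fin 2) (Fin 2) F where
  toFun a := of fun s t => en0 a s t + ω * en1 a s t
  map_one' := by ext s t; fin_cases s <;> fin_cases t <;> simp [en0, en1, one_def]
  map_zero' := by ext s t; simp [en0, en1, zero_def]
  map_add' a b := by ext s t; fin_cases s <;> fin_cases t <;> simp [en0, en1, add_def] <;> ring
  map_mul' a b := by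
    change (of fun s t : Fin 2 => (en0 (Mul.mul a b) s t + ω * en1 (Mul.mul a b) s t : F)) = _
    ext s t; fin_cases s <;> fin_cases t <;> simp [en0, en1, Mul.mul, mul_apply] <;> grind

theorem θ_ker {a : Z8} (h : θ hω a = 0) : a = half a + half a := by
  have key : ∀ s t : Fin 2, en0 a s t % 2 = 0 ∧ en1 a s t % 2 = 0 := fun s t => by
    have : (en0 a s t + ω * en1 a s t : F) = 0 := congrFun (congrFun h s) t
    rw [CharP.intCast_eq_intCast_mod F 2, CharP.intCast_eq_intCast_mod F 2 (a := en1 a s t)] at this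
    rcases Int.emod_two_eq_zero_or_one (en0 a s t) with h | h <;>
      rcases Int.emod_two_eq_zero_or_one (en1 a s t) with h' | h' <;> simp [h, h'] at this ⊢ <;> grind
  have h1 := key 0 0
  have h2 := key 0 1
  have h3 := key 1 0
  have h4 := key 1 1
  simp [-Int.emod_emod_of_dvd, -EuclideanDomain.mod_eq_zero, en0, en1] at h1 h2 h3 h4
  ext <;> simp only [half, add_def] <;> omega

/-- the reduction of matrices -/
def blk : Matrix (Fin 3) (Fin 3) Z8 →+* Matrix (Fin 3 × Fin 2) (Fin 3 × Fin 2) F :=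
  (compRingEquiv _ _ _).toRingHom.comp (θ hω).mapMatrix

theorem isoJ2 {H : Subgroup (GL (Fin 3 × Fin 2) F)} (P : GL (Fin 3 × Fin 2) F)
    (h1 : ∀ d, ip d d = 1 + 1 → In H (P.1 * blk hω (Rf d) * (P⁻¹).1))
    (h2 : ∀ S, (∀ d, ip d d = 1 + 1 → In S (P.1 * blk hω (Rf d) * (P⁻¹).1)) → H ≤ S)
    (h3 : ∀ z ∈ H, (∀ h ∈ H, h * z = z * h) → z = 1) : IsoJ2 H := by
  let ρ := (MulAut.conj P).toMonoidHom.comp ((blk hω).toMonoidHom.comp mat).toHomUnits
  have hρ : ∀ f : twoJ2, ∀ G, Rel f G → (ρ f).1 = P.1 * blk hω G * (P⁻¹).1 := fun f G h => by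
    rw [h.uniq (rel_mat f)]; rfl
  have hr : ρ.range = H := by
    refine le_antisymm ?_ (h2 _ fun d hd => ?_)
    · rintro _ ⟨⟨f, hf⟩, rfl⟩
      induction hf using Subgroup.closure_induction with
      | mem f hf =>
        obtain ⟨d, hd, h, -⟩ := rel_refl hf
        exact In.mem (hρ ⟨f, Subgroup.subset_closure hf⟩ _ h ▸ h1 d hd)
      | one => exact ρ.map_one ▸ one_mem H
      | mul f g hf hg h h' => exact ρ.map_mul ⟨f, hf⟩ ⟨g, hg⟩ ▸ mul_mem h h'
      | inv f hf h => exact ρ.map_inv ⟨f, hf⟩ ▸ inv_mem h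
    · obtain ⟨f, hf, h⟩ := exists_refl hd
      exact ⟨_, ⟨⟨f, Subgroup.subset_closure hf⟩, rfl⟩, hρ _ _ h⟩
  have hk : Subgroup.center twoJ2 = ρ.ker := by
    refine le_antisymm (fun f hf => h3 _ (hr.le ⟨f, rfl⟩) fun h hh => ?_) fun f hf => central ?_
    · obtain ⟨g, rfl⟩ := hr.ge hh
      rw [← map_mul, ← map_mul, Subgroup.mem_center_iff.1 hf]
    · have h4 : blk hω (mat f - 1) = 0 := by
        have := congrArg Units.val ((MulAut.conj P).map_eq_one_iff.1 hf)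
        rw [map_sub, map_one, sub_eq_zero]; exact this
      refine pm_one (rel_mat f) (W := (mat f - 1).map half) (eq_add_of_sub_eq' ?_)
      ext1 i j
      exact θ_ker hω (Matrix.ext fun s t => congrFun (congrFun h4 (i, s)) (j, t))
  exact ⟨((QuotientGroup.quotientMulEquivOfEq hk).trans ((QuotientGroup.quotientKerEquivRange ρ).trans
    (MulEquiv.subgroupCongr hr))).symm⟩

end Cfsg.Agent.H7.J2
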