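import Cfsg.Agent.H7.J2b

/-!
The minimal vectors of the icosian Leech lattice.
-/

set_option autoImplicit false
set_option linter.unusedSectionVars false

namespace Cfsg.Agent.H7.J2

open Matrix Z8 Cert Bit

/-- quantifier over the integral vectors with a given small sum of squares -/
noncomputable def allV (k : ℕ) : (List ℤ → Bool) → ℕ → Bool :=
  Nat.rec (motive := fun _ => (List ℤ → Bool) → ℕ → Bool) (fun P s => !Nat.beq s 0 || P [])
    (fun _ ih P s => ih (fun l => P (0 :: l)) s &&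
      (Nat.ble s 0 || ih (fun l => P (1 :: l)) (Nat.sub s 1) && ih (fun l => P (-1 :: l)) (Nat.sub s 1)) &&
      (Nat.ble s 3 || ih (fun l => P (2 :: l)) (Nat.sub s 4) && ih (fun l => P (-2 :: l)) (Nat.sub s 4))) k

theorem allV_spec (l : List ℤ) {P : List ℤ → Bool} {s : ℕ} (h : allV l.length P s = true) (hs : s ≤ 8)
    (e : (l.map (· ^ 2)).sum = (s : ℤ)) : P l = true := by
  induction l generalizing P s with
  | nil => obtain rfl : s = 0 := by simpa using e.symm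
           exact h
  | cons t l ih =>
    have h0 := List.sum_nonneg (l := l.map (· ^ 2)) (by simp only [List.forall_mem_map]; intros; positivity)
    change (allV l.length _ _ && (_ || allV l.length _ _ && allV l.length _ _) &&
      (_ || allV l.length _ _ && allV l.length _ _)) = true at h
    simp only [Bool.and_eq_true, Bool.or_eq_true, Nat.ble_eq, Nat.sub_eq, List.map_cons, List.sum_cons] at h e
    have h3 : t ^ 2 ≤ 8 := by omega
    have h1 : -3 < t := by nlinarith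
    have h2 : t < 3 := by nlinarith
    interval_cases t
    · exact ih (h.2.resolve_left (by omega)).2 (by omega) (by omega)
    · exact ih (h.1.2.resolve_left (by omega)).2 (by omega) (by omega)
    · exact ih h.1.1 hs (by omega)
    · exact ih (h.1.2.resolve_left (by omega)).1 (by omega) (by omega)
    · exact ih (h.2.resolve_left (by omega)).1 (by omega) (by omega)

/-- evenness -/
def ev (x : ℤ) : Bool := Nat.beq (Nat.mod x.natAbs 2) 0

theorem ev_iff {x : ℤ} : ev x = true ↔ x % 2 = 0 := by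
  rw [ev, Nat.beq_eq, show x.natAbs.mod 2 = x.natAbs % 2 from rfl]; omega

/-- a property of icosians as a property of doubled coordinates -/
def lift (Q : Z8 → Bool) : List ℤ → Bool
  | [m0, n0, m1, n1, m2, n2, m3, n3] => !(ev (m0 + n3 + m3 + n2) && ev (n0 + m3 + m2 + n2) &&
      ev (m1 + n3 + m2 + n2) && ev (n1 + n3 + m3 + m2)) || Q ⟨(m0 - n3 + m3 + m2 + m2 - n2) / 2,
      (n0 - m3 - m2 + n2) / 2, (m1 - n3 + m3 + m3 - m2 + n2) / 2, (n1 + n3 - m3 + m2) / 2, n3 - m3, m3, m2 - n2, -m2⟩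
  | _ => true

theorem lift_spec {Q : Z8 → Bool} {s : ℕ} (h : allV 8 (lift Q) s = true) (hs : s ≤ 8) {a : Z8}
    (e : 4 * nA a = s) : Q a = true := by
  have := allV_spec (dbl a) h hs ((sum_dbl a).trans e)
  simp only [dbl, lift, Bool.or_eq_true, Bool.not_eq_true', ← Bool.not_eq_true, Bool.and_eq_true, ev_iff] at this
  convert this.resolve_left (by omega) <;> omega

/-- test for the left ideal generated by `h` -/
def tH (a : Z8) : Bool := ev (a.a0 + a.a1 + a.a2 + a.a3 + a.a4) && ev (a.a0 + a.a2 + a.a5) &&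
  ev (a.a0 + a.a1 + a.a2 + a.a3 + a.a6) && ev (a.a0 + a.a2 + a.a7)

/-- test for the left ideal generated by the conjugate of `h` -/
def tB (a : Z8) : Bool := ev (a.a0 + a.a1 + a.a4) && ev (a.a0 + a.a5) && ev (a.a2 + a.a3 + a.a6) && ev (a.a2 + a.a7)

theorem tH_mul (a : Z8) : tH (a * hc) = true := by
  change tH (Mul.mul a hc) = true
  simp only [tH, Mul.mul, hc, Bool.and_eq_true, ev_iff]; omega

theorem tB_mul (a : Z8) : tB (a * hb) = true := by
  change tB (Mul.mul a hb) = true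
  simp only [tB, Mul.mul, hb, Bool.and_eq_true, ev_iff]; omega

/-- the elements congruent to one of norm `1` or `τ²` -/
def L1 : List Z8 := [⟨-1, 0, 0, 0, 0, 0, 0, 0⟩, ⟨0, -1, -1, 0, 1, 0, 1, 0⟩, ⟨0, 0, 1, -1, -1, 0, -1, 0⟩, ⟨1, -1, 0, 0, -1, 0, 1, 0⟩, ⟨-1, 0, 0, 1, 1, 0, -1, 0⟩, ⟨0, 0, -1, 0, 0, 0, 0, 0⟩, ⟨-2, 1, 1, -1, 0, 0, -2, 2⟩, ⟨-1, 1, -2, 1, 2, -2, 0, 0⟩, ⟨1, -1, 2, -1, -2, 2, 0, 0⟩, ⟨2, -1, -1, 1, 0, 0, 2, -2⟩, ⟨0, 0, 1, 0, 0, 0, 0, 0⟩, ⟨1, 0, 0, -1, -1, 0, 1, 0⟩, ⟨-1, 1, 0, 0, 1, 0, -1, 0⟩, ⟨0, 0, -1, 1, 1, 0, 1, 0⟩, ⟨0, 1, 1, 0, -1, 0, -1, 0⟩, ⟨1, 0, 0, 0, 0, 0, 0, 0⟩]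

/-- the elements congruent to one of norm `2` or `σ²` -/
def L2 : List Z8 := [⟨0, 0, 2, -2, -3, 1, -1, 1⟩, ⟨-2, 1, 2, -1, -1, 1, -3, 1⟩, ⟨1, -1, -3, 1, 1, -1, 3, -1⟩, ⟨-1, 0, -3, 2, 3, -1, 1, -1⟩, ⟨-1, 0, 1, 0, -1, 1, -1, 1⟩, ⟨0, 0, -2, 2, 1, -1, 1, -1⟩, ⟨-2, 1, 0, -1, 1, -1, -1, 1⟩, ⟨1, -1, 1, -1, -1, 1, 1, -1⟩, ⟨-3, 1, -1, 1, 3, -1, -1, 1⟩, ⟨-3, 2, 1, 0, 1, -1, -3, 1⟩, ⟨2, -2, 0, 0, -1, 1, 3, -1⟩, ⟨2, -1, 2, -1, -3, 1, 1, -1⟩, ⟨-3, 2, -1, 1, 2, -1, -2, 1⟩, ⟨2, -1, 0, 0, -2, 1, 2, -1⟩, ⟨-1, 1, 3, -2, -2, 1, -2, 1⟩, ⟨0, 0, -2, 1, 2, -1, 2, -1⟩, ⟨-1, 1, 1, -1, -1, 1, -1, 1⟩, ⟨0, 1, -2, 1, 1, -1, 1, -1⟩, ⟨-2, 2, 0, 0, 1, -1, -1, 1⟩, ⟨1, 0, 1, 0, -1, 1, 1, -1⟩, ⟨-1, 0, -1, 0, 1, -1, -1, 1⟩, ⟨2, -2, 0, 0, -1, 1, 1, -1⟩, ⟨0, -1, 2, -1, -1, 1, -1, 1⟩, ⟨1, -1, -1, 1, 1, -1, 1, -1⟩, ⟨0, 0, 2, -1, -2, 1, -2, 1⟩, ⟨1, -1, -3, 2, 2, -1, 2, -1⟩, ⟨-2, 1, 0, 0, 2, -1, -2, 1⟩, ⟨3, -2, 1, -1, -2, 1, 2, -1⟩, ⟨-2,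 1, -2, 1, 3, -1, -1, 1⟩, ⟨-2, 2, 0, 0, 1, -1, -3, 1⟩, ⟨3, -2, -1, 0, -1, 1, 3, -1⟩, ⟨3, -1, 1, -1, -3, 1, 1, -1⟩, ⟨-1, 1, -1, 1, 1, -1, -1, 1⟩, ⟨2, -1, 0, 1, -1, 1, 1, -1⟩, ⟨0, 0, 2, -2, -1, 1, -1, 1⟩, ⟨1, 0, -1, 0, 1, -1, 1, -1⟩, ⟨1, 0, 3, -2, -3, 1, -1, 1⟩, ⟨-1, 1, 3, -1, -1, 1, -3, 1⟩, ⟨2, -1, -2, 1, 1, -1, 3, -1⟩, ⟨0, 0, -2, 2, 3, -1, 1, -1⟩]

theorem chk1 : allV 8 (lift fun a => (nB a == 0 || nB a == 1) && (!tH (a + -1) || L1.contains a)) 4 = true := by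
  decide +kernel

theorem chk2 : allV 8 (lift fun a => decide (-1 ≤ nB a) && (!tH (a + -1) || decide (0 < nB a) || L2.contains a)) 8 =
    true := by decide +kernel

/-- a property for all permutations -/
def Q6 (Q : Z8 → Z8 → Z8 → Bool) (x y z : Z8) : Bool :=
  Q x y z && Q x z y && Q y x z && Q y z x && Q z x y && Q z y x

/-- a property of all normalised minimal vectors -/
noncomputable def chkQ (Q : Z8 → Z8 → Z8 → Bool) : Bool :=
  (L1.all fun y => L2.all fun z => !(nB y + nB z == 0 && tB (1 + y + z)) || Q6 Q 1 y z) &&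
    allV 8 (lift fun b => !(nB b == 0 && tB (hc + b * hc)) || Q6 Q 0 hc (b * hc)) 4 && Q6 Q 0 0 (1 + 1)

theorem Lam.mul {x y z : Z8} (u : Z8) : Lam x y z → Lam (u * x) (u * y) (u * z)
  | ⟨⟨a, h1⟩, ⟨b, h2⟩, ⟨d, h3⟩⟩ => ⟨⟨u * a, by rw [← mul_sub, h1, mul_assoc]⟩,
    ⟨u * b, by rw [← mul_sub, h2, mul_assoc]⟩, ⟨u * d, by rw [← mul_add, ← mul_add, h3, mul_assoc]⟩⟩

theorem unit_of {u : Z8} (h : nA u = 1) (h' : nB u = 0) : star u * star (star u) = 1 ∧ star u * u = 1 := by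
  rw [star_star, star_mul', mul_star, h, h']; exact ⟨rfl, rfl⟩

theorem classify {Q : Z8 → Z8 → Z8 → Bool} (hQ : chkQ Q = true) {T : Z8 → Z8 → Z8 → Prop}
    (h1 : ∀ u x y z, u * star u = 1 → T (u * x) (u * y) (u * z) → T x y z) (h2 : ∀ x y z, Q x y z = true → T x y z)
    {x y z : Z8} (hl : Lam x y z) (hA : nA x + nA y + nA z = 4) (hB : nB x + nB y + nB z = 0) : T x y z := by
  let S x y z := T x y z ∧ T x z y ∧ T y x z ∧ T y z x ∧ T z x y ∧ T z y x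
  have h3 : ∀ u x y z, u * star u = 1 → Q6 Q (u * x) (u * y) (u * z) = true → S x y z := fun u x y z hu h => by
    simp only [Q6, Bool.and_eq_true] at h
    refine ⟨?_, ?_, ?_, ?_, ?_, ?_⟩ <;> refine h1 u _ _ _ hu (h2 _ _ _ ?_) <;> simp only [h]
  simp only [chkQ, Bool.and_eq_true, List.all_eq_true, Bool.or_eq_true, Bool.not_eq_true', ← Bool.not_eq_true,
    beq_iff_eq, ← imp_iff_not_or, and_imp] at hQ
  have c1 : ∀ a, nA a = 1 → (nB a = 0 ∨ nB a = 1) ∧ (tH (a + -1) = true → a ∈ L1) := fun a ha => by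
    simpa [imp_iff_not_or] using lift_spec chk1 (a := a) (by omega) (by omega)
  have c2 : ∀ a, nA a = 2 → -1 ≤ nB a ∧ (tH (a + -1) = true → nB a ≤ 0 → a ∈ L2) := fun a ha => by
    simpa [imp_iff_not_or, or_assoc] using lift_spec chk2 (a := a) (by omega) (by omega)
  have k1 : ∀ x y z, Lam x y z → nA x = 1 → nB x = 0 → nA y = 1 → nA z = 2 → nB y + nB z = 0 → S x y z := by
    intro x y z hl hx hx' hy hz hB
    obtain ⟨hu, hu'⟩ := unit_of hx hx'
    refine h3 _ _ _ _ hu ?_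
    obtain ⟨⟨a, ha⟩, ⟨b, hb'⟩, ⟨d, hd⟩⟩ := hl.mul (star x)
    have := nA_unit hu y
    have := nA_unit hu z
    have := (c1 y hy).1
    rw [hu'] at ha hd ⊢
    refine hQ.1.1 _ ((c1 _ (by omega)).2 ?_) _ ((c2 _ (by omega)).2 ?_ (by omega)) (by omega) (hd ▸ tB_mul d)
    · rw [show star x * y + -1 = -a * hc by rw [neg_mul, ← ha]; abel]; exact tH_mul _
    · rw [show star x * z + -1 = -(a + b) * hc by rw [neg_mul, add_mul, ← ha, ← hb']; abel]; exact tH_mul _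
  have key : ∀ x y z, Lam x y z → nA x + nA y + nA z = 4 → nB x + nB y + nB z = 0 → nA x ≤ nA y → nA y ≤ nA z →
      S x y z := by
    intro x y z hl hA hB hxy hyz
    have := nA_nonneg x
    obtain hx | hx : nA x = 0 ∨ nA x = 1 := by omega
    · obtain rfl := eq_zero_of_nA hx
      obtain ⟨⟨a, ha⟩, ⟨b, hb'⟩, ⟨d, hd⟩⟩ := id hl
      obtain rfl : y = -a * hc := by rw [neg_mul, ← ha]; abel
      obtain rfl : z = -(a + b) * hc := by rw [neg_mul, add_mul, ← ha, ← hb']; abel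
      generalize -a = a, -(a + b) = b at *
      have := nA_hc a; have := nA_hc b; have := nA_nonneg a
      have : nB 0 = 0 := rfl
      obtain hx | hx : nA a = 0 ∨ nA a = 1 := by omega
      · obtain rfl := eq_zero_of_nA hx
        obtain ⟨u, hu⟩ := two_dvd (v := b * hc) rfl (by simpa using hd)
        have := hu ▸ nA_dbl u
        have : nA 0 = 0 := rfl
        obtain ⟨h4, h5⟩ := unit_of (u := u) (by omega) (by omega)
        exact h3 _ _ _ _ h4 (by simpa only [hu, mul_add, h5, mul_zero, zero_mul] using hQ.2)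
      · have := (c1 a hx).1; have := (c1 b (by omega)).1
        obtain ⟨h4, h5⟩ := unit_of hx (by omega)
        have := nA_unit h4 b
        have h6 := lift_spec hQ.1.2 (a := star a * b) (by omega) (by omega)
        simp only [Bool.or_eq_true, Bool.not_eq_true', ← Bool.not_eq_true, Bool.and_eq_true, beq_iff_eq] at h6
        refine h3 _ _ _ _ h4 ?_
        simp only [← mul_assoc, h5, one_mul, mul_zero]
        refine h6.resolve_left (not_not.2 ⟨by omega, ?_⟩)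
        rw [show hc + star a * b * hc = star a * d * hb by
          rw [mul_assoc _ d, ← hd, zero_add, mul_add, ← mul_assoc, ← mul_assoc, h5, one_mul]]
        exact tB_mul _
    · have := (c1 x hx).1; have := (c1 y (by omega)).1; have := (c2 z (by omega)).1
      obtain h4 | h4 : nB x = 0 ∨ nB y = 0 := by omega
      · exact k1 x y z hl hx h4 (by omega) (by omega) (by omega)
      · have := k1 y x z hl.swap₁ (by omega) h4 hx (by omega) (by omega)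
        simp only [S, this, and_self]
  rcases le_total (nA x) (nA y) with a | a <;> rcases le_total (nA y) (nA z) with b | b <;>
    rcases le_total (nA x) (nA z) with c | c
  all_goals first
    | exact (key x y z hl hA hB (by omega) (by omega)).1
    | exact (key x z y hl.swap₂ (by omega) (by omega) (by omega) (by omega)).2.1
    | exact (key y x z hl.swap₁ (by omega) (by omega) (by omega) (by omega)).2.2.1
    | exact (key y z x hl.swap₁.swap₂ (by omega) (by omega) (by omega) (by omega)).2.2.2.2.1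
    | exact (key z x y hl.swap₂.swap₁ (by omega) (by omega) (by omega) (by omega)).2.2.2.1
    | exact (key z y x hl.swap₁.swap₂.swap₁ (by omega) (by omega) (by omega) (by omega)).2.2.2.2.2

theorem Rf_unit {u : Z8} (hu : u * star u = 1) (d : Fin 3 → Z8) : Rf (u • d) = Rf d := by
  ext1 i j
  simp only [Rf, Matrix.sub_apply, vecMulVec_apply, mulVec, dotProduct, Pi.star_apply, Pi.smul_apply, smul_eq_mul,
    star_mul, Finset.sum_mul, mul_assoc, ← mul_assoc (star u), star_mul', hu, one_mul]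

theorem all_refl {Q : Z8 → Z8 → Z8 → Bool} (hQ : chkQ Q = true) {T : Matrix (Fin 3) (Fin 3) Z8 → Prop}
    (h : ∀ x y z, Q x y z = true → T (Rf (crd x y z))) {d : Fin 3 → Z8} (hd : ip d d = 1 + 1) : T (Rf d) := by
  have := norm_eq d
  rw [hd] at this
  refine classify hQ (T := fun x y z => ∀ d, x = (d ᵥ* Bm) 0 → y = (d ᵥ* Bm) 1 → z = (d ᵥ* Bm) 2 → T (Rf d))
    ?_ ?_ ((lam_iff _).2 ⟨d, rfl⟩) this.1 this.2 d rfl rfl rfl
  · rintro u _ _ _ hu h d rfl rfl rfl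
    exact Rf_unit hu d ▸ h (u • d) (by simp [smul_vecMul]) (by simp [smul_vecMul]) (by simp [smul_vecMul])
  · rintro _ _ _ h' d rfl rfl rfl
    exact crd_vec d ▸ h _ _ _ h'

/-! ### Codes of the reflections -/

/-- a matrix with given parities -/
noncomputable def mkZ (n m : ℕ) (g : ℕ → ℕ → ℤ) : ℕ :=
  mk n m fun j => sumB n fun i => Bool.rec (motive := fun _ => ℕ) (Nat.pow 2 i) 0 (ev (g i j))

/-- one of three elements -/
def sel (a b c : Z8) (j : ℕ) : Z8 := if j = 0 then a else if j = 1 then b else c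

/-- code of a matrix with two by two blocks -/
noncomputable def blkP (n m : ℕ) (g : ℕ → ℕ → Z8) : ℕ := pk (Nat.mul n m)
  (mkZ n m fun p q => en0 (g (p / 2) (q / 2)) (p % 2) (q % 2), mkZ n m fun p q => en1 (g (p / 2) (q / 2)) (p % 2) (q % 2))

/-- code of a reflection -/
noncomputable def rfP (d : Fin 3 → Z8) : ℕ := Nat.xor (one 6) (mulP 6 2 6 (mulP 6 6 2
  (blkP 6 6 fun i j => sel (sel (Gm 0 0) (Gm 0 1) (Gm 0 2) j) (sel (Gm 1 0) (Gm 1 1) (Gm 1 2) j)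
    (sel (Gm 2 0) (Gm 2 1) (Gm 2 2) j) i)
  (blkP 6 2 fun i _ => star (sel (d 0) (d 1) (d 2) i))) (blkP 2 6 fun _ j => sel (d 0) (d 1) (d 2) j))

/-- coding of the basis -/
abbrev e6 : Fin 3 × Fin 2 ≃ Fin 6 := finProdFinEquiv

variable {F : Type*} [Field F] [CharP F 2] {ω : F} (hω : ω * ω = ω + 1)

theorem toM_mkZ {ι κ : Type*} [Fintype ι] [Fintype κ] {n m : ℕ} (e : ι ≃ Fin n) (e' : κ ≃ Fin m) (g : ℕ → ℕ → ℤ)
    (i : ι) (j : κ) : toM F e e' (mkZ n m g) i j = g (e i) (e' j) := by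
  have key : ∀ (f : ℕ → ℕ) p k, bit F (sumB p f) k = ∑ a ∈ Finset.range p, bit F (f a) k := fun f p k => by
    induction p with
    | zero => simp [sumB]
    | succ p ih => rw [Finset.sum_range_succ, ← ih, ← bit_xor]; rfl
  rw [mkZ, toM_mk, toV, key, Finset.sum_eq_single (e i : ℕ), CharP.intCast_eq_intCast_mod F 2]
  · cases h : ev (g (e i) (e' j))
    · have := mt ev_iff.2 (by simpa using h)
      simp [bit_pow, show g (e i) (e' j) % 2 = 1 by omega]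
    · simp [ev_iff.1 h]
  · intro a _ ha
    cases ev (g a (e' j)) <;> simp [bit_pow, ha.symm]
  · simp

theorem toP_blkP {ι κ : Type*} [Fintype ι] [Fintype κ] [DecidableEq ι] [DecidableEq κ] {n m : ℕ} (e : ι ≃ Fin n)
    (e' : κ ≃ Fin m) (g : ℕ → ℕ → Z8) (i : ι) (j : κ) : toP ω e e' (blkP n m g) i j =
      θ hω (g (e i / 2) (e' j / 2)) ⟨e i % 2, Nat.mod_lt _ two_pos⟩ ⟨e' j % 2, Nat.mod_lt _ two_pos⟩ := by
  simp [blkP, -Nat.mul_eq, toP_pk, toQ, toM_mkZ, θ]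

theorem toP_one : toP ω e6 e6 (one 6) = 1 := by rw [toP_of_lt e6 e6 (by decide +kernel), toM_one]

theorem toP_rfP (d : Fin 3 → Z8) : toP ω e6 e6 (rfP d) = blk hω (Rf d) := by
  rw [rfP, toP_xor, toP_mul hω e6 (Equiv.refl _), toP_mul hω e6 e6, toP_one, Rf, map_sub, map_one,
    CharTwo.sub_eq_add]
  congr 1
  ext ⟨i, s⟩ ⟨j, t⟩
  simp only [mul_apply, toP_blkP hω, Fintype.sum_prod_type]
  simp only [blk, vecMulVec_apply, mulVec, dotProduct, Fin.sum_univ_three, map_mul, map_add, RingHom.comp_apply,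
    RingEquiv.toRingHom_eq_coe, RingHom.coe_coe, compRingEquiv_apply, comp_apply, RingHom.mapMatrix_apply,
    map_apply, mul_apply, Matrix.add_apply, Fin.sum_univ_two]
  fin_cases i <;> fin_cases s <;> fin_cases j <;> fin_cases t <;> rfl

end Cfsg.Agent.H7.J2
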