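import Cfsg.Agent.H7.J2d

/-!
The Hall–Janko group in `G₂(4)`.
-/

set_option autoImplicit false
set_option linter.unusedSectionVars false

namespace Cfsg.Agent.H7.J2

open Cfsg.Lie Cfsg.Spor Bit Cert Matrix

theorem eig_of_rk1' {K ι : Type*} [CommRing K] [CharP K 2] [Fintype ι] [DecidableEq ι] {n : ℕ} (e : ι ≃ Fin n)
    {A B u z : ℕ} {s : Matrix ι ι K} (j : ι) (hz : z.testBit (e j)) (h : mul n n n A B = rk1 n n u z)
    (hA : s * toM K e e A = toM K e e A * s) (hB : s * toM K e e B = toM K e e B * s) :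
    ∃ c : K, s *ᵥ toV K e u = c • toV K e u := by
  have h1 : s * toM K e e (mul n n n A B) = toM K e e (mul n n n A B) * s := by
    rw [toM_mul e e e, ← Matrix.mul_assoc, hA, Matrix.mul_assoc, hB, Matrix.mul_assoc]
  rw [h, toM_rk1] at h1
  have := congrArg (· *ᵥ (Pi.single j 1 : ι → K)) h1
  simp only [← mulVec_mulVec, vecMulVec_mulVec] at this
  exact ⟨_, by simpa [toV, bit, hz] using this⟩

theorem allIn_rep {M : Type*} [Monoid M] {f : ℕ → M} {X : ℕ → ℕ} {mu : ℕ → ℕ → ℕ}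
    (hmu : ∀ a b, f (mu a b) = f a * f b) {S : Subgroup Mˣ} {k k' s N : ℕ} {rs : List ℕ} {W : ℕ → ℕ}
    (h : AllIn f X S k) (h' : AllIn f X S k') (hr : ∀ r ∈ rs, In S (f (X r))) (hc : repChk mu X k rs s N W = true) :
    AllIn f X S (ext k' s N) := fun j hj => by
  simp only [Cert.ext, Nat.lor_eq, Nat.testBit_or, Nat.shiftLeft_eq', Nat.testBit_shiftLeft, Nat.pow_eq,
    Nat.pred_eq_sub_one, Nat.testBit_two_pow_sub_one, Bool.or_eq_true, Bool.and_eq_true, decide_eq_true_eq] at hj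
  refine hj.elim (h' j) fun hj => ?_
  simp only [repChk, Bool.and_eq_true] at hc
  have := all_spec hc.2 _ hj.2
  simp only [Bool.and_eq_true, Nat.beq_eq, List.any_eq_true, Nat.add_eq, Nat.add_sub_cancel' hj.1] at this
  obtain ⟨⟨⟨r, hr', rfl⟩, h3⟩, h4⟩ := this
  exact h4 ▸ hmu .. ▸ (ev_in hmu h h3).mul (hr _ hr')

variable {F : Type*} [Field F] [CharP F 2] [Fintype F] {ω : F} (hω : ω * ω = ω + 1)

variable (ω) in
/-- the matrix with a given code -/
abbrev f : ℕ → Matrix (Fin 3 × Fin 2) (Fin 3 × Fin 2) F := toP ω e6 e6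

variable (ω) in
/-- the group `J₂` -/
abbrev HH := gen (f ω) X [1, 2, 3, 4]

variable (ω) in
/-- the group `G₂(4)` -/
abbrev LL := gen (f ω) X [1, 2, 3, 4, 5]

theorem f0 : f ω (X 0) = 1 := by rw [chk_misc.1]; exact toP_one

include hω

theorem hmu (a b : ℕ) : f ω (mu a b) = f ω a * f ω b := toP_mul hω ..

theorem sq_one {j : ℕ} (hj : j ∈ [1, 2, 3, 4, 5, 6]) : f ω (X j) * f ω (X j) = 1 := by
  rw [← hmu hω, chk_misc.2.2.2.1 j hj]; exact toP_one

theorem in_1 : AllIn (f ω) X (HH ω) k1 :=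
  (allIn_gen f0 fun j hj => .of_mul_eq_one _ (sq_one hω (by revert j; decide))).slp (hmu hω) chk_1

theorem in_gen {gs : List ℕ} (h : gs.all (bt k1) = true) : AllIn (f ω) X (gen (f ω) X gs) (mask gs) :=
  allIn_gen f0 fun j hj => let ⟨g, _, e⟩ := (in_1 hω).of_list h j hj; e ▸ g.isUnit

theorem in_A : AllIn (f ω) X (gen (f ω) X [7, 8]) kA := (in_gen hω (by decide +kernel)).slp (hmu hω) chk_A
theorem in_B : AllIn (f ω) X (gen (f ω) X [9, 10]) kB := (in_gen hω (by decide +kernel)).slp (hmu hω) chk_B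
theorem A_le : gen (f ω) X [7, 8] ≤ HH ω := gen_le ((in_1 hω).of_list (by decide +kernel))
theorem B_le : gen (f ω) X [9, 10] ≤ HH ω := gen_le ((in_1 hω).of_list (by decide +kernel))

theorem in_H : AllIn (f ω) X (HH ω) kH :=
  allIn_rep (hmu hω) ((in_B hω).mono (B_le hω)) (allIn_rep (hmu hω) ((in_A hω).mono (A_le hω))
    (((in_1 hω).or ((in_A hω).mono (A_le hω))).or ((in_B hω).mono (B_le hω)))
    ((in_1 hω).of_list (by decide +kernel)) rep_A) ((in_1 hω).of_list (by decide +kernel)) rep_B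

theorem in_L : AllIn (f ω) X (LL ω) (mask [1, 2, 3, 4, 5]) :=
  allIn_gen f0 fun j hj => .of_mul_eq_one _ (sq_one hω (by revert j; decide))

theorem H_le : HH ω ≤ LL ω := gen_le ((in_L hω).of_list (by decide +kernel))

theorem not_in {p : ℕ × ℕ} (hp : p ∈ [(X 5, 96), (mu (X 5) (mu (X 1) (X 5)), 1), (mu (X 6) (mu (X 1) (X 6)), 4)]) :
    ¬In (HH ω) (f ω p.1) := by
  rintro ⟨g, hg, e⟩
  have h0 : ∀ v, Ov.testBit v → v < 4096 := fun v hv => Nat.lt_of_not_le fun h => by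
    obtain ⟨c, rfl⟩ := Nat.exists_eq_add_of_le h
    rw [← Nat.testBit_shiftRight, show Ov >>> 4096 = 0 from chk_O.1] at hv
    simp at hv
  obtain ⟨h1, h2, h3⟩ := chk_not p hp
  obtain ⟨v, hv, e'⟩ := gen_ind (P := fun x : Matrix (Fin 3 × Fin 2) (Fin 3 × Fin 2) F => ∃ v, Ov.testBit v ∧
      x * toP ω e6 (Equiv.refl (Fin 1)) p.2 = toP ω e6 (Equiv.refl (Fin 1)) v)
    ⟨_, bt_eq .. ▸ h1, Matrix.one_mul _⟩ (fun j hj x ⟨v, hv, e⟩ => ⟨mulP 6 6 1 (X j) v,
      by simpa [bt_eq, hv] using all_spec (chk_O.2 j hj) v (h0 v hv),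
      by rw [Matrix.mul_assoc, e, toP_mul hω e6 e6]⟩) hg
  rw [e, ← toP_mul hω e6 e6] at e'
  rw [toP_inj hω _ _ h3 (h0 v hv) e', bt_eq, hv] at h2
  cases h2

theorem H_cov : HH ω ⋖ LL ω :=
  covBy_gen (hmu hω) f0 (in_H hω) (H_le hω) (fun h => not_in hω (p := (X 5, 96)) (by simp)
    (((in_L hω).mono h).of_list (gs := [5]) (by decide +kernel) 5 (by simp)))
    (fun _ => cover (hmu hω) f0 (in_H hω) (by decide) rep_G fun g hg => ⟨_, tab_G g hg⟩) max_G

theorem conj_cov {c : GL (Fin 3 × Fin 2) F} {r : ℕ} (hr : r ∈ [1, 2, 3, 4, 5, 6]) (hc : c.1 = f ω (X r))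
    (h1 : ¬In (HH ω) (f ω (mu (X r) (mu (X 1) (X r))))) {gs : List ℕ} (h2 : gen (f ω) X gs ≤ HH ω)
    (h3 : ∀ j ∈ gs, In (HH ω) (f ω (mu (X r) (mu (X j) (X r))))) (h4 : ¬HH ω ≤ gen (f ω) X gs → gen (f ω) X gs ⋖ HH ω) :
    HH ω ⊓ (HH ω).map (MulAut.conj c).toMonoidHom ⋖ HH ω := by
  have hi : c⁻¹ = c := inv_eq_of_mul_eq_one_right (Units.ext (by rw [Units.val_mul, hc, sq_one hω hr]; rfl))
  have h5 : gen (f ω) X gs ≤ (HH ω).map (MulAut.conj c).toMonoidHom := gen_le fun j hj => by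
    obtain ⟨g, hg, e⟩ := h3 j hj
    refine ⟨_, ⟨g, hg, rfl⟩, ?_⟩
    simp only [MulEquiv.toMonoidHom_eq_coe, MonoidHom.coe_coe, MulAut.conj_apply, hi, Units.val_mul, e, hc, hmu hω,
      ← mul_assoc, sq_one hω hr, one_mul]
    rw [mul_assoc, sq_one hω hr, mul_one]
  have h6 : ¬HH ω ≤ (HH ω).map (MulAut.conj c).toMonoidHom := fun h => by
    obtain ⟨_, ⟨g, hg, rfl⟩, e⟩ := ((in_1 hω).mono h).of_list (gs := [1]) (by decide +kernel) 1 (by simp)
    refine h1 ⟨g, hg, ?_⟩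
    simp only [MulEquiv.toMonoidHom_eq_coe, MonoidHom.coe_coe, MulAut.conj_apply, hi, Units.val_mul, hc] at e
    simp only [hmu hω, ← e, ← mul_assoc, sq_one hω hr, one_mul]
    rw [mul_assoc, sq_one hω hr, mul_one]
  have h7 := h4 fun h => h6 (h.trans h5)
  rwa [(h7.eq_or_eq (le_inf h2 h5) inf_le_left).resolve_right fun h => h6 (inf_eq_left.1 h)]

theorem ext_prim {x : GL (Fin 3 × Fin 2) F} (hx : x ∈ LL ω) (hx' : x ∉ HH ω) :
    HH ω ⊓ (HH ω).map (MulAut.conj x).toMonoidHom ⋖ HH ω := by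
  obtain ⟨r, hr, a, ha, b, hb, e⟩ := cover (hmu hω) f0 (in_H hω) (by decide) rep_G (fun g hg => ⟨_, tab_G g hg⟩) hx
  have e' : (a⁻¹ * x * b⁻¹).1 = f ω (X r) := by simp [e, mul_assoc]
  rw [show x = a * (a⁻¹ * x * b⁻¹) * b by group]
  refine covBy_conj ha hb ?_
  simp only [List.mem_cons, List.not_mem_nil, or_false] at hr
  rcases hr with rfl | rfl | rfl
  · exact absurd (In.mem ⟨a * b, mul_mem ha hb, by simp [e, f0]⟩) hx'
  · refine conj_cov hω (by simp) e' (not_in hω (p := (mu (X 5) (mu (X 1) (X 5)), 1)) (by simp)) (A_le hω)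
      (fun j hj => let ⟨_, _, h⟩ := conj_A j hj; word_in (hmu hω) (in_H hω) h) fun h => covBy_gen (hmu hω) f0 (in_A hω)
      (A_le hω) h (fun _ => cover (hmu hω) f0 (in_A hω) (by decide) rep_A fun g hg => ⟨_, tab_A g hg⟩) max_A
  · refine conj_cov hω (by simp) e' (not_in hω (p := (mu (X 6) (mu (X 1) (X 6)), 4)) (by simp)) (B_le hω)
      (fun j hj => let ⟨_, _, h⟩ := conj_B j hj; word_in (hmu hω) (in_H hω) h) fun h => covBy_gen (hmu hω) f0 (in_B hω)
      (B_le hω) h (fun _ => cover (hmu hω) f0 (in_B hω) (by decide) rep_B fun g hg => ⟨_, tab_B g hg⟩) max_B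

theorem scalar_eq {x : GL (Fin 3 × Fin 2) F} (hx : x ∈ LL ω) {c : F} (hc : x.1 = c • 1) : x = 1 := by
  have h1 : ∀ A, toM F e6 e6 (tr A) = (toM F e6 e6 A)ᵀ := fun A => by
    ext i j
    rw [tr, toM_mkZ, transpose_apply, bt_eq, toM, of_apply, bit]
    cases A.testBit (6 * e6 i + e6 j) <;> simp
  have h2 := gen_ind (P := fun x : Matrix _ _ F => xᵀ * (f ω JJ * x) = f ω JJ) (by simp) (fun j hj x h => by
    have := congrArg (f ω) (chk_misc.2.2.2.2.1 j hj)
    rw [hmu hω, hmu hω, show f ω (pk 36 _) = _ from toP_pk e6 e6 _, toQ, h1, h1, ← transpose_smul,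
      ← transpose_add] at this
    rw [transpose_mul, mul_assoc, ← mul_assoc _ _ x, ← mul_assoc _ _ x]
    exact (congrArg (fun y => xᵀ * (y * x)) this).trans h) hx
  have h3 := congrFun (congrFun h2 (0, 0)) (2, 1)
  have h4 : f ω JJ (0, 0) (2, 1) = 1 := by
    rw [f, toP_of_lt e6 e6 (by decide +kernel)]; exact if_pos (e := 0) (show Nat.testBit JJ 30 = true by decide +kernel)
  simp only [hc, transpose_smul, transpose_one, mul_smul_comm, smul_mul_assoc, mul_one, one_mul, Matrix.smul_apply,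
    h4, smul_eq_mul] at h3
  exact Units.ext (by rw [hc, show c = 1 by grind, one_smul]; rfl)

theorem H_iso : IsoJ2 (HH ω) := by
  let P : GL (Fin 3 × Fin 2) F := ⟨f ω PP, f ω PI, by rw [← hmu hω, chk_misc.2.1]; exact toP_one,
    by rw [← hmu hω, chk_misc.2.2.1]; exact toP_one⟩
  have h0 : ∀ d, f ω (rfQ d) = P.1 * blk hω (Rf d) * (P⁻¹).1 := fun d => by
    rw [rfQ, hmu hω, hmu hω, ← toP_rfP hω]; rfl
  refine isoJ2 hω P (fun d hd => all_refl chk_refl (T := fun G => In _ (P.1 * blk hω G * (P⁻¹).1))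
    (fun x y z h => ?_) hd) (fun S hS => gen_le fun j hj => ?_) fun z hz h => ?_
  · by_contra h'
    suffices ∀ n ≤ 315, (all n fun i => !Nat.beq (X (1099 + i)) (rfQ (crd x y z))) = true by simp [this] at h
    intro n hn
    induction n with
    | zero => rfl
    | succ n ih =>
      change Bool.rec (motive := fun _ => Bool) false (all n _) (!Nat.beq _ _) = true
      cases hb : Nat.beq (X (1099 + n)) (rfQ (crd x y z))
      · exact ih (by omega)
      · refine absurd ?_ h'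
        rw [← h0, ← Nat.eq_of_beq_eq_true hb]
        exact ((in_gen hω (by decide +kernel)).slp (hmu hω) chk_I).of_list
          (gs := List.range' 1099 315) (by decide +kernel) _ (by simp; omega)
  · obtain ⟨d, -, hd, e⟩ := chk_misc.2.2.2.2.2 j hj
    exact e ▸ h0 d ▸ hS d hd
  · have hX : ∀ j, z.1 * toM F e6 e6 (Y j) = toM F e6 e6 (Y j) * z.1 := fun j => by
      have h1 := Nat.mod_lt j (show 0 < 157 by decide)
      obtain ⟨g, hg, e⟩ := (in_H hω).of_list (gs := List.range' 19 157) (by decide +kernel) (19 + j % 157)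
        (by simp; omega)
      rw [Y, toM_xor, toM_one, ← toP_of_lt (ω := ω) e6 e6 (Nat.eq_of_beq_eq_true (all_spec chk_cent.2.2 _ h1)),
        mul_add, add_mul, mul_one, one_mul]
      exact congrArg (· + z.1) (by simpa only [Units.val_mul, e] using congrArg Units.val (h g hg).symm)
    obtain ⟨c, hc⟩ := eig_of_rk1' e6 (0, 1) (by decide) chk_cent.1 (hX 0) (hX 24)
    exact scalar_eq hω (H_le hω hz) (scalar_of_span e6 chk_cent.2.1 hX hc hc)

/-- coding of the basis of the Lie algebra -/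
abbrev eG : chevG2.Idx ≃ Fin 14 := enc chevG2

theorem G_iso (hF : ∀ t : F, t = 0 ∨ t = 1 ∨ t = ω ∨ t = ω + 1) : Nonempty (chevG2.group F ≃* LL ω) := by
  let φ := stk (K := F) e6 eG Φ
  have hφ : Function.Injective φ := stk_inj e6 eG chk_inj
  let xl (r : ℕ) (t : F) := 1 + t • toM F e6 e6 (Bit.col 36 Φ (2 + r)) + t ^ 2 • toM F e6 e6 (Bit.col 36 E2 r)
  have h1 : ∀ r : Fin 12, (∀ t, Lift φ (chevG2.xMat F r t) (xl r t)) ∧ f ω (X (1414 + 3 * r)) = xl r 1 ∧
      f ω (X (1414 + (3 * r + 1))) = xl r ω ∧ f ω (X (1414 + (3 * r + 2))) = xl r (ω + 1) := fun r => by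
    have := all_spec chk_root r r.2
    simp only [rootChk, Bool.and_eq_true, Nat.beq_eq] at this
    obtain ⟨⟨⟨⟨h1, h2⟩, h3⟩, h4⟩, h5⟩ := this
    refine ⟨fun t => xMat_eq chevG2 F r h1 t ▸ lift_of_xlChk e6 eG h2 t, ?_, ?_, ?_⟩
    on_goal 1 => rw [h3]
    on_goal 2 => rw [h4]
    on_goal 3 => rw [h5]
    all_goals
      refine (toP_pk e6 e6 _).trans ?_
      ext i j
      simp only [toQ, toM_xor, toM_one, toM_zero, xl, Matrix.add_apply, Matrix.smul_apply, smul_eq_mul,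
        Matrix.zero_apply]
      grind
  have h5 : In (LL ω) (f ω (X 5)) := (in_L hω).of_list (gs := [5]) (by decide +kernel) 5 (by simp)
  have h2 := ((((in_H hω).mono (H_le hω)).or (allIn_mask f0 (gs := [5, 6]) (by
    simpa using ⟨h5, word_in (hmu hω) (allIn_mask f0 (by simpa using ⟨h5, ((in_1 hω).mono (H_le hω)).of_list
      (gs := [18]) (by decide +kernel) 18 (by simp)⟩)) chk_R.1⟩))).slp (hmu hω) chk_R.2.1).of_list
    (gs := List.range' 1414 36) (by decide +kernel)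
  have h3 : ∀ (r : Fin 12) t, In (LL ω) (xl r t) := fun r t => by
    rcases hF t with rfl | rfl | rfl | rfl
    · exact ⟨1, one_mem _, by simp [xl]⟩
    · exact (h1 r).2.1 ▸ h2 _ (by simp; omega)
    · exact (h1 r).2.2.1 ▸ h2 _ (by simp; omega)
    · exact (h1 r).2.2.2 ▸ h2 _ (by simp; omega)
  let Δ := Subgroup.closure {p : GL chevG2.Idx F × GL (Fin 3 × Fin 2) F | ∃ (r : Fin 12) (t : F),
    p.1.1 = chevG2.xMat F r t ∧ p.2.1 = xl r t}
  have hΔ : Δ ≤ liftSub φ := (Subgroup.closure_le _).2 fun p ⟨r, t, e, e'⟩ =>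
    show Lift φ p.1.1 p.2.1 from e ▸ e' ▸ (h1 r).1 t
  have h4 : Δ.map (MonoidHom.fst _ _) = chevG2.group F := by
    rw [MonoidHom.map_closure]
    refine congrArg _ (Set.ext fun g => ⟨?_, fun ⟨r, t, e⟩ => ?_⟩)
    · rintro ⟨p, ⟨r, t, e, -⟩, rfl⟩; exact ⟨r, t, e⟩
    · obtain ⟨M, -, e'⟩ := h3 r t
      exact ⟨(g, M), ⟨r, t, e, e'⟩, rfl⟩
  have h6 : ∀ (r : Fin 12) t, In (Δ.map (MonoidHom.snd _ _)) (xl r t) := fun r t => by
    obtain ⟨M, -, e⟩ := h3 r t
    have : IsUnit (chevG2.xMat F r t) := mulVec_injective_iff_isUnit.1 fun a b hab => hφ <|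
      (e ▸ M.isUnit).mul_left_cancel (by rw [← (h1 r).1 t, ← (h1 r).1 t]; exact congrArg (φ · * _) hab)
    exact ⟨M, ⟨(this.unit, M), Subgroup.subset_closure ⟨r, t, rfl, e⟩, rfl⟩, e⟩
  have h7 : Δ.map (MonoidHom.snd _ _) = LL ω := by
    refine le_antisymm (Subgroup.map_le_iff_le_comap.2 ((Subgroup.closure_le _).2 fun p ⟨r, t, _, e⟩ =>
      In.mem (x := p.2) (e ▸ h3 r t))) (gen_le fun j hj => ?_)
    obtain ⟨i, hi, rfl⟩ : ∃ i < 5, j = i + 1 := by revert j; decide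
    refine word_in (hmu hω) (fun j hj => ?_) (all_spec chk_R.2.2 i hi)
    simp only [Cert.ext, Nat.lor_eq, Nat.zero_or, Nat.shiftLeft_eq', Nat.testBit_shiftLeft, Nat.pow_eq,
      Nat.pred_eq_sub_one, Nat.testBit_two_pow_sub_one, Bool.and_eq_true, decide_eq_true_eq] at hj
    obtain ⟨r, rfl | rfl | rfl⟩ : ∃ r : Fin 12, j = 1414 + 3 * r ∨ j = 1414 + (3 * r + 1) ∨ j = 1414 + (3 * r + 2) :=
      ⟨⟨(j - 1414) / 3, by omega⟩, by simp only; omega⟩
    exacts [(h1 r).2.1 ▸ h6 r _, (h1 r).2.2.1 ▸ h6 r _, (h1 r).2.2.2 ▸ h6 r _]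
  rw [← h4, ← h7]
  refine iso_of_graph Δ (fun p hp e => ?_) fun p hp e => Units.ext (Lift.uniq hφ p.2.isUnit (hΔ hp) ?_)
  · have hl : Lift φ p.1.1 p.2.1 := hΔ hp
    have hX : ∀ j, p.2.1 * toM F e6 e6 (Bit.col 36 Φ (j % 14)) = toM F e6 e6 (Bit.col 36 Φ (j % 14)) * p.2.1 :=
      fun j => by
        have := hl (Pi.single (eG.symm ⟨j % 14, Nat.mod_lt _ (by decide)⟩) 1)
        rw [e, Units.val_one, one_mulVec, stk_single, Equiv.apply_symm_apply] at this
        exact this.symm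
    obtain ⟨c, hc⟩ := eig_of_rk1' e6 (1, 1) (by decide) chk_schur.1 (hX 0) (hX 3)
    exact scalar_eq hω (h7.le ⟨p, hp, rfl⟩) (scalar_of_span e6 chk_schur.2 hX hc hc)
  · rw [e]; exact Lift.one

end Cfsg.Agent.H7.J2
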