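import Cfsg.Agent.H1.PS0

set_option autoImplicit false

/-! The package `NIm` of the bound `4 ^ n` (S0725): numerics for `128 ≤ n ≤ 4096`. -/

namespace Cfsg.Agent.H7.PSn
open Finset Cfsg.Agent.H1.PS

theorem div_le (x y : ℕ) : (x : ℚ) / y ≤ (x / y : ℕ) + 1 := by
  rcases Nat.eq_zero_or_pos y with rfl | hy
  · simp
  · have hy' : (0 : ℚ) < y := by exact_mod_cast hy
    rw [div_le_iff₀ hy']
    have h1 := Nat.div_add_mod x y
    have h2 := Nat.mod_lt x hy
    have : x ≤ (x / y + 1) * y := by nlinarith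
    exact_mod_cast this

theorem choose_le {h n : ℕ} (hn : 2 * h ≤ n) : ∀ i, 2 ^ i * h.choose i ≤ n.choose i
  | 0 => by simp
  | i + 1 => by
    have ih := choose_le hn i
    refine Nat.le_of_mul_le_mul_right ?_ (Nat.succ_pos i)
    rw [mul_assoc, Nat.succ_eq_add_one, Nat.choose_succ_right_eq, Nat.choose_succ_right_eq]
    calc 2 ^ (i + 1) * (h.choose i * (h - i)) = 2 ^ i * h.choose i * (2 * (h - i)) := by ring
      _ ≤ _ := Nat.mul_le_mul ih (by omega)

theorem r_le {n i : ℕ} (hi : i < n) : (((n - 1) / 2 - 1).choose i : ℚ) / n.choose i ≤ 1 / 2 ^ i := by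
  have h1 : (0 : ℚ) < n.choose i := by exact_mod_cast Nat.choose_pos hi.le
  rw [div_le_div_iff₀ h1 (by positivity), one_mul, mul_comm]
  exact_mod_cast choose_le (by omega) i

theorem ff4 (i : ℕ) : 4 ≤ ff i := le_max_left _ _

theorem pi_nonneg (n : ℕ) : ∀ i, i ≤ n → 0 ≤ PI n i
  | 0, _ => by simp [PI]
  | i + 1, h => by
    have ih := pi_nonneg n i (by omega)
    have h1 : (0 : ℚ) < n - i := by
      have : (i : ℚ) < n := by exact_mod_cast h
      linarith
    have h2 : (0 : ℚ) ≤ ff i - 2 := by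
      have : (4 : ℚ) ≤ ff i := by exact_mod_cast ff4 i
      linarith
    rw [PI]
    positivity

theorem pi_succ {n i : ℕ} (hn : 9 ≤ n) (hi : i < n) : PI n (i + 1) ≤ PI n i + 1 / 2 ^ i := by
  have h0 := pi_nonneg n i hi.le
  have hi' : (i : ℚ) < n := by exact_mod_cast hi
  have h1 : (0 : ℚ) < n - i := by linarith
  rw [PI]
  refine add_le_add ?_ ?_
  · rw [mul_div_assoc]
    refine mul_le_of_le_one_right h0 ((div_le_one h1).2 ?_)
    rw [← Nat.cast_sub hi.le]
    exact_mod_cast Nat.sub_le _ _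
  · by_cases h : i ≤ (n - 1) / 2 - 1
    · rw [mul_div_assoc]
      refine le_trans (mul_le_of_le_one_right (by positivity) ((div_le_one h1).2 ?_)) (r_le hi)
      have : ff i + i ≤ n + 2 := by unfold ff; omega
      have : (ff i : ℚ) + i ≤ n + 2 := by exact_mod_cast this
      linarith
    · rw [Nat.choose_eq_zero_of_lt (by omega)]
      simp

theorem pi_tail {n T : ℕ} (hn : 9 ≤ n) : ∀ j, T + j ≤ n → PI n (T + j) ≤ PI n T + 2 / 2 ^ T - 2 / 2 ^ (T + j)
  | 0, _ => by simp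
  | j + 1, h => by
    have ih := pi_tail (T := T) hn j (by omega)
    have h1 := pi_succ (i := T + j) hn (by omega)
    have e : (2 : ℚ) / 2 ^ (T + (j + 1)) = 1 / 2 ^ (T + j) := by
      rw [← add_assoc, pow_succ]; field_simp
    have e' : (2 : ℚ) / 2 ^ (T + j) = 2 * (1 / 2 ^ (T + j)) := by ring
    rw [e, ← add_assoc]
    linarith

theorem pow_le {x : ℚ} (hx : 0 ≤ x) : ∀ m : ℕ, (1 + x) ^ m * (1 - m * x) ≤ 1
  | 0 => by simp
  | m + 1 => by
    have ih := pow_le hx m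
    have h1 : (0 : ℚ) ≤ (1 + x) ^ m := by positivity
    have h2 : (0 : ℚ) ≤ (1 + x) ^ m * ((m + 1) * x ^ 2) := by positivity
    have e : (1 + x) ^ (m + 1) * (1 - (m + 1 : ℕ) * x) = (1 + x) ^ m * (1 - m * x) - (1 + x) ^ m * ((m + 1) * x ^ 2) := by
      push_cast; ring
    rw [e]; linarith

/-- The scale. -/
def S : ℕ := 18446744073709551616

/-- Evaluate `x` first. -/
def frc (x : ℕ) (k : ℕ → Bool) : Bool := match x with
  | 0 => k 0
  | n + 1 => k (n + 1)

theorem frc_eq (x : ℕ) (k : ℕ → Bool) : frc x k = k x := by cases x <;> rfl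

/-- The fixed point recursion for the degrees in `[a, b]`. -/
def go (a b : ℕ) : ℕ → ℕ → ℕ → ℕ → Bool
  | 0, i, p, c => decide (2 * b ^ 3 * (p * 2 ^ i + 2 * S) ≤ S * 2 ^ i) && decide ((b + 2) ^ 2 * 2 * c ≤ S * 3 ^ a)
  | f + 1, i, p, c =>
    frc (p * (b - i - ff i) / (b - i) + S * (ff i - 2) / (2 ^ i * (a - i)) + 2) fun p' =>
    frc (c * ((a - i) * S + b * (b - 1) * p) / ((a - i) * S) + 1) fun c' =>
    frc (i + 1) fun i' => go a b f i' p' c'

theorem Spos : (0 : ℚ) < S := by norm_num [S]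

theorem ratio {u v f : ℕ} (hu : 0 < u) (huv : u ≤ v) : ((u - f : ℕ) : ℚ) / u ≤ ((v - f : ℕ) : ℚ) / v := by
  have h1 : (0 : ℚ) < u := by exact_mod_cast hu
  have h2 : (0 : ℚ) < v := by exact_mod_cast hu.trans_le huv
  rw [div_le_div_iff₀ h1 h2]
  have : (u - f) * v ≤ (v - f) * u := by
    by_cases h : u ≤ f
    · simp [Nat.sub_eq_zero_of_le h]
    · obtain ⟨w, rfl⟩ := Nat.exists_eq_add_of_le (not_le.1 h).le
      obtain ⟨t, rfl⟩ := Nat.exists_eq_add_of_le huv
      rw [Nat.add_sub_cancel_left, add_assoc, Nat.add_sub_cancel_left]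
      nlinarith [Nat.zero_le (t * f)]
  exact_mod_cast this

theorem step_p {a b n i p : ℕ} (ha : a ≤ n) (hb : n ≤ b) (hi : i < a) (hp : PI n i * S ≤ p) :
    PI n (i + 1) * S ≤ (p * (b - i - ff i) / (b - i) + S * (ff i - 2) / (2 ^ i * (a - i)) + 2 : ℕ) := by
  have h1 := div_le (p * (b - i - ff i)) (b - i)
  have h2 := div_le (S * (ff i - 2)) (2 ^ i * (a - i))
  have h3 := ratio (u := n - i) (v := b - i) (f := ff i) (by omega) (by omega)
  have h4 := r_le (n := n) (i := i) (by omega)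
  have h5 := pi_nonneg n i (by omega)
  have hS := Spos
  have hai : (0 : ℚ) < (a - i : ℕ) := by exact_mod_cast (by omega : 0 < a - i)
  have hni : ((a - i : ℕ) : ℚ) ≤ (n - i : ℕ) := by exact_mod_cast (by omega : a - i ≤ n - i)
  have e1 : (n : ℚ) - i = (n - i : ℕ) := by rw [Nat.cast_sub (by omega)]
  have e2 : (ff i : ℚ) - 2 = (ff i - 2 : ℕ) := by rw [Nat.cast_sub (by have := ff4 i; omega)]; rfl
  rw [PI, e1, e2]
  have h6 : PI n i * ((n - i - ff i : ℕ) : ℚ) / (n - i : ℕ) * S ≤ ((p * (b - i - ff i) : ℕ) : ℚ) / (b - i : ℕ) := by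
    rw [Nat.cast_mul, mul_div_assoc, mul_div_assoc, mul_right_comm]
    exact mul_le_mul hp h3 (by positivity) (by positivity)
  have h7 : (((n - 1) / 2 - 1).choose i : ℚ) / n.choose i * (ff i - 2 : ℕ) / (n - i : ℕ) * S ≤
      ((S * (ff i - 2) : ℕ) : ℚ) / (2 ^ i * (a - i) : ℕ) := by
    have : (((n - 1) / 2 - 1).choose i : ℚ) / n.choose i * (ff i - 2 : ℕ) / (n - i : ℕ) ≤
        1 / 2 ^ i * (ff i - 2 : ℕ) / (a - i : ℕ) := by gcongr
    refine (mul_le_mul_of_nonneg_right this hS.le).trans (le_of_eq ?_)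
    rw [Nat.cast_mul, Nat.cast_mul, Nat.cast_pow, Nat.cast_ofNat]
    field_simp
  rw [add_mul, Nat.cast_add, Nat.cast_add, Nat.cast_ofNat]
  linarith

theorem term_pos {n i : ℕ} (hi : i < n) : (0 : ℚ) ≤ n * (n - 1) * PI n i / (n - i) := by
  have h5 := pi_nonneg n i hi.le
  have h1 : (i : ℚ) + 1 ≤ n := by exact_mod_cast hi
  have h2 : (0 : ℚ) ≤ i := by positivity
  have h3 : (0 : ℚ) ≤ n - 1 := by linarith
  have h4 : (0 : ℚ) ≤ n - i := by linarith
  positivity

theorem step_c {a b n i p c : ℕ} (ha : a ≤ n) (hb : n ≤ b) (hi : i < a) (hp : PI n i * S ≤ p)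
    (hc : (∏ j ∈ range i, (1 + n * (n - 1) * PI n j / (n - j))) * S ≤ c) :
    (∏ j ∈ range (i + 1), (1 + n * (n - 1) * PI n j / (n - j))) * S ≤
      (c * ((a - i) * S + b * (b - 1) * p) / ((a - i) * S) + 1 : ℕ) := by
  have h1 := div_le (c * ((a - i) * S + b * (b - 1) * p)) ((a - i) * S)
  have h5 := pi_nonneg n i (by omega)
  have hS := Spos
  have hai : (0 : ℚ) < (a - i : ℕ) := by exact_mod_cast (by omega : 0 < a - i)
  have hni : ((a - i : ℕ) : ℚ) ≤ (n - i : ℕ) := by exact_mod_cast (by omega : a - i ≤ n - i)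
  have e1 : (n : ℚ) - i = (n - i : ℕ) := by rw [Nat.cast_sub (by omega)]
  have e2 : (n : ℚ) - 1 = (n - 1 : ℕ) := by rw [Nat.cast_sub (by omega)]; rfl
  have hnb : (n : ℚ) ≤ b := by exact_mod_cast hb
  have hnb' : ((n - 1 : ℕ) : ℚ) ≤ (b - 1 : ℕ) := by exact_mod_cast (by omega : n - 1 ≤ b - 1)
  have hp' : PI n i ≤ p / S := by rwa [le_div_iff₀ hS]
  have h2 := term_pos (n := n) (i := i) (by omega)
  rw [prod_range_succ, mul_right_comm, Nat.cast_add, Nat.cast_one]
  refine le_trans ?_ h1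
  have h3 : 1 + n * (n - 1) * PI n i / (n - i) ≤ 1 + b * (b - 1 : ℕ) * (p / S) / (a - i : ℕ) := by
    rw [e1, e2]; gcongr
  refine (mul_le_mul hc h3 (by linarith) (by positivity)).trans (le_of_eq ?_)
  simp only [Nat.cast_mul, Nat.cast_add]
  field_simp

theorem fin {a b n i p c : ℕ} (h9 : 9 ≤ a) (ha : a ≤ n) (hb : n ≤ b) (hi : i ≤ a) (hp : PI n i * S ≤ p)
    (hc : (∏ j ∈ range i, (1 + n * (n - 1) * PI n j / (n - j))) * S ≤ c)
    (h1 : 2 * b ^ 3 * (p * 2 ^ i + 2 * S) ≤ S * 2 ^ i) (h2 : (b + 2) ^ 2 * 2 * c ≤ S * 3 ^ a) :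
    ((n : ℚ) + 2) ^ 2 * BI n ≤ 3 ^ n := by
  have hS := Spos
  have hnb : (n : ℚ) ≤ b := by exact_mod_cast hb
  have hp' : PI n i ≤ p / S := by rwa [le_div_iff₀ hS]
  have h1' : (2 : ℚ) * b ^ 3 * (p * 2 ^ i + 2 * S) ≤ S * 2 ^ i := by exact_mod_cast h1
  have h2' : ((b : ℚ) + 2) ^ 2 * 2 * c ≤ S * 3 ^ a := by exact_mod_cast h2
  set x : ℚ := b ^ 2 * (p / S + 2 / 2 ^ i) with hx
  have hx0 : 0 ≤ x := by positivity
  have hbx : b * x ≤ 1 / 2 := by
    have : b * x = 2 * b ^ 3 * (p * 2 ^ i + 2 * S) / (S * 2 ^ i) / 2 := by rw [hx]; field_simp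
    rw [this]
    have := (div_le_one (by positivity : (0 : ℚ) < S * 2 ^ i)).2 h1'
    linarith
  obtain ⟨m, hm⟩ := Nat.exists_eq_add_of_le (hi.trans ha)
  have htail : ∏ j ∈ range m, (1 + n * (n - 1) * PI n (i + j) / (n - (i + j : ℕ))) ≤ 2 := by
    have h3 : ∏ j ∈ range m, (1 + n * (n - 1) * PI n (i + j) / (n - (i + j : ℕ))) ≤ ∏ j ∈ range m, (1 + x) := by
      refine prod_le_prod (fun j hj => ?_) fun j hj => ?_
      · have := term_pos (n := n) (i := i + j) (by have := mem_range.1 hj; omega)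
        linarith
      · have hj' : i + j < n := by have := mem_range.1 hj; omega
        have h4 := pi_tail (T := i) (h9.trans ha) j hj'.le
        have h5 := pi_nonneg n (i + j) hj'.le
        have h6 : (0 : ℚ) ≤ 2 / 2 ^ (i + j) := by positivity
        have h7 : ((i + j : ℕ) : ℚ) + 1 ≤ n := by exact_mod_cast hj'
        have h8 : (0 : ℚ) ≤ (i + j : ℕ) := by positivity
        have h10 : (n : ℚ) * (n - 1) ≤ b ^ 2 := by nlinarith
        have h11 : (0 : ℚ) ≤ n * (n - 1) := mul_nonneg (by linarith) (by linarith)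
        refine add_le_add le_rfl ((div_le_self (mul_nonneg h11 h5) (by linarith)).trans ?_)
        exact mul_le_mul h10 (by linarith) h5 (by positivity)
    rw [prod_const, card_range] at h3
    have h4 := pow_le hx0 m
    have h5 : (m : ℚ) ≤ b := by exact_mod_cast (by omega : m ≤ b)
    have h6 : m * x ≤ 1 / 2 := (mul_le_mul_of_nonneg_right h5 hx0).trans hbx
    have h7 : (0 : ℚ) ≤ (1 + x) ^ m := by positivity
    nlinarith
  have hhead : (0 : ℚ) ≤ ∏ j ∈ range i, (1 + n * (n - 1) * PI n j / (n - j)) := by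
    refine prod_nonneg fun j hj => ?_
    have := term_pos (n := n) (i := j) (by have := mem_range.1 hj; omega)
    linarith
  have hBI : BI n * S ≤ 2 * c := by
    have : BI n = (∏ j ∈ range i, (1 + n * (n - 1) * PI n j / (n - j))) *
        ∏ j ∈ range m, (1 + n * (n - 1) * PI n (i + j) / (n - (i + j : ℕ))) := by
      rw [BI, Bd, ← prod_range_add (fun j => (1 + n * (n - 1) * PI n j / (n - j) : ℚ)), ← hm]
    rw [this]
    have := mul_le_mul_of_nonneg_left htail (mul_nonneg hhead hS.le)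
    nlinarith
  have h3 : (3 : ℚ) ^ a ≤ 3 ^ n := pow_le_pow_right₀ (by norm_num) ha
  have h4 : ((n : ℚ) + 2) ^ 2 ≤ (b + 2) ^ 2 := by gcongr
  refine le_of_mul_le_mul_right ?_ hS
  calc ((n : ℚ) + 2) ^ 2 * BI n * S = ((n : ℚ) + 2) ^ 2 * (BI n * S) := by ring
    _ ≤ ((n : ℚ) + 2) ^ 2 * (2 * c) := by gcongr
    _ ≤ ((b : ℚ) + 2) ^ 2 * (2 * c) := by gcongr
    _ ≤ S * 3 ^ a := by linarith
    _ ≤ _ := by rw [mul_comm]; gcongr

theorem go_sound {a b n : ℕ} (h9 : 9 ≤ a) (ha : a ≤ n) (hb : n ≤ b) : ∀ (f i p c : ℕ), i + f ≤ a → PI n i * S ≤ p →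
    (∏ j ∈ range i, (1 + n * (n - 1) * PI n j / (n - j))) * S ≤ c → go a b f i p c = true →
    ((n : ℚ) + 2) ^ 2 * BI n ≤ 3 ^ n
  | 0, i, p, c, hi, hp, hc, h => by
    simp only [go, Bool.and_eq_true, decide_eq_true_eq] at h
    exact fin h9 ha hb hi hp hc h.1 h.2
  | f + 1, i, p, c, hi, hp, hc, h => by
    rw [go, frc_eq, frc_eq, frc_eq] at h
    exact go_sound h9 ha hb f (i + 1) _ _ (by omega) (step_p ha hb (by omega) hp) (step_c ha hb (by omega) hp hc) h

/-- The chain of blocks. -/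
def chk : List (ℕ × ℕ) → ℕ → Bool
  | [], a => decide (4096 < a)
  | q :: l, a => decide (9 ≤ a) && decide (q.2 ≤ a) && go a q.1 q.2 0 S S && chk l (q.1 + 1)

theorem chk_sound : ∀ (l : List (ℕ × ℕ)) (a : ℕ), chk l a = true → ∀ n, a ≤ n → n ≤ 4096 →
    ((n : ℚ) + 2) ^ 2 * BI n ≤ 3 ^ n
  | [], a, h, n, h1, h2 => by
    simp only [chk, decide_eq_true_eq] at h
    omega
  | q :: l, a, h, n, h1, h2 => by
    simp only [chk, Bool.and_eq_true, decide_eq_true_eq] at h
    by_cases hb : n ≤ q.1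
    · exact go_sound h.1.1.1 h1 hb q.2 0 S S (by omega) (by simp [PI]) (by simp) h.1.2
    · exact chk_sound l _ h.2 n (by omega) h2

theorem nim : NIm :=
  chk_sound [(131, 57), (136, 58), (142, 60), (149, 62), (158, 65), (170, 69), (185, 73), (205, 78), (232, 86),
    (269, 95), (323, 107), (406, 125), (541, 151), (783, 192), (1271, 260), (2441, 386), (4096, 525)] 128
    (by decide +kernel)

end Cfsg.Agent.H7.PSn
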