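import Cfsg.Agent.H7.Contain
import Cfsg.Agent.H7.Proper

/-!
Symplectic groups: transvections, and maximality of subspace stabilisers.
-/

set_option autoImplicit false
set_option linter.unusedSectionVars false

namespace Cfsg.Agent.H7

open Module Cfsg.Agent.Form
open scoped Matrix MatrixGroups

variable {F : Type*} [Field F] {V : Type*} [AddCommGroup V] [Module F V]

/-- The symplectic transvection `x ↦ x + c B(x,v) v`. -/
def tv (S : PQ (FP.symp F) V) (v : V) (c : F) : V ≃ₗ[F] V := S.tau v c (S.symp_tauOK v c)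

/-- The symplectic Eichler map `x ↦ x + (B(x,w) + q B(x,d)) d + B(x,d) w`. -/
def ev (S : PQ (FP.symp F) V) (d w : V) (q : F) (h : S.B w d = 0) : V ≃ₗ[F] V :=
  S.eich d w q ⟨trivial, h, trivial⟩

variable {S : PQ (FP.symp F) V} {M : Subgroup (V ≃ₗ[F] V)}

@[simp] theorem tv_apply (v : V) (c : F) (x : V) : tv S v c x = x + (c * S.B x v) • v := S.tau_apply _ _ _ _

@[simp] theorem ev_apply (d w : V) (q : F) (h : S.B w d = 0) (x : V) :
    ev S d w q h x = x + (S.B x w + q * S.B x d) • d + S.B x d • w := by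
  rw [ev, PQ.eich_apply]; simp

theorem tv_mem (v : V) (c : F) : tv S v c ∈ S.isom := S.tau_mem _ _ _

theorem ev_mem (d w : V) (q : F) (h : S.B w d = 0) : ev S d w q h ∈ S.isom := S.eich_mem _ _ _ _

@[simp] theorem sB_self (x : V) : S.B x x = 0 := S.symp_B_self x

theorem sB_swap (x y : V) : S.B y x = - S.B x y := S.symp_B_swap x y

theorem sB_ne_comm {x y : V} (h : S.B x y ≠ 0) : S.B y x ≠ 0 := fun h' => h (S.B_comm_zero h')

theorem tv_mul (v : V) (c d : F) : tv S v c * tv S v d = tv S v (c + d) := by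
  ext x; simp [LinearEquiv.mul_apply]; module

theorem tv_zero (v : V) : tv S v 0 = 1 := by ext x; simp

theorem tv_inv (v : V) (c : F) : (tv S v c)⁻¹ = tv S v (-c) := by
  rw [inv_eq_iff_mul_eq_one, tv_mul, add_neg_cancel, tv_zero]

theorem tv_smul (v : V) (a c : F) : tv S (a • v) c = tv S v (a ^ 2 * c) := by
  ext x; simp; module

theorem tv_conj (v : V) (c : F) {g : V ≃ₗ[F] V} (hg : g ∈ S.isom) : g * tv S v c * g⁻¹ = tv S (g v) c :=
  S.conj_tau _ _ _ hg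

theorem tv_conj_mem {v : V} {c : F} (h : tv S v c ∈ M) {g : V ≃ₗ[F] V} (hg : g ∈ M) (hg' : g ∈ S.isom) :
    tv S (g v) c ∈ M := by
  rw [← tv_conj v c hg']; exact M.mul_mem (M.mul_mem hg h) (M.inv_mem hg)

theorem ev_conj (d w : V) (q : F) (h : S.B w d = 0) {g : V ≃ₗ[F] V} (hg : g ∈ S.isom) :
    g * ev S d w q h * g⁻¹ = ev S (g d) (g w) q (by rw [PQ.B_isom hg, h]) :=
  S.conj_eich _ _ _ _ hg

theorem ev_conj_mem {d w : V} {q : F} {h : S.B w d = 0} (hm : ev S d w q h ∈ M) {g : V ≃ₗ[F] V}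
    (hg : g ∈ M) (hg' : g ∈ S.isom) : ev S (g d) (g w) q (by rw [PQ.B_isom hg', h]) ∈ M := by
  rw [← ev_conj d w q h hg']; exact M.mul_mem (M.mul_mem hg hm) (M.inv_mem hg)

theorem ev_congr_mem {d w d' w' : V} {q q' : F} {h : S.B w d = 0} (hm : ev S d w q h ∈ M) (h1 : d = d')
    (h2 : w = w') (h3 : q = q') {h' : S.B w' d' = 0} : ev S d' w' q' h' ∈ M := by
  subst h1 h2 h3; exact hm

theorem ev_mul_mem {d w w' : V} {q q' : F} {h : S.B w d = 0} {h' : S.B w' d = 0} (hm : ev S d w q h ∈ M)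
    (hm' : ev S d w' q' h' ∈ M) : ev S d (w + w') (q + q' + S.B w' w) (by simp [h, h']) ∈ M := by
  have := M.mul_mem hm hm'
  rwa [ev, ev, S.eich_mul] at this

theorem ev_inv_mem {d w : V} {q : F} {h : S.B w d = 0} (hm : ev S d w q h ∈ M) :
    ev S d (-w) (-q) (by simp [h]) ∈ M := by
  have := M.inv_mem hm
  rw [ev, S.eich_inv] at this
  exact ev_congr_mem (h := by simp [h]) this rfl rfl (by simp)

theorem ev_smul_self (d : V) (a q : F) : ev S d (a • d) q (by simp) = tv S d (q + 2 * a) := by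
  ext x; simp; module

theorem ev_zero (d : V) (q : F) : ev S d 0 q (by simp) = tv S d q := by
  ext x; simp

theorem ev_swap (d w : V) (h : S.B w d = 0) : ev S d w 0 h = ev S w d 0 (S.B_comm_zero h) := by
  ext x; simp; module

theorem ev_smul (d w : V) (a : F) (h : S.B w d = 0) :
    ev S (a • d) w 0 (by simp [h]) = ev S d (a • w) 0 (by simp [h]) := by
  ext x; simp; module

/-- The commutator of two Eichler maps. -/
theorem ev_comm_mem {d w w' : V} {q q' : F} {h : S.B w d = 0} {h' : S.B w' d = 0} (hm : ev S d w q h ∈ M)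
    (hm' : ev S d w' q' h' ∈ M) : tv S d (2 * S.B w' w) ∈ M := by
  have := ev_mul_mem (ev_mul_mem hm hm') (ev_inv_mem (ev_mul_mem hm' hm))
  rw [← ev_zero]
  refine ev_congr_mem this rfl (by abel) ?_
  simp only [PQ.B_neg_left, PQ.B_add_left, PQ.B_add_right, sB_self, sB_swap w w']
  ring

theorem ctr_iff {v : V} : Ctr S M v ↔ ∀ c, tv S v c ∈ M :=
  ⟨fun h c => h.2 c _, fun h => ⟨trivial, fun c _ => h c⟩⟩

theorem Ctr.add_symp {u v : V} (hu : Ctr S M u) (hv : Ctr S M v) (h : S.B u v ≠ 0) (a : F) :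
    Ctr S M (u + a • v) := hu.add_of_ne hv h trivial

theorem Ctr.add' {u v : V} (hu : Ctr S M u) (hv : Ctr S M v) (h : S.B u v ≠ 0) : Ctr S M (u + v) := by
  simpa using hu.add_symp hv h 1

theorem Ctr.sub' {u v : V} (hu : Ctr S M u) (hv : Ctr S M v) (h : S.B u v ≠ 0) : Ctr S M (u - v) := by
  simpa [sub_eq_add_neg] using hu.add_symp hv h (-1)

/-- One transvection whose centre may be rescaled gives the full root subgroup. -/
theorem ctr_of_scaled [Finite F] {v : V} {c : F} (hc : c ≠ 0) (h : ∀ a : F, tv S (a • v) c ∈ M) :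
    Ctr S M v := by
  rw [ctr_iff]
  intro e
  simp only [tv_smul] at h
  by_cases h2 : (2 : F) = 0
  · obtain ⟨s, hs⟩ : ∃ s : F, s ^ 2 = e / c := by
      have : CharP F 2 := CharTwo.of_one_ne_zero_of_two_eq_zero one_ne_zero h2
      exact (frobeniusEquiv F 2).surjective (e / c)
    have := h s
    rwa [hs, div_mul_cancel₀ _ hc] at this
  · have := M.mul_mem (h ((e / c + 1) / 2)) (M.inv_mem (h ((e / c - 1) / 2)))
    rw [tv_inv, tv_mul] at this
    convert this using 2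
    field_simp; ring

variable [FiniteDimensional F V]

theorem isom_le_of_ctr (hS : S.Nondeg) (h : ∀ v, Ctr S M v) : S.isom ≤ M := by
  rw [← sisom_eq_symp hS]
  exact trP_symp.sisom_le_of_all_ctr hS (Or.inr fun _ => trivial) (fun v _ => h v)

omit [FiniteDimensional F V] in
theorem exists_B_ne_ne {U : Submodule F V} {x y : V} (hx : x ∉ S.perp U) (hy : y ∉ S.perp U) :
    ∃ d ∈ U, S.B x d ≠ 0 ∧ S.B y d ≠ 0 := by
  rw [S.mem_perp'] at hx hy
  push Not at hx hy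
  obtain ⟨d, hd, h1, h2⟩ := exists_apply_ne_ne U (S.lin x).toAddMonoidHom (S.lin y).toAddMonoidHom hx hy
  exact ⟨d, hd, sB_ne_comm h1, sB_ne_comm h2⟩

omit [FiniteDimensional F V] in
theorem notMem_perp_of_nondegOn {U : Submodule F V} (hU : S.NondegOn U) {x : V} (hx : x ∈ U) (h0 : x ≠ 0) :
    x ∉ S.perp U := fun h => h0 (hU x hx h)

omit [FiniteDimensional F V] in
/-- Transvections with centres in a non-degenerate subspace are transitive on its non-zero vectors. -/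
theorem sp_trans {U : Submodule F V} (hU : S.NondegOn U) (hC : ∀ v ∈ U, Ctr S M v) {a a' : V} (ha : a ∈ U)
    (ha' : a' ∈ U) (h0 : a ≠ 0) (h0' : a' ≠ 0) :
    ∃ g ∈ M, g ∈ S.isom ∧ g a = a' ∧ ∀ z ∈ S.perp U, g z = z := by
  have key : ∀ {a a' : V}, a ∈ U → a' ∈ U → S.B a a' ≠ 0 →
      ∃ g ∈ M, g ∈ S.isom ∧ g a = a' ∧ ∀ z ∈ S.perp U, g z = z := by
    intro a a' ha ha' h
    refine ⟨tv S (a' - a) (S.B a a')⁻¹, ctr_iff.1 (hC _ (U.sub_mem ha' ha)) _, tv_mem _ _, ?_, fun z hz => ?_⟩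
    · simp [h]
    · simp [hz a' ha', hz a ha]
  obtain ⟨d, hd, h1, h2⟩ := exists_B_ne_ne (notMem_perp_of_nondegOn hU ha h0) (notMem_perp_of_nondegOn hU ha' h0')
  obtain ⟨g, hg, hg1, hg2, hg3⟩ := key ha hd h1
  obtain ⟨k, hk, hk1, hk2, hk3⟩ := key hd ha' (sB_ne_comm h2)
  exact ⟨k * g, M.mul_mem hk hg, S.isom.mul_mem hk1 hg1, by simp [LinearEquiv.mul_apply, hg2, hk2],
    fun z hz => by simp [LinearEquiv.mul_apply, hg3 z hz, hk3 z hz]⟩

omit [FiniteDimensional F V] in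
theorem le_or_le_of_union {U A B : Submodule F V} (h : ∀ x ∈ U, x ∈ A ∨ x ∈ B) : U ≤ A ∨ U ≤ B := by
  by_contra hc
  rw [not_or] at hc
  obtain ⟨x, hx, h1, h2⟩ := exists_not_not U.toAddSubgroup A.toAddSubgroup B.toAddSubgroup
    (SetLike.not_le_iff_exists.1 hc.1) (SetLike.not_le_iff_exists.1 hc.2)
  exact (h x hx).elim h1 h2

/-- An isometry stabilising `W^⊥` stabilises `W`. -/
theorem stab_of_stab_perp (hS : S.Nondeg) {W : Submodule F V} {g : V ≃ₗ[F] V} (hg : g ∈ S.isom)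
    (h : ∀ x ∈ S.perp W, g x ∈ S.perp W) : ∀ w ∈ W, g w ∈ W := by
  intro w hw
  rw [← hS.perp_perp W]
  intro y hy
  have h1 := (stab_iff_of_le g _ h (g.symm y)).2 (by simpa using hy)
  rw [PQ.B_isom_symm hg]
  exact S.B_comm_zero (h1 w hw)

/-- Maximality of the stabiliser of a totally isotropic subspace. -/
theorem sp_ts_ctr (hS : S.Nondeg) {W : Submodule F V} (hW : ∀ u ∈ W, ∀ v ∈ W, S.B u v = 0) (hM : M ≤ S.isom)
    (hH : ∀ g ∈ S.isom, (∀ w ∈ W, g w ∈ W) → g ∈ M) (hg : ∃ g ∈ M, ¬ ∀ w ∈ W, g w ∈ W) (v : V) :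
    Ctr S M v := by
  have h1 : ∀ v ∈ S.perp W, Ctr S M v := fun v hv => ctr_iff.2 fun c =>
    hH _ (tv_mem _ _) fun w hw => by simpa [S.B_comm_zero (hv w hw)] using hw
  obtain ⟨g, hg, hgW⟩ := hg
  obtain ⟨x, hx, hx'⟩ : ∃ x, Ctr S M x ∧ x ∉ S.perp W := by
    by_contra hc
    push Not at hc
    exact hgW (stab_of_stab_perp hS (hM hg) fun x hx => hc _ ((h1 x hx).map hg (hM hg)))
  by_cases hv : v ∈ S.perp W
  · exact h1 v hv
  obtain ⟨d, hd, a1, a2⟩ := exists_B_ne_ne hx' hv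
  obtain ⟨w, q, hE, -, e⟩ := exists_eich_map S (x := x) (y := (S.B x d / S.B v d) • v) (d := d) trivial
    (by simp [a2]) a1 trivial
  have hm : S.eich d w q hE ∈ M := hH _ (S.eich_mem _ _ _ _) fun z hz => by
    rw [S.eich_apply_of_perp _ _ _ _ (hW z hz d hd)]
    exact W.add_mem hz (W.smul_mem _ hd)
  have := hx.map hm (hM hm)
  rw [e] at this
  exact this.of_smul (div_ne_zero a1 a2)

/-- Maximality of the stabiliser of a small non-degenerate subspace. -/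
theorem sp_nd_ctr (hS : S.Nondeg) {W : Submodule F V} (hW : S.NondegOn W)
    (hd : 2 * finrank F W < finrank F V) (hM : M ≤ S.isom)
    (hH : ∀ g ∈ S.isom, (∀ w ∈ W, g w ∈ W) → g ∈ M) (hg : ∃ g ∈ M, ¬ ∀ w ∈ W, g w ∈ W) (v : V) :
    Ctr S M v := by
  have h1 : ∀ v ∈ S.perp W, Ctr S M v := fun v hv => ctr_iff.2 fun c =>
    hH _ (tv_mem _ _) fun w hw => by simpa [S.B_comm_zero (hv w hw)] using hw
  have h2 : ∀ v ∈ W, Ctr S M v := fun v hv => ctr_iff.2 fun c =>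
    hH _ (tv_mem _ _) fun w hw => by simpa using W.add_mem hw (W.smul_mem _ hv)
  have hc := hW.isCompl
  have dec : ∀ x, ∃ a ∈ W, ∃ b ∈ S.perp W, a + b = x := fun x =>
    Submodule.mem_sup.1 (hc.sup_eq_top ▸ Submodule.mem_top : x ∈ W ⊔ S.perp W)
  obtain ⟨g, hg, hgW⟩ := hg
  obtain ⟨x, hx, hx1, hx2⟩ : ∃ x, Ctr S M x ∧ x ∉ W ∧ x ∉ S.perp W := by
    by_contra hcon
    push Not at hcon
    rcases le_or_le_of_union (U := (S.perp W).map (g : V →ₗ[F] V)) (A := W) (B := S.perp W) (by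
      rintro _ ⟨x, hx, rfl⟩
      by_cases h : g x ∈ W
      · exact Or.inl h
      · exact Or.inr (hcon _ ((h1 x hx).map hg (hM hg)) h)) with h | h
    · have := Submodule.finrank_mono h
      rw [LinearEquiv.finrank_map_eq] at this
      have := hS.finrank_perp W
      omega
    · exact hgW (stab_of_stab_perp hS (hM hg) fun x hx => h ⟨x, hx, rfl⟩)
  obtain ⟨a, ha, b, hb, rfl⟩ := dec x
  obtain ⟨a', ha', b', hb', rfl⟩ := dec v
  by_cases e1 : a' = 0
  · rw [e1, zero_add]; exact h1 _ hb'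
  by_cases e2 : b' = 0
  · rw [e2, add_zero]; exact h2 _ ha'
  obtain ⟨k, hk, hk1, hk2, hk3⟩ := sp_trans hW h2 ha ha' (by rintro rfl; simp [hb] at hx2) e1
  obtain ⟨l, hl, hl1, hl2, hl3⟩ := sp_trans (hW.perp hS) h1 hb hb' (by rintro rfl; simp [ha] at hx1) e2
  have := (hx.map hk hk1).map hl hl1
  rwa [map_add, hk2, hk3 b hb, map_add, hl2, hl3 a' (S.le_perp_perp W ha')] at this

/-- The standard symplectic space. -/
abbrev spS (m : ℕ) (F : Type*) [Field F] : PQ (FP.symp F) (Fin m ⊕ Fin m → F) :=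
  sympPQ (isSymplecticForm_sympForm m F)

theorem spS_nondeg (m : ℕ) : (spS m F).Nondeg := sympPQ_nondeg _

theorem finrank_spS (m : ℕ) : finrank F (Fin m ⊕ Fin m → F) = 2 * m := by simp [two_mul]

theorem sp_max {m : ℕ} (H : Subgroup (GL (Fin m ⊕ Fin m) F))
    (PH : ((Fin m ⊕ Fin m → F) ≃ₗ[F] (Fin m ⊕ Fin m → F)) → Prop)
    (hH : ∀ g ∈ spGL m F, g ∈ H ↔ PH (toLE g)) (hne : ¬ spGL m F ≤ H)
    (hmax : ∀ M : Subgroup ((Fin m ⊕ Fin m → F) ≃ₗ[F] (Fin m ⊕ Fin m → F)), M ≤ (spS m F).isom →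
      (∀ g ∈ (spS m F).isom, PH g → g ∈ M) → (∃ g ∈ M, ¬ PH g) → ∀ v, Ctr (spS m F) M v) :
    Geo.IsMaximalIn (spGL m F) (H ⊓ spGL m F) := by
  refine isMaximalIn_of_equiv toLE _ _ (fun g => g ∈ (spS m F).isom) (fun g => g ∈ (spS m F).isom ∧ PH g)
    (fun g => mem_spGL_iff m g) (fun g => ?_) (fun g h => h.1) (not_le_inf_of_not_le hne) fun M h1 h2 => ?_
  · rw [Subgroup.mem_inf, and_comm]
    exact ⟨fun h => ⟨(mem_spGL_iff m g).1 h.1, (hH g h.1).1 h.2⟩,
      fun h => ⟨(mem_spGL_iff m g).2 h.1, (hH g ((mem_spGL_iff m g).2 h.1)).2 h.2⟩⟩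
  · by_cases h : ∃ g ∈ M, ¬ PH g
    · exact Or.inr fun g hg => isom_le_of_ctr (spS_nondeg m) (hmax M h2 (fun g a b => h1 g ⟨a, b⟩) h) hg
    · push Not at h
      exact Or.inl fun g hg => ⟨h2 g hg, h g hg⟩

theorem mem_subspaceStabilizer_iff' {ι : Type} [Fintype ι] [DecidableEq ι] (W : Submodule F (ι → F))
    (g : GL ι F) : g ∈ Geo.subspaceStabilizer W ↔ ∀ w ∈ W, toLE g w ∈ W := by
  rw [mem_subspaceStabilizer_iff]
  exact ⟨fun h w hw => (h w).1 hw, fun h => stab_iff_of_le _ _ h⟩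

theorem sp_max_ts {m : ℕ} (hm : 2 ≤ m) {W : Submodule F (Fin m ⊕ Fin m → F)} (hW0 : W ≠ ⊥)
    (hW : Geo.IsTotallySingularFor (sympForm m F) W) :
    Geo.IsMaximalIn (spGL m F) (Geo.subspaceStabilizer W ⊓ spGL m F) := by
  refine sp_max _ _ (fun g _ => mem_subspaceStabilizer_iff' W g) (Sp_not_le_subspaceStabilizer hm hW0 ?_)
    fun M h1 h2 h3 => sp_ts_ctr (spS_nondeg m) hW h1 h2 h3
  rintro rfl
  obtain ⟨x, -, hx⟩ := Submodule.exists_mem_ne_zero_of_ne_bot hW0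
  exact hx (spS_nondeg m x fun y => hW x trivial y trivial)

theorem sp_max_nd {m : ℕ} (hm : 2 ≤ m) {W : Submodule F (Fin m ⊕ Fin m → F)} (hW0 : W ≠ ⊥)
    (hW : Geo.IsNondegenerateOn (sympForm m F) W) (hd : finrank F W < m) :
    Geo.IsMaximalIn (spGL m F) (Geo.subspaceStabilizer W ⊓ spGL m F) := by
  refine sp_max _ _ (fun g _ => mem_subspaceStabilizer_iff' W g) (Sp_not_le_subspaceStabilizer hm hW0 ?_)
    fun M h1 h2 h3 => sp_nd_ctr (spS_nondeg m) (((spS m F).nondegOn_iff_geo W).2 hW)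
      (by rw [finrank_spS]; omega) h1 h2 h3
  rintro rfl
  rw [finrank_top, finrank_spS] at hd
  omega

end Cfsg.Agent.H7
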