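import Cfsg.Agent.H7.Sp1

/-!
Symplectic groups: maximality of the imprimitive subgroups.
-/

set_option autoImplicit false
set_option linter.unusedSectionVars false

namespace Cfsg.Agent.H7

open Module Cfsg.Agent.Form
open scoped Matrix MatrixGroups

variable {F : Type*} [Field F] {V : Type*} [AddCommGroup V] [Module F V] [FiniteDimensional F V]
variable {S : PQ (FP.symp F) V} {M : Subgroup (V ≃ₗ[F] V)}

theorem exists_ne_zero_one [Fintype F] (hq : Fintype.card F ≠ 2) : ∃ c : F, c ≠ 0 ∧ c ≠ 1 := by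
  classical
  by_contra hc
  push Not at hc
  have h1 : (Finset.univ : Finset F) ⊆ {0, 1} := fun x _ => by
    by_cases h : x = 0
    · simp [h]
    · simp [hc x h]
  have h2 := (Finset.card_le_card h1).trans Finset.card_le_two
  have := Fintype.one_lt_card (α := F)
  rw [Finset.card_univ] at h2
  omega

theorem exists_isom_of_B (hS : S.Nondeg) (f : V →ₗ[F] V) (h : ∀ x y, S.B (f x) (f y) = S.B x y) :
    ∃ g ∈ S.isom, ∀ x, g x = f x :=
  hS.witt LinearMap.id f (fun _ _ h => h) (PQ.IsIso.injective hS (T := S) ⟨h, fun _ => trivial⟩) h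
    (fun _ => trivial)

theorem exists_hyp_pair {U : Submodule F V} (hU : S.NondegOn U) (h0 : U ≠ ⊥) :
    ∃ u ∈ U, ∃ u' ∈ U, S.B u u' = 1 := by
  obtain ⟨u, hu, hu0⟩ := Submodule.exists_mem_ne_zero_of_ne_bot h0
  obtain ⟨d, hd, h1, -⟩ := exists_B_ne_ne (notMem_perp_of_nondegOn hU hu hu0) (notMem_perp_of_nondegOn hU hu hu0)
  exact ⟨u, hu, (S.B u d)⁻¹ • d, U.smul_mem _ hd, by simp [h1]⟩

theorem exists_map_eq_rel (hS : S.Nondeg) (n : ℕ) : ∀ (X U W : Submodule F V), S.NondegOn X → S.NondegOn U →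
    S.NondegOn W → X ≤ U → X ≤ W → finrank F U = finrank F W → finrank F U ≤ finrank F X + n →
    ∃ g ∈ S.isom, (∀ x ∈ X, g x = x) ∧ U.map (g : V →ₗ[F] V) = W := by
  induction n with
  | zero =>
    intro X U W _ _ _ h1 h2 h3 h4
    obtain rfl : X = U := Submodule.eq_of_le_of_finrank_le h1 (by omega)
    obtain rfl : X = W := Submodule.eq_of_le_of_finrank_le h2 (by omega)
    exact ⟨1, S.isom.one_mem, fun _ _ => rfl, Submodule.map_id _⟩
  | succ n ih =>
    intro X U W hX hU hW h1 h2 h3 h4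
    by_cases h5 : finrank F U ≤ finrank F X + n
    · exact ih X U W hX hU hW h1 h2 h3 h5
    have key : ∀ U : Submodule F V, S.NondegOn U → X ≤ U → finrank F X < finrank F U →
        ∃ u ∈ U ⊓ S.perp X, ∃ u' ∈ U ⊓ S.perp X, S.B u u' = 1 := fun U hU h1 h2 => by
      obtain ⟨a1, a2⟩ := hX.inf_perp hU h1
      refine exists_hyp_pair a1 fun h => ?_
      rw [h, sup_bot_eq] at a2
      rw [a2] at h2; omega
    obtain ⟨u, hu, u', hu', huu⟩ := key U hU h1 (by omega)
    obtain ⟨w, hw, w', hw', hww⟩ := key W hW h2 (by omega)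
    have nm : ∀ {u u' : V}, u ∈ S.perp X → u' ∈ S.perp X → S.B u u' = 1 → u ∉ X ∧ u' ∉ X ⊔ F ∙ u := by
      intro u u' hu hu' h
      refine ⟨fun hm => ?_, fun hm => ?_⟩
      · rw [S.B_comm_zero (hu' u hm)] at h; exact zero_ne_one h
      · obtain ⟨x, hx, a, rfl⟩ := mem_sup_span_iff.1 hm
        simp [hu x hx] at h
    obtain ⟨g, hg, hgu⟩ := hS.witt_step X (nm hu.2 hu'.2 huu).1 (nm hw.2 hw'.2 hww).1
      (fun x hx => by rw [S.B_comm_zero (hu.2 x hx), S.B_comm_zero (hw.2 x hx)]) trivial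
    have hgi := S.gen_le_isom _ hg
    have hgX := S.gen_fix hg
    have hgp : g u' ∈ S.perp X := fun x hx => by rw [← hgX x hx, PQ.B_isom hgi]; exact hu'.2 x hx
    have hgB : S.B w (g u') = 1 := by rw [← hgu, PQ.B_isom hgi, huu]
    obtain ⟨k, hk, hku⟩ := hS.witt_step (X ⊔ F ∙ w) (nm hw.2 hgp hgB).2 (nm hw.2 hw'.2 hww).2
      (fun x hx => by
        obtain ⟨y, hy, a, rfl⟩ := mem_sup_span_iff.1 hx
        simp [hgB, hww, S.B_comm_zero (hgp y hy), S.B_comm_zero (hw'.2 y hy)]) trivial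
    have hki := S.gen_le_isom _ hk
    have hkX := S.gen_fix hk
    have hkg : k * g ∈ S.isom := S.isom.mul_mem hki hgi
    have hkgX : ∀ x ∈ X, (k * g) x = x := fun x hx => by
      rw [LinearEquiv.mul_apply, hgX x hx, hkX x (Submodule.mem_sup_left hx)]
    have hP : S.NondegOn (Submodule.span F {w, w'}) := S.nondegOn_span_pair trivial trivial (by simp [hww])
    have hPX : Submodule.span F {w, w'} ≤ S.perp X := by
      rw [Submodule.span_le]; rintro _ (rfl | rfl); exacts [hw.2, hw'.2]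
    obtain ⟨l, hl, hlX, hlU⟩ := ih (X ⊔ Submodule.span F {w, w'}) (U.map ((k * g : V ≃ₗ[F] V) : V →ₗ[F] V)) W
      (hX.sup hP hPX) ((PQ.nondegOn_map_iff hkg U).2 hU) hW (by
        refine sup_le (fun x hx => ⟨x, h1 hx, hkgX x hx⟩) ?_
        rw [Submodule.span_le]
        rintro _ (rfl | rfl)
        · exact ⟨u, hu.1, by
            change k (g u) = _
            rw [hgu, hkX _ (Submodule.mem_sup_right (Submodule.mem_span_singleton_self _))]⟩
        · exact ⟨u', hu'.1, hku⟩) (by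
        refine sup_le h2 ?_
        rw [Submodule.span_le]
        rintro _ (rfl | rfl); exacts [hw.1, hw'.1]) (by rw [LinearEquiv.finrank_map_eq, h3]) (by
        rw [LinearEquiv.finrank_map_eq]
        have : finrank F X < finrank F (X ⊔ Submodule.span F {w, w'} : Submodule F V) := by
          refine Submodule.finrank_lt_finrank_of_lt (lt_of_le_of_ne le_sup_left fun h => (nm hw.2 hw'.2 hww).1 ?_)
          rw [h]; exact Submodule.mem_sup_right (Submodule.subset_span (by simp))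
        omega)
    refine ⟨l * (k * g), S.isom.mul_mem hl hkg, fun x hx => ?_, ?_⟩
    · rw [LinearEquiv.mul_apply, hkgX x hx, hlX x (Submodule.mem_sup_left hx)]
    · rw [← hlU, ← Submodule.map_comp]; rfl

/-- Non-degenerate subspaces of the same dimension are conjugate. -/
theorem exists_map_eq_symp (hS : S.Nondeg) {U W : Submodule F V} (hU : S.NondegOn U) (hW : S.NondegOn W)
    (h : finrank F U = finrank F W) : ∃ g ∈ S.isom, U.map (g : V →ₗ[F] V) = W := by
  obtain ⟨g, hg, -, e⟩ := exists_map_eq_rel hS (finrank F U) ⊥ U W S.nondegOn_bot hU hW bot_le bot_le h (by omega)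
  exact ⟨g, hg, e⟩

section decomp
variable {T : Type*} [Fintype T] {D : T → Submodule F V} {π : T → V →ₗ[F] V}

theorem Projs.sub_proj_perp (hπ : Projs D π) (ho : ∀ i j, i ≠ j → ∀ x ∈ D i, ∀ y ∈ D j, S.B x y = 0)
    (i : T) (x : V) : x - π i x ∈ S.perp (D i) := by
  intro y hy
  rw [hπ.B_eq_sum S ho]
  refine Finset.sum_eq_zero fun j _ => ?_
  by_cases h : j = i
  · subst h; simp [hπ.proj_proj]
  · rw [hπ.ne j i h y hy]; simp

theorem Projs.B_proj (hπ : Projs D π) (ho : ∀ i j, i ≠ j → ∀ x ∈ D i, ∀ y ∈ D j, S.B x y = 0)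
    {i : T} (x : V) {y : V} (hy : y ∈ D i) : S.B x y = S.B (π i x) y := by
  have := hπ.sub_proj_perp ho i x y hy
  rwa [S.B_sub_left, sub_eq_zero] at this

theorem exists_swap_symp (hS : S.Nondeg) (hπ : Projs D π)
    (ho : ∀ i j, i ≠ j → ∀ x ∈ D i, ∀ y ∈ D j, S.B x y = 0) (hD : ∀ i, S.NondegOn (D i)) {k : ℕ}
    (hk : ∀ i, finrank F (D i) = k) {j l : T} (hjl : j ≠ l) :
    ∃ h ∈ S.isom, (∀ x ∈ D j, h x ∈ D l) ∧ (∀ x ∈ D l, h x ∈ D j) ∧ ∀ i, i ≠ j → i ≠ l → ∀ x ∈ D i, h x = x := by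
  obtain ⟨g, hg, e⟩ := exists_map_eq_symp hS (hD j) (hD l) (by rw [hk, hk])
  have g1 : ∀ x ∈ D j, g x ∈ D l := fun x hx => e ▸ ⟨x, hx, rfl⟩
  have g2 : ∀ x ∈ D l, g.symm x ∈ D j := fun x hx => by
    rw [← e] at hx; obtain ⟨y, hy, rfl⟩ := hx; simpa using hy
  have hg' : g.symm ∈ S.isom := S.isom.inv_mem hg
  obtain ⟨h, hh, eh⟩ := exists_isom_of_B hS
    (LinearMap.id - π j - π l + (g : V →ₗ[F] V) ∘ₗ π j + (g.symm : V →ₗ[F] V) ∘ₗ π l) (by
      intro x y
      have b1 : ∀ x, ∀ y ∈ D j, S.B (x - π j x - π l x) y = 0 := fun x y hy => by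
        rw [hπ.B_proj ho _ hy]; simp [hπ.proj_proj, hπ.proj_proj_ne hjl]
      have b2 : ∀ x, ∀ y ∈ D l, S.B (x - π j x - π l x) y = 0 := fun x y hy => by
        rw [hπ.B_proj ho _ hy]; simp [hπ.proj_proj, hπ.proj_proj_ne hjl.symm]
      have e1 : ∀ x y a a' b b' : V, a ∈ D j → a' ∈ D j → b ∈ D l → b' ∈ D l →
          S.B (x - π j x - π l x + b + a) (y - π j y - π l y + b' + a') =
            S.B (x - π j x - π l x) (y - π j y - π l y) + S.B a a' + S.B b b' := by
        intro x y a a' b b' ha ha' hb hb'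
        simp only [PQ.B_add_left, PQ.B_add_right, b1 x a' ha', b2 x b' hb', S.B_comm_zero (b1 y a ha),
          S.B_comm_zero (b2 y b hb), ho j l hjl a ha b' hb', ho l j hjl.symm b hb a' ha']
        ring
      have e2 := e1 x y _ _ _ _ (hπ.mem j x) (hπ.mem j y) (hπ.mem l x) (hπ.mem l y)
      simp only [sub_add_cancel] at e2
      have e3 := e1 x y _ _ _ _ (g2 _ (hπ.mem l x)) (g2 _ (hπ.mem l y)) (g1 _ (hπ.mem j x)) (g1 _ (hπ.mem j y))
      simp only [LinearMap.add_apply, LinearMap.sub_apply, LinearMap.id_apply, LinearMap.comp_apply,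
        LinearEquiv.coe_coe]
      rw [e3, e2, PQ.B_isom hg, PQ.B_isom hg']; ring)
  refine ⟨h, hh, fun x hx => ?_, fun x hx => ?_, fun i h1 h2 x hx => ?_⟩
  · simpa [eh, hπ.self j x hx, hπ.ne l j hjl.symm x hx] using g1 x hx
  · simpa [eh, hπ.self l x hx, hπ.ne j l hjl x hx] using g2 x hx
  · simp [eh, hπ.ne j i h1.symm x hx, hπ.ne l i h2.symm x hx]

omit [FiniteDimensional F V] in
theorem Projs.exists_two_supp (hπ : Projs D π) [Nonempty T] {U : Submodule F V} (hU : ∀ j, ¬ U ≤ D j) :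
    ∃ x ∈ U, ∃ i j, i ≠ j ∧ π i x ≠ 0 ∧ π j x ≠ 0 := by
  by_contra hc
  push Not at hc
  obtain ⟨i0⟩ := ‹Nonempty T›
  obtain ⟨a, ha, ha'⟩ := SetLike.not_le_iff_exists.1 (hU i0)
  obtain ⟨i, hi⟩ : ∃ i, π i a ≠ 0 := by
    by_contra h; push Not at h; rw [hπ.eq_zero h] at ha'; exact ha' (zero_mem _)
  obtain ⟨b, hb, hb'⟩ := SetLike.not_le_iff_exists.1 (hU i)
  obtain ⟨j, hji, hj⟩ : ∃ j, j ≠ i ∧ π j b ≠ 0 := by
    by_contra h; push Not at h; exact hb' (hπ.mem_of h)
  have h1 := hc a ha i j hji.symm hi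
  have h2 := hc b hb j i hji hj
  have := hc (a + b) (U.add_mem ha hb) i j hji.symm (by simpa [h2] using hi)
  exact hj (by simpa [h1] using this)

/-- Maximality of the stabiliser of an orthogonal decomposition. -/
theorem sp_decomp_ctr [Fintype F] (hS : S.Nondeg) (hπ : Projs D π)
    (ho : ∀ i j, i ≠ j → ∀ x ∈ D i, ∀ y ∈ D j, S.B x y = 0) (hD : ∀ i, S.NondegOn (D i)) {k : ℕ}
    (hk : ∀ i, finrank F (D i) = k) (hex : ¬ (k = 2 ∧ Fintype.card F = 2)) (hM : M ≤ S.isom)
    (hH : ∀ g ∈ S.isom, (∀ i, ∃ j, ∀ x ∈ D i, g x ∈ D j) → g ∈ M)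
    (hg : ∃ g ∈ M, ¬ ∀ i, ∃ j, ∀ x ∈ D i, g x ∈ D j) (v : V) : Ctr S M v := by
  classical
  have h1 : ∀ i, ∀ v ∈ D i, Ctr S M v := fun i v hv => ctr_iff.2 fun c =>
    hH _ (tv_mem _ _) fun j => ⟨j, fun x hx => by
      by_cases h : j = i
      · subst h; simpa using (D j).add_mem hx ((D j).smul_mem _ hv)
      · simpa [ho j i h x hx v hv] using hx⟩
  have h2 : ∀ i x, Ctr S M x → π i x ≠ 0 → ∀ a ∈ D i, a ≠ 0 → Ctr S M (x - π i x + a) := by
    intro i x hx hi a ha ha0
    obtain ⟨g, hg, hg1, hg2, hg3⟩ := sp_trans (hD i) (h1 i) (hπ.mem i x) ha hi ha0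
    have := hx.map hg hg1
    rwa [← sub_add_cancel x (π i x), map_add, hg2, hg3 _ (hπ.sub_proj_perp ho i x)] at this
  let R : T → T → Prop := fun i j => ∀ a ∈ D i, ∀ b ∈ D j, Ctr S M (a + b)
  have hR : ∀ i j, i ≠ j → ∀ a ∈ D i, ∀ b ∈ D j, a ≠ 0 → b ≠ 0 → Ctr S M (a + b) → R i j := by
    intro i j hij a ha b hb ha0 hb0 h a' ha' b' hb'
    by_cases e1 : a' = 0
    · rw [e1, zero_add]; exact h1 j _ hb'
    by_cases e2 : b' = 0
    · rw [e2, add_zero]; exact h1 i _ ha'
    have p1 : π i (a + b) = a := by simp [hπ.self i a ha, hπ.ne i j hij b hb]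
    have := h2 i _ h (by rwa [p1]) a' ha' e1
    rw [p1, add_sub_cancel_left] at this
    have p2 : π j (b + a') = b := by simp [hπ.self j b hb, hπ.ne j i hij.symm a' ha']
    have := h2 j _ this (by rwa [p2]) b' hb' e2
    rwa [p2, add_sub_cancel_left] at this
  obtain ⟨g, hg, hg'⟩ := hg
  push Not at hg'
  obtain ⟨i0, hi0⟩ := hg'
  have : Nonempty T := ⟨i0⟩
  obtain ⟨_, ⟨x0, hx0, rfl⟩, i, j, hij, hi, hj⟩ := hπ.exists_two_supp (U := (D i0).map (g : V →ₗ[F] V)) fun j h => by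
    obtain ⟨x, hx, hx'⟩ := hi0 j
    exact hx' (h ⟨x, hx, rfl⟩)
  have hx : Ctr S M ((g : V →ₗ[F] V) x0) := (h1 i0 x0 hx0).map hg (hM hg)
  generalize (g : V →ₗ[F] V) x0 = x at hi hj hx
  have hRij : R i j := by
    obtain ⟨b, hb, hb0, hb1, hb2⟩ : ∃ b ∈ D j, b ≠ 0 ∧ b ≠ π j x ∧ S.B (π j x) b = 0 := by
      by_cases hq : Fintype.card F = 2
      · obtain ⟨d, hd, hd1, -⟩ := exists_B_ne_ne (notMem_perp_of_nondegOn (hD j) (hπ.mem j x) hj)
          (notMem_perp_of_nondegOn (hD j) (hπ.mem j x) hj)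
        have a1 : 2 ≤ finrank F (D j) := by
          rw [← S.finrank_span_pair_of_hyperbolic trivial hd1]
          apply Submodule.finrank_mono
          rw [Submodule.span_le]; rintro _ (rfl | rfl); exacts [hπ.mem j x, hd]
        have a2 := finrank_le_finrank_inf_ker (D j) (S.lin (π j x))
        have a3 := finrank_span_singleton_le (F := F) (π j x)
        obtain ⟨b, hb, hb'⟩ := exists_mem_notMem_of_finrank_lt (U := D j ⊓ LinearMap.ker (S.lin (π j x)))
          (W := F ∙ π j x) (by have := hk j; omega)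
        refine ⟨b, hb.1, ?_, ?_, S.B_comm_zero hb.2⟩
        · rintro rfl; exact hb' (zero_mem _)
        · rintro rfl; exact hb' (Submodule.mem_span_singleton_self _)
      · obtain ⟨c, hc0, hc1⟩ := exists_ne_zero_one (F := F) hq
        refine ⟨c • π j x, (D j).smul_mem _ (hπ.mem j x), smul_ne_zero hc0 hj, fun h => hc1 ?_, by simp⟩
        have : (c - 1) • π j x = 0 := by rw [sub_smul, h, one_smul, sub_self]
        exact sub_eq_zero.1 ((smul_eq_zero.1 this).resolve_right hj)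
    obtain ⟨a, ha, ha1, -⟩ := exists_B_ne_ne (notMem_perp_of_nondegOn (hD i) (hπ.mem i x) hi)
      (notMem_perp_of_nondegOn (hD i) (hπ.mem i x) hi)
    have ha0 : a ≠ 0 := by rintro rfl; simp at ha1
    have y1 := h2 i x hx hi a ha ha0
    have p1 : π j (x - π i x + a) = π j x := by simp [hπ.proj_proj_ne hij.symm, hπ.ne j i hij.symm a ha]
    have y2 := h2 j _ y1 (by rwa [p1]) b hb hb0
    rw [p1] at y2
    have := hx.sub' y2 (by
      have q1 := hπ.B_proj ho x (hπ.mem i x)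
      have q2 := hπ.B_proj ho x (hπ.mem j x)
      have q3 := hπ.B_proj ho x ha
      have q4 := hπ.B_proj ho x hb
      simp only [sB_self] at q1 q2
      simpa [q1, q2, q3, q4, hb2] using ha1)
    refine hR i j hij (π i x - a) ((D i).sub_mem (hπ.mem i x) ha) (π j x - b) ((D j).sub_mem (hπ.mem j x) hb)
      (fun h => ha1 (by rw [sub_eq_zero.1 h]; simp)) (sub_ne_zero.2 hb1.symm) ?_
    convert this using 1; abel
  have hsymm : ∀ i j, R i j → R j i := fun i j h a ha b hb => by rw [add_comm]; exact h b hb a ha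
  have hstep : ∀ i j l, i ≠ j → l ≠ i → R i j → R i l := by
    intro i j l hij hl h
    by_cases hjl : l = j
    · rwa [hjl]
    obtain ⟨s, hs, s1, s2, s3⟩ := exists_swap_symp hS hπ ho hD hk (Ne.symm hjl)
    have hsM : s ∈ M := hH s hs fun p => by
      by_cases e1 : p = j
      · exact ⟨l, e1 ▸ s1⟩
      by_cases e2 : p = l
      · exact ⟨j, e2 ▸ s2⟩
      exact ⟨p, fun x hx => by rwa [s3 p e1 e2 x hx]⟩
    intro a ha b hb
    have := (h a ha (s b) (s2 b hb)).map (M.inv_mem hsM) (hM (M.inv_mem hsM))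
    have e : s⁻¹ (a + s b) = a + b := by
      rw [map_add]; congr 1
      · conv_lhs => rw [← s3 i hij hl.symm a ha]
        exact s.symm_apply_apply a
      · exact s.symm_apply_apply b
    rwa [e] at this
  have hall : ∀ p q, p ≠ q → R p q := by
    intro p q hpq
    by_cases e : q = i
    · subst e; exact hsymm _ _ (hstep _ _ _ hij hpq hRij)
    · exact hsymm _ _ (hstep _ _ _ e hpq (hsymm _ _ (hstep _ _ _ hij e hRij)))
  suffices H : ∀ s : Finset T, ∀ x, (∀ i ∉ s, π i x = 0) → Ctr S M x from H Finset.univ v (by simp)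
  intro s
  induction s using Finset.induction_on with
  | empty => intro x hx; rw [hπ.eq_zero (fun i => hx i (by simp))]; exact ctr_zero
  | insert j s hjs ih =>
    intro x hx
    by_cases hc : ∀ i, i ≠ j → π i x = 0
    · exact h1 j x (hπ.mem_of hc)
    push Not at hc
    obtain ⟨i, hij, hi⟩ := hc
    have his : i ∈ s := by
      by_contra h; exact hi (hx i (by simp [hij, h]))
    obtain ⟨y, hy, hy1, -⟩ := exists_B_ne_ne (notMem_perp_of_nondegOn (hD i) (hπ.mem i x) hi)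
      (notMem_perp_of_nondegOn (hD i) (hπ.mem i x) hi)
    have y1 := ih (x - π j x - π i x + y) fun l hl => by
      have hli : l ≠ i := by rintro rfl; exact hl his
      by_cases e : l = j
      · subst e; simp [hπ.proj_proj, hπ.proj_proj_ne hli, hπ.ne l i hli y hy]
      · simp [hx l (by simp [e, hl]), hπ.proj_proj_ne hli, hπ.proj_proj_ne e, hπ.ne l i hli y hy]
    have y2 := hall i j hij (π i x - y) ((D i).sub_mem (hπ.mem i x) hy) (π j x) (hπ.mem j x)
    have := y1.add' y2 (by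
      rw [S.B_add_right, hπ.B_proj ho _ (hπ.mem j x), hπ.B_proj ho _ ((D i).sub_mem (hπ.mem i x) hy)]
      simpa [hπ.proj_proj, hπ.proj_proj_ne hij, hπ.proj_proj_ne hij.symm, hπ.self i y hy,
        hπ.ne j i hij.symm y hy] using sB_ne_comm hy1)
    convert this using 1; abel

end decomp

theorem mem_decompositionStabilizer_iff' {ι : Type} [Fintype ι] [DecidableEq ι] {t m : ℕ}
    {D : Fin t → Submodule F (ι → F)} (hD : Geo.IsMDecomposition m D) (g : GL ι F) :
    g ∈ Geo.decompositionStabilizer D ↔ ∀ i, ∃ j, ∀ x ∈ D i, toLE g x ∈ D j := by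
  refine ⟨fun h i => ?_, mem_decompositionStabilizer_of hD⟩
  obtain ⟨σ, hσ⟩ := (mem_decompositionStabilizer_iff D g).1 h
  exact ⟨σ i, fun x hx => mem_of_map_eq (hσ i) hx⟩

theorem sp_max_decomp [Fintype F] {m : ℕ} (hm : 2 ≤ m) {t k : ℕ} {D : Fin t → Submodule F (Fin m ⊕ Fin m → F)}
    (hD : Geo.IsNondegenerateMDecomposition (sympForm m F) k D) (hex : ¬ (k = 2 ∧ Fintype.card F = 2)) :
    Geo.IsMaximalIn (spGL m F) (Geo.decompositionStabilizer D ⊓ spGL m F) := by
  obtain ⟨π, hπ⟩ := exists_projs hD.decomp.indep hD.decomp.iSup_eq_top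
  exact sp_max _ _ (fun g _ => mem_decompositionStabilizer_iff' hD.decomp g)
    (Sp_not_le_decompositionStabilizer hm hD.decomp)
    fun M h1 h2 h3 => sp_decomp_ctr (spS_nondeg m) hπ hD.orthogonal
      (fun i => ((spS m F).nondegOn_iff_geo _).2 (hD.nondegenerate i)) hD.decomp.finrank_eq hex h1 h2 h3

end Cfsg.Agent.H7
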