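import Cfsg.Agent.H7.Sp2

/-!
Symplectic groups: maximality of GL_m.2 and of the orthogonal groups in characteristic two.
-/

set_option autoImplicit false
set_option linter.unusedSectionVars false

namespace Cfsg.Agent.H7

open Module Cfsg.Agent.Form
open scoped Matrix MatrixGroups

variable {F : Type*} [Field F] {V : Type*} [AddCommGroup V] [Module F V] [FiniteDimensional F V]
variable {S : PQ (FP.symp F) V} {M : Subgroup (V ≃ₗ[F] V)}

theorem exists_perp_two {U : Submodule F V} (h : 3 ≤ finrank F U) (x y : V) :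
    ∃ u ∈ U, u ≠ 0 ∧ S.B u x = 0 ∧ S.B u y = 0 := by
  have h1 := finrank_le_finrank_inf_ker U (S.lin x)
  have h2 := finrank_le_finrank_inf_ker (U ⊓ LinearMap.ker (S.lin x)) (S.lin y)
  obtain ⟨u, hu, hu0⟩ := exists_ne_zero_of_finrank_pos
    (A := (U ⊓ LinearMap.ker (S.lin x)) ⊓ LinearMap.ker (S.lin y)) (by omega)
  exact ⟨u, hu.1.1, hu0, hu.1.2, hu.2⟩

/-- A pair of complementary totally isotropic subspaces. -/
structure TPair (S : PQ (FP.symp F) V) (A B : Submodule F V) : Prop where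
  tiA : ∀ x ∈ A, ∀ y ∈ A, S.B x y = 0
  tiB : ∀ x ∈ B, ∀ y ∈ B, S.B x y = 0
  dec : ∀ x, ∃ a ∈ A, ∃ b ∈ B, x = a + b
  dim : finrank F A = finrank F B
  three : 3 ≤ finrank F A

variable {A B A' B' : Submodule F V}

theorem TPair.symm (h : TPair S A B) : TPair S B A :=
  ⟨h.tiB, h.tiA, fun x => by
    obtain ⟨a, ha, b, hb, e⟩ := h.dec x
    exact ⟨b, hb, a, ha, by rw [e, add_comm]⟩, h.dim.symm, h.dim ▸ h.three⟩

theorem TPair.eq_zero (hS : S.Nondeg) (h : TPair S A B) {b : V} (hb : b ∈ B) (hb' : b ∈ S.perp A) : b = 0 :=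
  hS b fun y => by
    obtain ⟨a, ha, b', hb'', rfl⟩ := h.dec y
    simp [hb' a ha, h.tiB b hb b' hb'']

theorem TPair.mem_of_perp (hS : S.Nondeg) (h : TPair S A B) {x : V} (hx : x ∈ S.perp A) : x ∈ A := by
  obtain ⟨a, ha, b, hb, rfl⟩ := h.dec x
  have : b = 0 := h.eq_zero hS hb fun y hy => by simpa [h.tiA a ha y hy] using hx y hy
  simpa [this] using ha

theorem TPair.exists_dual (hS : S.Nondeg) (h : TPair S A B) (φ : Dual F V) :
    ∃ a ∈ A, ∀ b ∈ B, S.B b a = φ b := by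
  obtain ⟨v, rfl⟩ := hS.exists_lin φ
  obtain ⟨a, ha, b', hb', rfl⟩ := h.dec v
  exact ⟨a, ha, fun b hb => by simp [h.tiB b hb b' hb']⟩

theorem TPair.exists_swap (hS : S.Nondeg) (h : TPair S A B) :
    ∃ g ∈ S.isom, (∀ x ∈ A, g x ∈ B) ∧ ∀ x ∈ B, g x ∈ A := by
  classical
  let e := Module.finBasis F A
  obtain ⟨B₀, hB₀⟩ := A.exists_isCompl
  choose b hb hb' using fun i => h.symm.exists_dual hS (e.coord i ∘ₗ A.projectionOnto B₀ hB₀)
  let φ : A →ₗ[F] V := e.constr F b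
  have hφB : ∀ a, φ a ∈ B := fun a => by
    simp only [φ, Basis.constr_apply_fintype]
    exact B.sum_mem fun i _ => B.smul_mem _ (hb i)
  have hφ : ∀ a a' : A, S.B a (φ a') = ∑ i, e.repr a' i * e.repr a i := fun a a' => by
    simp only [φ, Basis.constr_apply_fintype, S.B_sum_right]
    refine Finset.sum_congr rfl fun i _ => ?_
    simp [hb' i a a.2]
  have hsym : ∀ a a' : A, S.B a (φ a') = S.B a' (φ a) := fun a a' => by
    rw [hφ, hφ]; exact Finset.sum_congr rfl fun i _ => mul_comm _ _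
  have hinj : ∀ a, φ a = 0 → a = 0 := fun a ha => by
    refine e.ext_elem fun i => ?_
    have := hφ (e i) a
    rw [ha] at this
    simpa [Finsupp.single_apply] using this.symm
  have hzero : ∀ (a a' : A), (a : V) = φ a' → a = 0 ∧ a' = 0 := fun a a' e => by
    have : φ a' = 0 := h.eq_zero hS (hφB a') (e ▸ fun y hy => h.tiA _ a.2 y hy)
    exact ⟨Subtype.ext (e.trans this), hinj _ this⟩
  obtain ⟨g, hg, eg⟩ := hS.witt (A.subtype ∘ₗ LinearMap.fst F A A + φ ∘ₗ LinearMap.snd F A A)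
    (φ ∘ₗ LinearMap.fst F A A - A.subtype ∘ₗ LinearMap.snd F A A) (by
      rw [injective_iff_map_eq_zero]
      intro x hx
      obtain ⟨h1, h2⟩ := hzero x.1 (-x.2) (by rw [map_neg, eq_neg_iff_add_eq_zero]; exact hx)
      exact Prod.ext h1 (neg_eq_zero.1 h2)) (by
      rw [injective_iff_map_eq_zero]
      intro x hx
      obtain ⟨h1, h2⟩ := hzero x.2 x.1 (sub_eq_zero.1 hx).symm
      exact Prod.ext h2 h1) (by
      intro x y
      simp only [LinearMap.sub_apply, LinearMap.add_apply, LinearMap.comp_apply, LinearMap.fst_apply,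
        LinearMap.snd_apply, Submodule.subtype_apply, PQ.B_add_left, PQ.B_add_right, PQ.B_sub_left,
        PQ.B_sub_right, h.tiA _ x.1.2 _ y.1.2, h.tiA _ x.2.2 _ y.2.2, h.tiB _ (hφB _) _ (hφB _),
        sB_swap (y.2 : V) (φ x.1), sB_swap (y.1 : V) (φ x.2), hsym x.1 y.2, hsym y.1 x.2]
      ring) (fun _ => trivial)
  refine ⟨g, hg, fun x hx => ?_, fun x hx => ?_⟩
  · have := eg (⟨x, hx⟩, 0)
    simp at this
    rw [this]; exact hφB _
  · have h1 : LinearMap.range φ = B := by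
      refine Submodule.eq_of_le_of_finrank_eq (by rintro _ ⟨a, rfl⟩; exact hφB a) ?_
      rw [LinearMap.finrank_range_of_inj ((injective_iff_map_eq_zero φ).2 hinj), h.dim]
    rw [← h1] at hx
    obtain ⟨a, rfl⟩ := hx
    have := eg (0, a)
    simp at this
    rw [this]; exact A.neg_mem a.2

/-- `M` contains the root elements of `SL(A)`. -/
def HasE (S : PQ (FP.symp F) V) (M : Subgroup (V ≃ₗ[F] V)) (A B : Submodule F V) : Prop :=
  ∀ a ∈ A, ∀ b ∈ B, ∀ h : S.B a b = 0, ev S b a 0 h ∈ M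

theorem HasE.symm (h : HasE S M A B) : HasE S M B A := fun b hb a ha hba => by
  rw [ev_swap]; exact h a ha b hb _

theorem tpair_key (hS : S.Nondeg) (h2 : (2 : F) ≠ 0) (hM : M ≤ S.isom) (hE : HasE S M A B)
    (h' : TPair S A' B') (hE' : HasE S M A' B') {g : V ≃ₗ[F] V} (hg : g ∈ M) {b : V} (hb : b ∈ B)
    (hgb : g b ∈ B') (hC : ¬ Ctr S M (g b)) {a : V} (ha : a ∈ A) (hab : S.B a b = 0) : g a ∈ A' := by
  obtain ⟨a', ha', b'', hb'', e⟩ := h'.dec (g a)
  have h1 : ∀ c : F, ev S (g b) (c • (a' + b'')) 0 (by simp [← e, PQ.B_isom (hM hg), hab]) ∈ M := fun c =>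
    ev_congr_mem (ev_conj_mem (hE (c • a) (A.smul_mem c ha) b hb (by simp [hab])) hg (hM hg)) rfl
      (by rw [map_smul, e]) rfl
  have h3 : S.B a' (g b) = 0 := by
    have := PQ.B_isom (hM hg) a b
    simpa [e, hab, h'.tiB _ hb'' _ hgb] using this
  by_contra hna
  apply hC
  rw [ctr_iff]
  intro c
  by_cases hm : b'' ∈ F ∙ g b
  · obtain ⟨l, rfl⟩ := Submodule.mem_span_singleton.1 hm
    have hl : l ≠ 0 := by rintro rfl; apply hna; simpa [e] using ha'
    have := ev_mul_mem (h1 (c / (2 * l))) (hE' (-((c / (2 * l)) • a')) (A'.neg_mem (A'.smul_mem _ ha')) _ hgb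
      (by simp [h3]))
    have h4 : tv S (g b) c = ev S (g b) ((c / 2) • g b) 0 (by simp) := by
      rw [ev_smul_self]; congr 1; field_simp; ring
    rw [h4]
    refine ev_congr_mem this rfl ?_ (by simp [h3])
    match_scalars
    · ring
    · field_simp
  · obtain ⟨φ, φ1, φ2⟩ := exists_dual_one hm
    obtain ⟨a0, ha0, ha0'⟩ := h'.exists_dual hS φ
    have := ev_comm_mem (hE' ((c / 2) • a0) (A'.smul_mem _ ha0) _ hgb (by
      simp [S.B_comm_zero ((ha0' _ hgb).trans (φ2 _ (Submodule.mem_span_singleton_self _)))])) (h1 1)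
    convert this using 2
    simp [h'.tiA _ ha' _ ha0, ha0' _ hb'', φ1]; field_simp

theorem tpair_key2 (hS : S.Nondeg) (h2 : (2 : F) ≠ 0) (hM : M ≤ S.isom) (h : TPair S A B) (hE : HasE S M A B)
    (h' : TPair S A' B') (hE' : HasE S M A' B') (hA : ∀ x ∈ A', x ≠ 0 → ¬ Ctr S M x)
    (hB : ∀ x ∈ B', x ≠ 0 → ¬ Ctr S M x) {g : V ≃ₗ[F] V} (hg : g ∈ M) {b : V} (hb : b ∈ B) (hb0 : b ≠ 0)
    (hgb : g b ∈ B') : (∀ x ∈ A, g x ∈ A') ∧ ∀ x ∈ B, g x ∈ B' := by
  have h1 : ∀ x ∈ B, g x ∈ B' := fun x hx => by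
    obtain ⟨a, ha, ha0, e1, e2⟩ := exists_perp_two (S := S) h.three b x
    have := tpair_key hS h2 hM hE h' hE' hg hb hgb (hB _ hgb (by simpa using hb0)) ha e1
    exact tpair_key hS h2 hM hE.symm h'.symm hE'.symm hg ha this (hA _ this (by simpa using ha0)) hx
      (S.B_comm_zero e2)
  refine ⟨fun x hx => ?_, h1⟩
  obtain ⟨b', hb', hb0', e1, -⟩ := exists_perp_two (S := S) h.symm.three x x
  exact tpair_key hS h2 hM hE h' hE' hg hb' (h1 _ hb') (hB _ (h1 _ hb') (by simpa using hb0')) hx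
    (S.B_comm_zero e1)

theorem tpair_ctr_all (hS : S.Nondeg) (hM : M ≤ S.isom) (h : TPair S A B) (hE : HasE S M A B) {b : V}
    (hb : b ∈ B) (hb0 : b ≠ 0) (hC : Ctr S M b) : ∀ x ∈ B, Ctr S M x := by
  intro x hx
  by_cases hm : b ∈ F ∙ (x - b)
  · obtain ⟨c, hc⟩ := Submodule.mem_span_singleton.1 hm
    have hc0 : c ≠ 0 := by rintro rfl; simp at hc; exact hb0 hc.symm
    have : c • x = (1 + c) • b := by rw [add_smul, one_smul]; nth_rewrite 1 [← hc]; module
    exact Ctr.of_smul (this ▸ hC.smul _) hc0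
  obtain ⟨φ, φ1, φ2⟩ := exists_dual_one hm
  obtain ⟨a, ha, ha'⟩ := h.exists_dual hS φ
  have hm := hE a ha _ (B.sub_mem hx hb)
    (S.B_comm_zero ((ha' _ (B.sub_mem hx hb)).trans (φ2 _ (Submodule.mem_span_singleton_self _))))
  have := hC.map hm (hM hm)
  simpa [ha' b hb, φ1, h.tiB _ hb _ hx] using this

theorem sp_pair_ctr (hS : S.Nondeg) (h2 : (2 : F) ≠ 0) (h : TPair S A B) (hM : M ≤ S.isom)
    (hH : ∀ g ∈ S.isom, ((∀ x ∈ A, g x ∈ A) ∧ (∀ x ∈ B, g x ∈ B)) ∨ ((∀ x ∈ A, g x ∈ B) ∧ (∀ x ∈ B, g x ∈ A)) →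
      g ∈ M)
    (hg : ∃ g ∈ M, ¬ (((∀ x ∈ A, g x ∈ A) ∧ (∀ x ∈ B, g x ∈ B)) ∨ ((∀ x ∈ A, g x ∈ B) ∧ (∀ x ∈ B, g x ∈ A))))
    (v : V) : Ctr S M v := by
  have hE : HasE S M A B := fun a ha b hb hab => hH _ (ev_mem _ _ _ _) (Or.inl
    ⟨fun x hx => by simpa [h.tiA x hx a ha] using A.add_mem hx (A.smul_mem _ ha),
     fun x hx => by simpa [h.tiB x hx b hb] using B.add_mem hx (B.smul_mem _ hb)⟩)
  obtain ⟨s, hs, s1, s2⟩ := h.exists_swap hS
  have hsM : s ∈ M := hH s hs (Or.inr ⟨s1, s2⟩)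
  by_cases hc : (∀ x ∈ A, x ≠ 0 → ¬ Ctr S M x) ∧ ∀ x ∈ B, x ≠ 0 → ¬ Ctr S M x
  · exfalso
    obtain ⟨g, hg, hg'⟩ := hg
    obtain ⟨b, hb, hb0⟩ := exists_ne_zero_of_finrank_pos (A := B) (by have := h.symm.three; omega)
    obtain ⟨a, ha, ha0, hab, -⟩ := exists_perp_two (S := S) h.three b b
    have hm := ev_conj_mem (hE a ha b hb hab) hg (hM hg)
    obtain ⟨b', hb', hb0', e1, e2⟩ := exists_perp_two (S := S) h.symm.three (g a) (g b)
    have h3 := (tpair_key2 hS h2 hM h hE h hE hc.1 hc.2 hm hb' hb0' (by simpa [e1, e2] using hb')).1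
    have h4 : g a ∈ S.perp A ∨ g b ∈ S.perp A := by
      by_contra hcon
      rw [not_or] at hcon
      obtain ⟨x, hx, x1, x2⟩ := exists_B_ne_ne hcon.1 hcon.2
      have := h.tiA _ (h3 x hx) x hx
      simp only [ev_apply, PQ.B_add_left, PQ.B_smul_left, sB_self, sB_swap (g a) x, sB_swap (g b) x] at this
      exact mul_ne_zero h2 (mul_ne_zero x1 x2) (by linear_combination -this)
    rcases h4 with h4 | h4
    · exact hg' (Or.inl (tpair_key2 hS h2 hM h.symm hE.symm h.symm hE.symm hc.2 hc.1 hg ha ha0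
        (h.mem_of_perp hS h4)).symm)
    · exact hg' (Or.inr (tpair_key2 hS h2 hM h hE h.symm hE.symm hc.2 hc.1 hg hb hb0 (h.mem_of_perp hS h4)))
  obtain ⟨b, hb, hb0, hC⟩ : ∃ b ∈ B, b ≠ 0 ∧ Ctr S M b := by
    by_contra hcon
    push Not at hcon
    exact hc ⟨fun x hx hx0 hC => hcon _ (s1 x hx) (by simpa using hx0) (hC.map hsM hs), hcon⟩
  have hB := tpair_ctr_all hS hM h hE hb hb0 hC
  have hA := tpair_ctr_all hS hM h.symm hE.symm (s2 b hb) (by simpa using hb0) (hC.map hsM hs)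
  obtain ⟨a, ha, b, hb, rfl⟩ := h.dec v
  by_cases hab : S.B a b ≠ 0
  · exact (hA a ha).add' (hB b hb) hab
  by_cases hb0 : b = 0
  · simpa [hb0] using hA a ha
  push Not at hab
  obtain ⟨a', ha', e, -⟩ := exists_B_ne_ne (S := S) (U := A) (fun h' => hb0 (h.eq_zero hS hb h'))
    (fun h' => hb0 (h.eq_zero hS hb h'))
  have := (((hA _ (A.add_mem ha ha')).add' (hB b hb) (by simpa [hab] using sB_ne_comm e)).sub' (hA a' ha')
    (by simpa [h.tiA a ha a' ha'] using e))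
  convert this using 1; abel

theorem two_ne_zero_of_odd [Fintype F] (h : Odd (Fintype.card F)) : (2 : F) ≠ 0 := by
  intro h2
  obtain ⟨k, hk⟩ := h
  have := natCast_card_eq_zero (F := F)
  rw [hk] at this
  push_cast at this
  rw [h2] at this
  simp at this

theorem two_eq_zero_of_not_odd [Fintype F] (h : ¬ Odd (Fintype.card F)) : (2 : F) = 0 := by
  have := (FiniteField.even_card_iff_char_two (F := F)).2 (Nat.even_iff.1 (Nat.not_odd_iff_even.1 h))
  have h1 : ((2 : ℕ) : F) = 0 := (ringChar.spec F 2).2 (by rw [this])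
  exact_mod_cast h1

theorem sp_max_pair [Fintype F] {m : ℕ} (hm : 3 ≤ m) (hodd : Odd (Fintype.card F))
    {D : Fin 2 → Submodule F (Fin m ⊕ Fin m → F)} (hD : Geo.IsMDecomposition m D)
    (hts : ∀ i, Geo.IsTotallySingularFor (sympForm m F) (D i)) :
    Geo.IsMaximalIn (spGL m F) (Geo.decompositionStabilizer D ⊓ spGL m F) := by
  obtain ⟨π, hπ⟩ := exists_projs hD.indep hD.iSup_eq_top
  refine sp_max _ _ (fun g _ => ?_) (Sp_not_le_decompositionStabilizer (by omega) hD)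
    fun M h1 h2 h3 => sp_pair_ctr (A := D 0) (B := D 1) (spS_nondeg m) (two_ne_zero_of_odd hodd)
      ⟨hts 0, hts 1, fun x => ⟨_, hπ.mem 0 x, _, hπ.mem 1 x, by simpa using (hπ.sum x).symm⟩,
        by rw [hD.finrank_eq, hD.finrank_eq], by rw [hD.finrank_eq]; exact hm⟩ h1 h2 h3
  constructor
  · intro hg
    obtain ⟨σ, hσ⟩ := (mem_decompositionStabilizer_iff D g).1 hg
    have h0 : ∀ x ∈ D 0, toLE g x ∈ D (σ 0) := fun x hx => mem_of_map_eq (hσ 0) hx
    have h1 : ∀ x ∈ D 1, toLE g x ∈ D (σ 1) := fun x hx => mem_of_map_eq (hσ 1) hx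
    have h2 : σ 0 ≠ σ 1 := σ.injective.ne (by decide)
    generalize σ 0 = i at *
    generalize σ 1 = j at *
    fin_cases i <;> fin_cases j
    · exact (h2 rfl).elim
    · exact Or.inl ⟨h0, h1⟩
    · exact Or.inr ⟨h0, h1⟩
    · exact (h2 rfl).elim
  · intro hg
    refine mem_decompositionStabilizer_of hD (Fin.forall_fin_two.2 ?_)
    rcases hg with hg | hg
    · exact ⟨⟨0, hg.1⟩, ⟨1, hg.2⟩⟩
    · exact ⟨⟨1, hg.1⟩, ⟨0, hg.2⟩⟩

/-- Maximality of orthogonal groups in characteristic two. -/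
theorem sp_quad_ctr [Finite F] (hS : S.Nondeg) (h2 : (2 : F) = 0) (h4 : 3 ≤ finrank F V)
    {T : PQ (FP.orth F) V} (hT : ∀ x y, T.B x y = S.B x y) (hM : M ≤ S.isom)
    (hH : ∀ g ∈ S.isom, (∀ x, T.Q (g x) = T.Q x) → g ∈ M) (hg : ∃ g ∈ M, ¬ ∀ x, T.Q (g x) = T.Q x) (v : V) :
    Ctr S M v := by
  have : CharP F 2 := CharTwo.of_one_ne_zero_of_two_eq_zero one_ne_zero h2
  let r : F ≃+* F := (frobeniusEquiv F 2).symm
  have hr : ∀ c, r c ^ 2 = c := fun c => (frobeniusEquiv F 2).apply_symm_apply c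
  have hr' : ∀ c, r (c ^ 2) = c := fun c => (frobeniusEquiv F 2).symm_apply_apply c
  have hTn : T.Nondeg := fun x hx => hS x fun y => (hT x y).symm.trans (hx y)
  have h1 : ∀ v, T.Q v = 1 → tv S v 1 ∈ M := fun v hv => hH _ (tv_mem _ _) fun x => by
    rw [tv_apply, T.orth_Q_add, T.orth_Q_smul, hv, hT]
    simp only [PQ.B_smul_right, FP.symp_σ]
    linear_combination (S.B x v ^ 2) * h2
  obtain ⟨g, hg, hg'⟩ := hg
  have hgi := hM hg
  let φ : Dual F V :=
    { toFun := fun x => r (T.Q (g x) - T.Q x)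
      map_add' := fun x y => by
        rw [← map_add r, map_add g, T.orth_Q_add, T.orth_Q_add, hT, hT, PQ.B_isom hgi]
        congr 1; ring
      map_smul' := fun c x => by
        rw [map_smul g, T.orth_Q_smul, T.orth_Q_smul, ← mul_sub, map_mul, hr']; rfl }
  have hφ : ∀ x, φ x ^ 2 = T.Q (g x) - T.Q x := fun x => hr _
  obtain ⟨a, ha⟩ := hS.exists_lin φ
  have ha0 : a ≠ 0 := by
    rintro rfl
    apply hg'
    intro x
    have := hφ x
    rw [← ha] at this
    exact sub_eq_zero.1 (by simpa using this.symm)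
  suffices H : ∀ v, v ≠ 0 → tv S v 1 ∈ M by
    by_cases hv : v = 0
    · rw [hv]; exact ctr_zero
    refine ctr_of_scaled one_ne_zero fun c => ?_
    by_cases hc : c = 0
    · rw [tv_smul, hc]; simp [tv_zero]
    · exact H _ (smul_ne_zero hc hv)
  intro w hw
  by_cases hc : T.Q w = 1
  · exact h1 w hc
  obtain ⟨v0, hv0⟩ := hS.exists_eq ha0 (r (1 - T.Q w))
  have hd : S.B v0 a ≠ 0 := by
    rw [hv0]; exact (map_ne_zero r).2 (sub_ne_zero.2 (Ne.symm hc))
  have hP := (S.nondegOn_span_pair trivial trivial hd).perp hS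
  obtain ⟨y, hy, hQy⟩ : ∃ y ∈ S.perp (Submodule.span F {v0, a}), T.Q y ≠ 0 := by
    by_contra hcon
    push Not at hcon
    have a1 := hS.finrank_perp (Submodule.span F {v0, a})
    rw [S.finrank_span_pair_of_hyperbolic trivial hd] at a1
    obtain ⟨y, hy, hy0⟩ := exists_ne_zero_of_finrank_pos (A := S.perp (Submodule.span F {v0, a})) (by omega)
    refine hy0 (hP y hy fun z hz => ?_)
    have := T.orth_Q_add y z
    rwa [hcon _ (add_mem hy hz), hcon y hy, hcon z hz, hT, zero_add, zero_add, eq_comm] at this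
  have y1 : S.B v0 y = 0 := S.B_comm_zero (hy _ (Submodule.subset_span (by simp)))
  have y2 : S.B y a = 0 := hy _ (Submodule.subset_span (by simp))
  set u := v0 + r ((T.Q w - T.Q v0) / T.Q y) • y with hu
  have u1 : T.Q u = T.Q w := by
    rw [hu, T.orth_Q_add, T.orth_Q_smul, hr, hT]; simp [y1, hQy]
  have u2 : S.B u a = r (1 - T.Q w) := by simp [hu, y2, hv0]
  have u3 : T.Q (g u) = 1 := by
    have := hφ u
    rw [← ha, PQ.lin_apply, u2, hr, u1] at this
    linear_combination -this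
  have u4 : tv S u 1 ∈ M := by
    simpa using tv_conj_mem (h1 _ u3) (M.inv_mem hg) (hM (M.inv_mem hg))
  obtain ⟨k, hk, e⟩ := hTn.witt_step ⊥ (u := u) (v := w) (by
    intro h0; rw [Submodule.mem_bot] at h0; rw [h0, ← hv0] at u2; exact hd (by simpa using u2.symm))
    (by simpa using hw) (by simp) (by simp [u1])
  have hki := T.gen_le_isom _ hk
  have hkS : k ∈ S.isom := (S.symp_mem_isom k).2 fun x y => by rw [← hT, ← hT, PQ.B_isom hki]
  rw [← e]
  exact tv_conj_mem u4 (hH k hkS ((T.orth_mem_isom k).1 hki)) hkS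

theorem sp_max_quad [Fintype F] {m : ℕ} (hm : 2 ≤ m) (heven : ¬ Odd (Fintype.card F))
    {Q : (Fin m ⊕ Fin m → F) → F} (hQ : Geo.IsNondegenerateQuadraticForm Q)
    (hpol : ∀ u v, QuadraticMap.polar Q u v = sympForm m F u v) :
    Geo.IsMaximalIn (spGL m F) (Geo.quadSimilarityGroup Q ⊓ spGL m F) := by
  refine sp_max _ (fun g => ∀ x, Q (g x) = Q x) (fun g hg => ⟨?_, fun h => ⟨1, fun v => by simpa [toLE_apply] using h v⟩⟩)
    (Sp_not_le_quadSimilarityGroup hm hQ)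
    fun M h1 h2 h3 => sp_quad_ctr (T := quadPQ hQ) (spS_nondeg m) (two_eq_zero_of_not_odd heven)
      (by rw [finrank_spS]; omega) hpol h1 h2 h3
  rintro ⟨c, hc⟩
  have hg' := (mem_spGL_iff m g).1 hg
  obtain ⟨x, hx⟩ : ∃ x : Fin m ⊕ Fin m → F, x ≠ 0 :=
    ⟨Pi.single (.inl ⟨0, by omega⟩) 1, by simp⟩
  obtain ⟨y, hy⟩ := (spS_nondeg (F := F) m).exists_ne hx
  have h1 := PQ.B_isom hg' y x
  have h2 : ∀ u v, (spS m F).B u v = Q (u + v) - Q u - Q v := fun u v => (hpol u v).symm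
  rw [h2, ← map_add] at h1
  simp only [glEquiv_apply, hc] at h1
  have : (c : F) = 1 := by
    apply mul_right_cancel₀ hy
    rw [one_mul]
    refine Eq.trans ?_ h1
    rw [h2]; ring
  intro x
  rw [toLE_apply, hc, this, one_mul]

end Cfsg.Agent.H7
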