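import Cfsg.Agent.H7.T2a

/-!
Normalisers of `p`-subgroups in the covering group of `²E₆(2)`.
-/

set_option autoImplicit false
set_option linter.unusedSectionVars false
set_option exponentiation.threshold 1500

namespace Cfsg.Agent.H7.T2

open Cfsg.Lie Bit Cert E6 Subgroup

section abstract

variable {Γ G : Type*} [Group Γ] [Group G]

theorem not_coatom {N M : Subgroup Γ} (h : N ≤ M) {x y : Γ} (hx : x ∈ M) (hx' : x ∉ N) (hy : y ∉ M) :
    ¬IsCoatom N := fun hc => hy (hc.2 M (lt_of_le_of_ne h fun e => hx' (e ▸ hx)) ▸ mem_top y)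

theorem card_le {p e N : ℕ} (hp : p.Prime) (h : ¬p ^ (e + 1) ∣ N) {A : Subgroup G} [Finite A] (hA : IsPGroup p A)
    (hN : Nat.card A ∣ N) : Nat.card A ≤ p ^ e := by
  have := Fact.mk hp
  obtain ⟨m, hm⟩ := IsPGroup.iff_card.1 hA
  rw [hm] at hN ⊢
  exact Nat.pow_le_pow_right hp.pos (Nat.le_of_not_lt fun h' => h ((pow_dvd_pow p h').trans hN))

theorem reduce [Finite Γ] (π : Γ →* G) (hπ : Function.Surjective π)
    (hker : ∀ z, π z = 1 → z ^ 3 = 1 ∧ ∀ g, g * z = z * g) {p : ℕ} (hp : p.Prime) (h3 : p ≠ 3) {Q : Subgroup Γ}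
    (hQ : IsPGroup p Q) (hmax : ∀ A : Subgroup G, IsPGroup p A → Nat.card A ≤ Nat.card Q)
    (h : ∀ P ≤ Q, P ≠ ⊥ → ¬IsCoatom (normalizer (P : Set Γ))) {P : Subgroup G} (hP : IsPGroup p P) (hP1 : P ≠ ⊥) :
    ¬IsCoatom (normalizer (P : Set G)) := by
  have := Fact.mk hp
  have := Finite.of_surjective π hπ
  have key : ∀ z k, π z = 1 → z ^ p ^ k = 1 → z = 1 := fun z k h1 h2 => by
    have := pow_gcd_eq_one.2 ⟨(hker z h1).1, h2⟩
    rwa [((Nat.coprime_primes Nat.prime_three hp).2 h3.symm).pow_right k, pow_one] at this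
  have hc : Nat.card (Q.map π) = Nat.card Q := by
    rw [← Nat.card_congr (MonoidHom.ofInjective (f := π.comp Q.subtype) ((injective_iff_map_eq_one _).2 fun z hz => by
      obtain ⟨k, hk⟩ := hQ z
      exact Subtype.ext (key z k hz (congrArg Subtype.val hk)))).symm.toEquiv, MonoidHom.range_comp,
      range_subtype]
  obtain ⟨Q1, h1⟩ := hP.exists_le_sylow
  obtain ⟨Q2, h2⟩ := (hQ.map π).exists_le_sylow
  have h4 := eq_of_le_of_card_ge h2 (hc ▸ hmax _ Q2.isPGroup')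
  obtain ⟨g, hg⟩ := MulAction.exists_smul_eq G Q1 Q2
  have h5 : P.map (MulAut.conj g).toMonoidHom ≤ Q.map π := by
    rw [h4, ← hg]; exact map_mono h1
  intro hco
  replace hco := ((MulAut.conj g).mapSubgroup.isCoatom_iff _).2 hco
  rw [MulEquiv.mapSubgroup_apply, ← MulEquiv.toMonoidHom_eq_coe, map_equiv_normalizer_eq] at hco
  set P' := P.map (MulAut.conj g).toMonoidHom
  have h6 : ∀ u ∈ P', ∃ v ∈ P'.comap π ⊓ Q, π v = u := fun u hu =>
    let ⟨v, hv, e⟩ := h5 hu; ⟨v, ⟨show π v ∈ P' from e ▸ hu, hv⟩, e⟩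
  refine h (P'.comap π ⊓ Q) inf_le_right (fun e => hP1 ?_) ?_
  · refine (map_eq_bot_iff_of_injective (f := (MulAut.conj g).toMonoidHom) _ (MulAut.conj g).injective).1 ((eq_bot_iff_forall _).2 fun u hu => ?_)
    obtain ⟨v, hv, rfl⟩ := h6 u hu
    rw [mem_bot.1 (e.le hv), map_one]
  convert isCoatom_comap_of_surjective hπ hco using 1
  refine le_antisymm (fun n hn => mem_normalizer_fintype fun u hu => ?_) fun n hn => mem_normalizer_fintype fun u hu => ?_
  · obtain ⟨v, hv, rfl⟩ := h6 u hu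
    simpa using ((mem_normalizer_iff.1 hn v).1 hv).1
  · obtain ⟨v, hv, e⟩ := h6 _ ((mem_normalizer_iff.1 hn _).1 hu.1)
    have h7 : π (v⁻¹ * (n * u * n⁻¹)) = 1 := by simp only [map_mul, map_inv, e, inv_mul_cancel]
    obtain ⟨k, hk⟩ := hQ ⟨u, hu.2⟩
    obtain ⟨k', hk'⟩ := hQ ⟨v⁻¹, inv_mem hv.2⟩
    have h8 : Commute v⁻¹ (n * u * n⁻¹) := by
      have := (hker _ h7).2 v⁻¹
      rw [mul_assoc v⁻¹ (n * u * n⁻¹), mul_right_inj] at this
      exact this
    have := key _ (k + k') h7 (by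
      rw [h8.mul_pow, conj_pow, pow_add, pow_mul u, show u ^ p ^ k = 1 from congrArg Subtype.val hk, mul_comm (p ^ k),
        pow_mul, show v⁻¹ ^ p ^ k' = 1 from congrArg Subtype.val hk']
      simp)
    exact inv_mul_eq_one.1 this ▸ hv

theorem mem_of_pow {p : ℕ} (hp : p.Prime) {b : Γ} (hb : b ^ p = 1) {P : Subgroup Γ} {j : ℤ} (h : b ^ j ∈ P)
    (h1 : b ^ j ≠ 1) : b ∈ P := by
  have := Fact.mk hp
  have h2 := orderOf_eq_prime hb (by rintro rfl; simp at h1)
  refine zpowers_le.2 h (mem_zpowers_zpow_iff.2 ?_)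
  rw [h2, Int.gcd_comm]
  exact Int.isCoprime_iff_gcd_eq_one.1 ((Nat.prime_iff_prime_int.1 hp).coprime_iff_not_dvd.2 fun e =>
    h1 (orderOf_dvd_iff_zpow_eq_one.1 (h2 ▸ e)))

theorem cases_sq {p : ℕ} (hp : p.Prime) {a b : Γ} (ha : a ^ p = 1) (hb : b ^ p = 1) (hab : Commute a b)
    {P : Subgroup Γ} (hP : ∀ u ∈ P, ∃ i j : ℤ, u = a ^ i * b ^ j) (h1 : P ≠ ⊥) (h : b ∉ P) :
    ∃ k < p, a * b ^ k ∈ P ∧ P ≤ zpowers (a * b ^ k) := by
  have h2 : ∀ j : ℤ, b ^ j ∈ P → b ^ j = 1 := fun j hj => by_contra fun e => h (mem_of_pow hp hb hj e)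
  obtain ⟨⟨u, hu⟩, hu1⟩ := ne_bot_iff_exists_ne_one.1 h1
  obtain ⟨i, j, rfl⟩ := hP u hu
  have h3 : a ^ i ≠ 1 := fun e => hu1 (Subtype.ext (by simpa [e] using h2 j (by simpa [e] using hu)))
  obtain ⟨m, hm⟩ := mem_of_pow hp ha (mem_zpowers (a ^ i)) h3
  obtain ⟨k, hk, e⟩ : ∃ k < p, b ^ k = (b ^ j) ^ m := by
    have hp' : (0 : ℤ) < p := by exact_mod_cast hp.pos
    refine ⟨(j * m % p).toNat, by have := Int.emod_lt_of_pos (j * m) hp'; omega, ?_⟩
    rw [← zpow_natCast, Int.toNat_of_nonneg (Int.emod_nonneg _ hp'.ne'), ← zpow_mul,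
      ← zpow_eq_zpow_emod' _ hb]
  have h4 : a * b ^ k ∈ P := by
    have := zpow_mem hu m
    rwa [(hab.zpow_zpow i j).mul_zpow, show (a ^ i) ^ m = a from hm, ← e] at this
  refine ⟨k, hk, h4, fun v hv => ?_⟩
  obtain ⟨i', j', rfl⟩ := hP v hv
  have h5 : (a * b ^ k) ^ i' = a ^ i' * b ^ (k * i') := by rw [(hab.pow_right k).mul_zpow, zpow_mul, zpow_natCast]
  have := h2 (-(k * i') + j') (by simpa [h5, _root_.zpow_add, mul_assoc] using mul_mem (inv_mem (zpow_mem h4 i')) hv)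
  exact ⟨i', by rw [_root_.zpow_add, zpow_neg, inv_mul_eq_one] at this; simp only [h5, this]⟩

theorem mem_norm [Finite Γ] {z g : Γ} {j : ℕ} (h : g * z = z ^ j * g) : g ∈ normalizer (zpowers z : Set Γ) :=
  mem_normalizer_fintype fun _ ⟨m, e⟩ => e ▸ by
    rw [← conj_zpow, h, mul_inv_cancel_right]; exact zpow_mem (npow_mem_zpowers z j) m

theorem comm_zpowers {t u : Γ} (h : u ∈ zpowers t) : u * t = t * u := by
  obtain ⟨m, rfl⟩ := h; exact (Commute.zpow_self t m).eq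

theorem mem_of_le {p : ℕ} (hp : p.Prime) {t : Γ} (ht : t ^ p = 1) {P : Subgroup Γ} (h : P ≤ zpowers t) (h1 : P ≠ ⊥) :
    P = zpowers t := by
  obtain ⟨⟨u, hu⟩, hu1⟩ := ne_bot_iff_exists_ne_one.1 h1
  obtain ⟨j, rfl⟩ := h hu
  exact h.antisymm (zpowers_le.2 (mem_of_pow hp ht hu fun e => hu1 (Subtype.ext e)))

theorem pgroup_zpowers {p : ℕ} {t : Γ} (ht : t ^ p = 1) : IsPGroup p (zpowers t) := fun ⟨_, m, rfl⟩ =>
  ⟨1, Subtype.ext (show (t ^ m) ^ p ^ 1 = 1 by rw [pow_one, ← zpow_natCast, zpow_comm, zpow_natCast, ht, one_zpow])⟩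

end abstract

open Matrix

variable {K : Type*} [Field K] [CharP K 2] [Fintype K] {ω : K}

variable (K) in
/-- the lifts of the elements of `²E₆(2)` -/
def S : Subgroup (GL (Fin 27) K) where
  carrier := {M | ∃ g : twistedE6 K 2, Lift (rho K) g.1 M}
  one_mem' := ⟨1, Lift.one⟩
  mul_mem' := fun ⟨g, hg⟩ ⟨h, hh⟩ => ⟨g * h, hg.mul hh⟩
  inv_mem' := fun ⟨g, hg⟩ => ⟨g⁻¹, hg.inv⟩

variable (K) in
/-- the covering map -/
noncomputable def π : S K →* twistedE6 K 2 := MonoidHom.mk' (fun M => M.2.choose) fun M N =>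
  Subtype.ext (Units.ext (Lift.uniq rho_inj (M * N).1.isUnit (M * N).2.choose_spec
    (M.2.choose_spec.mul N.2.choose_spec)))

theorem lift_π (M : S K) : Lift (rho K) (π K M).1 M.1 := M.2.choose_spec

theorem π_surj : Function.Surjective (π K) := fun g =>
  let ⟨M, _, h⟩ := exists_lift g.2
  ⟨⟨M, g, h⟩, Subtype.ext (Units.ext (Lift.uniq rho_inj M.isUnit (lift_π ⟨M, g, h⟩) h))⟩

theorem π_ker (h3 : ∀ c : K, c ≠ 0 → c ^ 3 = 1) (z : S K) (h : π K z = 1) : z ^ 3 = 1 ∧ ∀ g, g * z = z * g := by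
  have := lift_π z
  rw [h] at this
  obtain ⟨c, hc⟩ := schur this
  have h0 : c ≠ 0 := by rintro rfl; simp at hc
  exact ⟨Subtype.ext (Units.ext (by simp [hc, smul_pow, h3 c h0])), fun g => Subtype.ext (Units.ext (by simp [hc]))⟩

variable (ω) in
/-- the matrix with a given code -/
abbrev f : ℕ → Matrix (Fin 27) (Fin 27) K := toP ω eV eV

theorem f0 : f ω (X 0) = 1 := by rw [chk_gen.1, f, toP_of_lt eV eV (by decide +kernel), toM_one]

theorem f13 : f ω (X 13) = ω • 1 := by rw [chk_gen.2.1]; exact (toP_pk ..).trans (by simp [toQ, toM_one])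

theorem f_xor1 (a : ℕ) : f ω (Nat.xor a (X 0)) = f ω a + 1 := by rw [f, toP_xor, ← f0 (ω := ω)]

theorem f_xlP {r : ℕ} (hr : r < 72) (t : ℕ) : f ω (xlP r t) = xl r ((t % 2 : ℕ) + (t / 2 % 2 : ℕ) * ω) := by
  refine (toP_pk ..).trans ?_
  rw [toQ, toM_xor, toM_one, xl, if_pos hr]
  rcases Nat.mod_two_eq_zero_or_one t with h | h <;> rcases Nat.mod_two_eq_zero_or_one (t / 2) with h' | h' <;>
    simp [h, h', add_smul, add_assoc]

variable (hω : ω * ω = ω + 1)
include hω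

theorem hmu (a b : ℕ) : f ω (mu a b) = f ω a * f ω b := toP_mul hω ..

theorem f_pw (x n : ℕ) : f ω (pw x n) = f ω x ^ n := by
  induction n with
  | zero => exact f0.trans (pow_zero _).symm
  | succ n ih => rw [pow_succ', ← ih, ← hmu hω]; rfl

theorem f_ne {a b : ℕ} (h : ne a b = true) : f ω a ≠ f ω b := fun e => by
  simp only [ne, Bool.and_eq_true, Nat.blt_eq, Bool.not_eq_true'] at h
  exact Nat.ne_of_beq_eq_false h.2 (toP_inj hω eV eV (n := 27) (m := 27) h.1.1 h.1.2 e)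

theorem in_X {j : ℕ} (hj : j < 71) : ∃ x : S K, x.1.1 = f ω (X j) := by
  have h0 : ω ≠ 0 := by rintro rfl; simp at hω
  have h1 : AllIn (f ω) X (S K) (Nat.pred (Nat.pow 2 14)) := fun j hj => by
    replace hj : j < 14 := by simpa using (Nat.testBit_two_pow_sub_one 14 j).symm.trans hj
    replace hj : j = 0 ∨ j = 13 ∨ ∃ i < 12, j = i + 1 := by revert j; decide
    obtain rfl | rfl | ⟨j, hj, rfl⟩ := hj
    · exact ⟨1, one_mem _, f0.symm⟩
    · exact ⟨Units.mk0 ω h0 • 1, ⟨1, Lift.one.smul ω⟩, f13.symm⟩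
    let w (j) : List (ℕ × K) := (gl.getD j []).map fun p => (p.1, (p.2 % 2 : ℕ) + (p.2 / 2 % 2 : ℕ) * ω)
    refine ⟨wV (w j), ⟨⟨wU (w j), wU_mem ?_⟩, lift_w _⟩, ?_⟩
    · have : ω ^ 2 = 1 + ω := by rw [sq, hω, add_comm]
      interval_cases j <;> simp [w, gl, e6Words, e6p1, e6p2, e6p3, e6p4, e6p5, e6p6, e6m1, e6m2, e6m3, e6m4, e6m5,
        e6m6, this]
    · have : ∀ j < 12, ∀ p ∈ gl.getD j [], p.1 < 72 := by decide
      have := this j hj
      rw [coe_wV, chk_gen.2.2 j hj]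
      simp only [w]
      generalize gl.getD j [] = L at this
      induction L with
      | nil => exact f0.symm
      | cons p L ih =>
        rw [List.foldr_cons, hmu hω, ← ih fun q hq => this q (List.mem_cons_of_mem _ hq), f_xlP (this p (by simp))]
        rfl
  obtain ⟨g, hg, e⟩ := h1.slp (hmu hω) chk_slp j (by revert j; decide +kernel)
  exact ⟨⟨g, hg⟩, e⟩

theorem nn_spec {t x : ℕ} (h : nnChk t x = true) {T Z : GL (Fin 27) K} (hT : T.1 = f ω t) (hZ : Z.1 = f ω x) :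
    Z * Z = 1 ∧ Z * T * Z⁻¹ * T ≠ T * (Z * T * Z⁻¹) := by
  simp only [nnChk, Bool.and_eq_true, Nat.beq_eq] at h
  have h1 : Z * Z = 1 := Units.ext (by rw [Units.val_mul, hZ, ← hmu hω, h.1, f0]; rfl)
  refine ⟨h1, fun e => f_ne hω h.2 ?_⟩
  rw [inv_eq_of_mul_eq_one_right h1] at e
  simpa only [hmu hω, Units.val_mul, hT, hZ, mul_assoc] using congrArg Units.val e

theorem fix_spec {t x y D E : ℕ} (h : fixChk t x y D E = true) (hx : x < 71) (hy : y < 71) {T : S K}
    (hT : T.1.1 = f ω t) {P : Subgroup (S K)} (hP : T ∈ P) (h1 : ∀ u ∈ P, u * T = T * u)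
    (h2 : ∀ u ∈ P, ∀ A : Matrix (Fin 27) (Fin 27) K, T.1.1 * A = A → u.1.1 * A = A) :
    ¬IsCoatom (normalizer (P : Set (S K))) := by
  simp only [fixChk, Bool.and_eq_true, Nat.beq_eq] at h
  obtain ⟨⟨⟨h3, h4⟩, h5⟩, h6⟩ := h
  obtain ⟨x, hx⟩ := in_X hω hx
  obtain ⟨y, hy⟩ := in_X hω hy
  obtain ⟨h7, h8⟩ := nn_spec hω h3 hT hx
  let M : Subgroup (S K) := Subgroup.closure (normalizer (P : Set (S K)) ∪ {x})
  have hM : ∀ g ∈ M, ∀ A : Matrix (Fin 27) (Fin 27) K, T.1.1 * A = A → T.1.1 * (g.1.1 * A) = g.1.1 * A := by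
    intro g hg
    rw [← mem_toSubmonoid, closure_toSubmonoid_of_finite] at hg
    induction hg using Submonoid.closure_induction with
    | mem g hg =>
      intro A hA
      rcases hg with hg | rfl
      · have := congrArg (g.1.1 * ·) (h2 _ ((mem_normalizer_iff''.1 hg T).1 hP) A hA)
        simpa [← mul_assoc] using this
      · have := congrArg (f ω · * A) h4
        simp only [hmu hω, f_xor1, ← hT, ← hx, mul_assoc, add_mul, hA, one_mul, CharTwo.add_self_eq_zero,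
          mul_zero] at this
        exact CharTwo.add_eq_zero.1 this
    | one => simp
    | mul a b _ _ ha hb => exact fun A hA => by simpa [mul_assoc] using ha _ (hb A hA)
  refine not_coatom (M := M) (y := y) (fun _ hg => Subgroup.subset_closure (.inl hg)) (Subgroup.subset_closure (.inr rfl))
    (fun e => h8 ?_) fun e => f_ne hω h6 ?_
  · exact congrArg Subtype.val (h1 _ ((mem_normalizer_iff.1 e T).1 hP))
  · simpa only [hmu hω, hT, hy] using hM y e (f ω (Y E)) (by rw [hT, ← hmu hω, h5])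

omit hω in
theorem fix_zpowers {t u : S K} (h : u ∈ zpowers t) (A : Matrix (Fin 27) (Fin 27) K) (hA : t.1.1 * A = A) :
    u.1.1 * A = A := by
  obtain ⟨m, rfl⟩ := (mem_powers_iff_mem_zpowers.2 h)
  induction m with
  | zero => simp
  | succ m ih => simpa [pow_succ, mul_assoc, hA] using ih (npow_mem_zpowers _ _)

theorem S_ext {x y : S K} {a b : ℕ} (hx : x.1.1 = f ω a) (hy : y.1.1 = f ω b) (h : a = b) : x = y :=
  Subtype.ext (Units.ext (by rw [hx, hy, h]))

theorem S_mul {x y : S K} {a b : ℕ} (hx : x.1.1 = f ω a) (hy : y.1.1 = f ω b) : (x * y).1.1 = f ω (mu a b) := by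
  rw [hmu hω, ← hx, ← hy]; rfl

theorem S_pow {x : S K} {a : ℕ} (hx : x.1.1 = f ω a) (n : ℕ) : (x ^ n).1.1 = f ω (pw a n) := by
  rw [f_pw hω, ← hx]; rfl

/-- the statement for one prime -/
def Ok (K : Type*) [Field K] [CharP K 2] (p e : ℕ) : Prop := ∃ Q : Subgroup (S K), IsPGroup p Q ∧ p ^ e ≤ Nat.card Q ∧
  ∀ P ≤ Q, P ≠ ⊥ → ¬IsCoatom (normalizer (P : Set (S K)))

omit hω in
theorem ok_cyc {p : ℕ} (hp : p.Prime) {T : S K} (hT : T ^ p = 1) (h1 : T ≠ 1)
    (h : ¬IsCoatom (normalizer (zpowers T : Set (S K)))) : Ok K p 1 :=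
  have := Fact.mk hp
  ⟨zpowers T, pgroup_zpowers hT, by rw [Nat.card_zpowers, orderOf_eq_prime hT h1, pow_one],
    fun _ h2 h3 => mem_of_le hp hT h2 h3 ▸ h⟩

theorem ne_one {t x : ℕ} (h : nnChk t (X x) = true) (hx : x < 71) {T : S K} (hT : T.1.1 = f ω t) : T ≠ 1 := by
  rintro rfl
  obtain ⟨x, hx⟩ := in_X hω hx
  simpa using (nn_spec hω h hT hx).2

theorem ok_fix {p t x y D E : ℕ} (hp : p.Prime) (h : pw (X t) p = X 0 ∧ fixChk (X t) x y D E = true) (ht : t < 71)
    (hx : x < 71) (hy : y < 71) : Ok K p 1 := by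
  obtain ⟨T, hT⟩ := in_X hω ht
  refine ok_cyc hp (S_ext hω (S_pow hω hT p) f0.symm h.1) (ne_one hω ?_ hx hT)
    (fix_spec hω h.2 hx hy hT (mem_zpowers T) (fun _ => comm_zpowers) fun _ => fix_zpowers)
  have := h.2
  simp only [fixChk, Bool.and_eq_true] at this
  exact this.1.1.1

theorem ok_7 : Ok K 7 2 := by
  obtain ⟨h1, h2, h3, h4, h5, h6, h7⟩ := chk_7
  obtain ⟨a, ha⟩ := in_X hω (j := 25) (by decide)
  obtain ⟨b, hb⟩ := in_X hω (j := 26) (by decide)
  have h7' : Nat.Prime 7 := by decide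
  have := Fact.mk h7'
  replace h1 := S_ext hω (S_pow hω ha 7) (y := 1) f0.symm h1
  replace h2 := S_ext hω (S_pow hω hb 7) (y := 1) f0.symm h2
  replace h3 : Commute a b := S_ext hω (S_mul hω ha hb) (S_mul hω hb ha) h3
  let Q : Subgroup (S K) :=
    { carrier := {u | ∃ i j : ℤ, u = a ^ i * b ^ j}
      one_mem' := ⟨0, 0, by simp⟩
      mul_mem' := by
        rintro _ _ ⟨i, j, rfl⟩ ⟨i', j', rfl⟩
        exact ⟨i + i', j + j', by rw [_root_.zpow_add, _root_.zpow_add, (h3.zpow_zpow i' j).symm.mul_mul_mul_comm]⟩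
      inv_mem' := by
        rintro _ ⟨i, j, rfl⟩
        exact ⟨-i, -j, by rw [(h3.zpow_zpow i j).mul_inv, _root_.zpow_neg, _root_.zpow_neg]⟩ }
  have hQ : IsPGroup 7 Q := fun ⟨_, i, j, rfl⟩ => ⟨1, Subtype.ext (show (a ^ i * b ^ j) ^ 7 = 1 by
    rw [(h3.zpow_zpow i j).mul_pow, ← zpow_natCast, ← zpow_natCast, zpow_comm, zpow_comm b, zpow_natCast, zpow_natCast,
      h1, h2]
    simp)⟩
  have h8 : ∀ A : Matrix (Fin 27) (Fin 27) K, b.1.1 * A = A → a.1.1 * A = A := fun A hA => by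
    have := congrArg (f ω · * A) h4
    simp only [hmu hω, f_xor1, ← ha, ← hb, mul_assoc, add_mul, hA, one_mul, CharTwo.add_self_eq_zero, mul_zero] at this
    exact CharTwo.add_eq_zero.1 this
  have h9 : b ∉ zpowers a := fun e => f_ne hω h7 (by
    rw [hmu hω, ← hb]; exact fix_zpowers e _ (by rw [ha, ← hmu hω, h6]))
  refine ⟨Q, hQ, ?_, fun P hP hP1 => ?_⟩
  · obtain ⟨m, hm⟩ := IsPGroup.iff_card.1 hQ
    have h10 : zpowers a ≤ Q := zpowers_le.2 ⟨1, 0, by simp⟩
    have h11 : a ≠ 1 := by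
      rintro rfl
      obtain ⟨c, -, h, -, -, h'⟩ := chk_7' 0 (by decide)
      simp only [fixChk, Bool.and_eq_true] at h'
      exact ne_one hω h'.1.1.1 h (S_mul hω ha (S_pow hω hb 0)) (by simp)
    have : ¬Nat.card Q ≤ Nat.card (zpowers a) := fun e => h9 (eq_of_le_of_card_ge h10 e ▸ ⟨0, 1, by simp⟩)
    rw [Nat.card_zpowers, orderOf_eq_prime h1 h11, hm] at this
    rw [hm]
    exact Nat.pow_le_pow_right (by decide) (Nat.lt_of_not_le fun e => this (Nat.pow_le_pow_right (n := 7) (by decide) e))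
  by_cases h : b ∈ P
  · refine fix_spec hω h5 (by decide) (by decide) hb h (fun u hu => ?_) fun u hu A hA => ?_ <;>
      obtain ⟨i, j, rfl⟩ := hP hu
    · exact ((h3.zpow_left i).mul_left (Commute.zpow_self b j)).eq
    · rw [coe_mul, Units.val_mul, mul_assoc, fix_zpowers (zpow_mem_zpowers b j) A hA]
      exact fix_zpowers (zpow_mem_zpowers a i) A (h8 A hA)
  · obtain ⟨k, hk, h10, h11⟩ := cases_sq h7' h1 h2 h3 hP hP1 h
    obtain ⟨c, -, h12, h13, -, h'⟩ := chk_7' k hk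
    exact fix_spec hω h' h12 h13 (S_mul hω ha (S_pow hω hb k)) h10 (fun _ hu => comm_zpowers (h11 hu))
      fun _ hu => fix_zpowers (h11 hu)

omit hω in
theorem trace_toM (A : ℕ) : (toM K eV eV A).trace = bit K (trB 27 A) 0 := by
  have := congrFun (congrFun (toM_sumB (K := K) (Equiv.refl (Fin 1)) (Equiv.refl (Fin 1)) 27
    fun i => Bit.col 1 A (27 * i + i)) 0) 0
  rw [Matrix.sum_apply, Finset.sum_range] at this
  refine (Finset.sum_congr rfl fun i _ => ?_).trans this.symm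
  exact (congrArg (bit K A) (by simp)).trans (bit_col (K := K) one_pos A (27 * i + i)).symm

theorem comm_hor {c : Matrix (Fin 27) (Fin 27) K} {H : ℕ} (h : Commute c (f ω H)) (cs : List ℕ) :
    Commute c (f ω (hor H cs)) := by
  induction cs with
  | nil => simp [hor, toP, toQ]
  | cons a cs ih =>
    change Commute c (toP ω eV eV (Nat.xor (mu H (hor H cs)) (Nat.xor (a % 2 * X 0) (a / 2 % 2 * X 13))))
    have h0 : f ω 0 = 0 := by simp [toP, toQ]
    rw [toP_xor, toP_xor]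
    refine (hmu hω _ _ ▸ h.mul_right ih).add_right (.add_right ?_ ?_)
    · rcases Nat.mod_two_eq_zero_or_one a with h | h <;> simp [h, h0, f0]
    · rcases Nat.mod_two_eq_zero_or_one (a / 2) with h | h <;> simp [h, h0, f13, Commute, SemiconjBy]

theorem comm_HH {c : S K} (h : Commute c.1.1 (f ω (X 68))) : Commute c.1.1 (f ω HH) := by
  let v : chevE6.Idx → K := toV K eA hv.1 + ω • toV K eA hv.2
  have h1 : f ω HH = rho K v := (toP_pk ..).trans (by simp only [v, rho, map_add, map_smul, stk_toV, toQ])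
  have h2 : Commute (rho K v) (f ω (X 68)) := by
    rw [← h1]; exact (hmu hω ..).symm.trans ((congrArg _ chk_19.2.2.2.2.2.2.2.1).trans (hmu hω ..))
  have h3 : rho K ((π K c).1.1 *ᵥ v) = c.1.1 * rho K v * (c⁻¹).1.1 := by
    rw [← lift_π c v, mul_assoc, coe_inv, Units.mul_inv, mul_one]
  have h' : Commute (c⁻¹).1.1 (f ω (X 68)) := h.units_inv_left
  let d := (π K c).1.1 *ᵥ v + v
  obtain ⟨s, hs⟩ := in_X hω (j := 68) (by decide)
  have h4 : toP ω eA eA sA *ᵥ d = d := rho_inj (s.1.isUnit.mul_right_cancel <| by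
    rw [hs]
    refine (lift_of_qlChk hω eV eA chk_lift d).trans (show f ω (X 68) * rho K d = _ from ?_)
    rw [map_add, h3]
    exact (((h.mul_left h2).mul_left h').add_left h2).symm.eq)
  have h5 : toP ω (Equiv.refl (Fin 6)) eA FF *ᵥ d = 0 := funext fun i => by
    obtain ⟨h6, h7⟩ := chk_tr i i.2
    have h8 : ∀ y, (toP ω (Equiv.refl (Fin 6)) eA FF *ᵥ y) i = (f ω (Y (24 + i)) * rho K y).trace := fun y => by
      rw [pi_eq_sum_univ' y]
      simp only [mulVec_sum, mulVec_smul, map_sum, map_smul, Finset.mul_sum, mul_smul_comm, trace_sum, trace_smul,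
        Finset.sum_apply, Pi.smul_apply]
      refine Finset.sum_congr rfl fun k _ => congrArg _ ?_
      have := all_spec h7 _ (eA k).2
      simp only [Bool.and_eq_true, Nat.beq_eq] at this
      rw [rho, stk_single, f, toP, toP, toQ, toQ, add_mul, smul_mul_assoc, ← toM_mul eV eV eV, ← toM_mul eV eV eV,
        trace_add, trace_smul, trace_toM, trace_toM]
      erw [← this.1, ← this.2]
      simp [bit_col, toM]
    have : Commute (c⁻¹).1.1 (f ω (Y (24 + i))) := by rw [h6, f_pw hω]; exact h'.pow_right _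
    rw [h8, map_add, h3, mul_add, trace_add, ← mul_assoc, trace_mul_comm, ← mul_assoc, ← mul_assoc, this.eq,
      mul_assoc (f ω _), coe_inv, Units.inv_mul, mul_one, CharTwo.add_self_eq_zero, Pi.zero_apply]
  have h6 := congrArg (toP ω eA eA · *ᵥ d) chk_inv
  simp only [toP_xor, toP_mul hω eA eA eA, toP_mul hω eA (Equiv.refl (Fin 6)) eA, add_mulVec, ← mulVec_mulVec, h4, h5,
    toP_of_lt eA eA (show Nat.shiftRight (one 78) (Nat.mul 78 78) = 0 by decide +kernel), toM_one, one_mulVec,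
    add_zero, mulVec_zero, show d + d = 0 from funext fun _ => CharTwo.add_self_eq_zero _] at h6
  have h7 := lift_π c v
  rw [show (π K c).1.1 *ᵥ v = v from funext fun i => CharTwo.add_eq_zero.1 (congrFun h6 i).symm] at h7
  exact h1 ▸ h7.symm

theorem ok_19 : Ok K 19 1 := by
  obtain ⟨h1, h2, h3, h4, h5, h6, h7, -, h8, h9⟩ := chk_19
  obtain ⟨s, hs⟩ := in_X hω (j := 68) (by decide)
  obtain ⟨n, hn⟩ := in_X hω (j := 70) (by decide)
  obtain ⟨x, hx⟩ := in_X hω (j := 67) (by decide)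
  obtain ⟨y, hy⟩ := in_X hω (j := 3) (by decide)
  replace h1 := S_ext hω (S_pow hω hs 19) (y := 1) f0.symm h1
  replace h4 := S_ext hω (S_mul hω hn hs) (S_mul hω (S_pow hω hs 16) hn) h4
  obtain ⟨z, hz⟩ : IsUnit (f ω (Y 23)) := .of_pow_eq_one (n := 9) (by rw [← f_pw hω, h5, f0]) (by decide)
  refine ok_cyc (by decide) h1 (ne_one hω h2 (by decide) hs) (not_coatom
    (M := (normalizer (zpowers z : Set _)).comap (S K).subtype) (x := x) (y := y) (fun g hg => ?_) ?_
    (fun e => (nn_spec hω h2 hs hx).2 ?_) fun e => (nn_spec hω h3 hz hy).2 ?_)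
  · obtain ⟨k, hk⟩ := mem_powers_iff_mem_zpowers.2 ((mem_normalizer_iff.1 hg s).1 (mem_zpowers s))
    have h10 : ∀ j, n ^ j * s * (n ^ j)⁻¹ = s ^ 16 ^ j := fun j => by
      induction j with
      | zero => simp
      | succ j ih => rw [pow_succ', pow_succ', pow_mul, ← mul_inv_eq_iff_eq_mul.2 h4, conj_pow, ← ih]; group
    have h11 : ∀ k < 19, k = 0 ∨ ∃ j < 9, ∃ e ∈ [1, 18], k = 16 ^ j * e % 19 := by decide
    beta_reduce at hk
    rw [pow_eq_pow_mod k h1] at hk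
    obtain h | ⟨j, -, e, he, h⟩ := h11 _ (Nat.mod_lt k (by decide))
    · exact (ne_one hω h2 (by decide) hs (by simpa [h] using hk.symm)).elim
    rw [h, ← pow_eq_pow_mod _ h1, pow_mul, ← h10, conj_pow] at hk
    have h12 : ((n ^ j)⁻¹ * g) * s * ((n ^ j)⁻¹ * g)⁻¹ = s ^ e := by
      rw [_root_.mul_inv_rev, mul_assoc, mul_assoc, ← mul_assoc s, ← mul_assoc g, ← mul_assoc g, ← hk]; group
    rw [← mul_inv_cancel_left (n ^ j) g]
    refine mul_mem (pow_mem (mem_norm (j := 7) (Units.ext ?_)) j) (mem_norm (j := 1) (Units.ext ?_))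
    · simpa only [hmu hω, f_pw hω, ← hn, ← hz, Units.val_mul, Units.val_pow_eq_pow_val, coe_subtype]
        using congrArg (f ω) h6
    generalize (n ^ j)⁻¹ * g = c at h12
    simp only [List.mem_cons, List.not_mem_nil, or_false] at he
    rcases he with rfl | rfl
    · have : Commute c.1.1 z.1 := by
        rw [hz, h8]
        exact comm_hor hω (comm_HH hω (by
          rw [← hs]; exact congrArg (·.1.1) (mul_inv_eq_iff_eq_mul.1 (h12.trans (pow_one _))))) _
      simpa using this.eq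
    · have := congrArg (·.1.1.trace) h12
      simp only [coe_mul, coe_inv, Units.val_mul, trace_units_conj, hs, S_pow hω hs, toP, toQ, trace_add, trace_smul,
        trace_toM, h9, show Nat.mul 27 27 = 729 from rfl] at this
      simp [bit] at this
  · exact mem_norm (j := 1) (Units.ext (by simpa only [hmu hω, ← hx, ← hz, pow_one, Units.val_mul, coe_subtype] using congrArg (f ω) h7))
  · exact congrArg Subtype.val (comm_zpowers ((mem_normalizer_iff.1 e s).1 (mem_zpowers s)))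
  · exact comm_zpowers ((mem_normalizer_iff.1 e z).1 (mem_zpowers z))

theorem main (h3 : ∀ c : K, c ≠ 0 → c ^ 3 = 1) {p : ℕ} (hp : p.Prime) (h5 : 5 < p)
    (hb : ∀ A : Subgroup (twistedE6 K 2), IsPGroup p A → Nat.card A ∣ 7 ^ 2 * 11 * 13 * 17 * 19)
    {P : Subgroup (twistedE6 K 2)} (hP : IsPGroup p P) (hP1 : P ≠ ⊥) :
    ¬IsCoatom (normalizer (P : Set (twistedE6 K 2))) := by
  have key : ∀ e, ¬p ^ (e + 1) ∣ 7 ^ 2 * 11 * 13 * 17 * 19 → Ok K p e →
      ¬IsCoatom (normalizer (P : Set (twistedE6 K 2))) := fun e h ⟨Q, h1, h2, h4⟩ =>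
    reduce (π K) π_surj (π_ker h3) hp (by omega) h1 (fun A hA => (card_le hp h hA (hb A hA)).trans h2) h4 hP hP1
  by_cases h : p ∣ 7 ^ 2 * 11 * 13 * 17 * 19
  · simp only [hp.dvd_mul, hp.prime.dvd_pow_iff_dvd two_ne_zero] at h
    rcases h with (((h | h) | h) | h) | h <;> obtain rfl := (Nat.prime_dvd_prime_iff_eq hp (by decide)).1 h
    exacts [key 2 (by decide) (ok_7 hω), key 1 (by decide) (ok_fix hω hp chk_11 (by decide) (by decide) (by decide)),
      key 1 (by decide) (ok_fix hω hp chk_13 (by decide) (by decide) (by decide)),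
      key 1 (by decide) (ok_fix hω hp chk_17 (by decide) (by decide) (by decide)), key 1 (by decide) (ok_19 hω)]
  · exact (hP1 (eq_bot_of_card_le _ (card_le (e := 0) hp (by simpa using h) hP (hb P hP)))).elim

end Cfsg.Agent.H7.T2
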