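import Cfsg.Agent.H7.TWa
import Cfsg.Agent.H7.E6a
import Cfsg.Agent.H6.TorS
import Cfsg.Agent.Chv.E6Tw

/-!
The orders of the Sylow subgroups of `²E₆(2)` for the primes `p > 5`.
-/

set_option autoImplicit false
set_option linter.unusedSectionVars false

namespace Cfsg.Agent.H7.TW

open Bit Cert Chv Chv.E6 Matrix Subgroup

/-- a simple reflection -/
def sM (i : Fin 6) : Matrix (Fin 6) (Fin 6) ℤ := 1 - vecMulVec (Pi.single i 1) (R.cor i)

theorem sM_mulVec (i : Fin 6) (v : Lam 6) : sM i *ᵥ v = R.refl i v := by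
  rw [sM, sub_mulVec, one_mulVec, vecMulVec_mulVec, op_smul_eq_smul]; rfl

theorem sM_sq (i : Fin 6) : sM i * sM i = 1 :=
  ext_iff_mulVec.2 fun v => by rw [← mulVec_mulVec, sM_mulVec, sM_mulVec, R.refl_refl, one_mulVec]

/-- a simple reflection -/
def sU (i : Fin 6) : GL (Fin 6) ℤ := ⟨_, _, sM_sq i, sM_sq i⟩

/-- the Weyl group -/
def WG : Subgroup (GL (Fin 6) ℤ) := Subgroup.closure (Set.range sU)

/-- a word in the simple reflections -/
def wd (L : List (Fin 6)) : GL (Fin 6) ℤ := (L.map sU).prod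

theorem wd_mem (L : List (Fin 6)) : wd L ∈ WG := list_prod_mem fun _ h =>
  let ⟨i, _, e⟩ := List.mem_map.1 h; Subgroup.subset_closure ⟨i, e⟩

theorem exists_wd {m : GL (Fin 6) ℤ} (h : m ∈ WG) : ∃ L, m = wd L := by
  induction h using closure_induction'' with
  | mem _ h => obtain ⟨i, rfl⟩ := h; exact ⟨[i], by simp [wd]⟩
  | inv_mem _ h => obtain ⟨i, rfl⟩ := h; exact ⟨[i], (mul_one _).symm⟩
  | one => exact ⟨[], rfl⟩
  | mul _ _ _ _ ha hb => obtain ⟨L, rfl⟩ := ha; obtain ⟨L', rfl⟩ := hb; exact ⟨L ++ L', by simp [wd]⟩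

theorem wd_cons (i : Fin 6) (L : List (Fin 6)) (v : Lam 6) : (wd (i :: L)).1 *ᵥ v = R.refl i ((wd L).1 *ᵥ v) := by
  rw [← sM_mulVec, mulVec_mulVec]; rfl

theorem wd_rt (L : List (Fin 6)) (r : Fin 72) : (wd L).1 *ᵥ R.rt r = R.rt (L.foldr R.s r) := by
  induction L with
  | nil => exact one_mulVec _
  | cons i L ih => rw [wd_cons, ih, List.foldr_cons, R.rt_s']

theorem wd_apply (L : List (Fin 6)) (i j : Fin 6) : (wd L).1 i j = R.rt (L.foldr R.s (R.sim j)) i := by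
  rw [← wd_rt, RD.rt, R.rt_sim]; simp

theorem wd_three (L : List (Fin 6)) :
    ∃ z : Lam 6, (wd L).1 *ᵥ ![1, 0, 2, 0, 1, 2] = ![1, 0, 2, 0, 1, 2] + 3 • z := by
  induction L with
  | nil => exact ⟨0, by simp [wd]⟩
  | cons i L ih =>
    obtain ⟨z, hz⟩ := ih
    obtain ⟨k, hk⟩ := chk_three i
    refine ⟨R.refl i z - k • Pi.single i 1, ?_⟩
    rw [wd_cons, hz, map_add, map_nsmul, show R.refl i ![1, 0, 2, 0, 1, 2] =
      ![1, 0, 2, 0, 1, 2] - (3 * k) • Pi.single i 1 by rw [← hk]; rfl]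
    module

/-- reduction modulo two -/
abbrev red : GL (Fin 6) ℤ →* GL (Fin 6) (ZMod 2) := GeneralLinearGroup.map (Int.castRingHom _)

theorem red_inj {m : GL (Fin 6) ℤ} (h : m ∈ WG) (h1 : red m = 1) : m = 1 := by
  obtain ⟨L, rfl⟩ := exists_wd h
  have h2 : ∀ j, ∃ c : ℤ, (c = 1 ∨ c = -1) ∧ ∀ i, (wd L).1 i j = if i = j then c else 0 := fun j => by
    rcases chk_two (L.foldr R.s (R.sim j)) j fun i => by
      rw [← wd_apply]; exact (congrArg (fun x : GL (Fin 6) (ZMod 2) => x.1 i j) h1).trans (one_apply ..) with e | e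
    · exact ⟨1, .inl rfl, fun i => by rw [wd_apply, e, RD.rt, R.rt_sim, Pi.single_apply]⟩
    · exact ⟨-1, .inr rfl, fun i => by
        rw [wd_apply, e, RD.rt, R.rt_neg, R.rt_sim, Pi.neg_apply, Pi.single_apply, neg_ite, neg_zero]⟩
  choose c h2 h3 using h2
  have h4 : ∀ v i, ((wd L).1 *ᵥ v) i = c i * v i := fun v i => by simp [mulVec, dotProduct, h3]
  have h5 : ∀ p ∈ [((0 : Fin 6), (2 : Fin 6)), (2, 3), (1, 3), (3, 4), (4, 5)], c p.1 = c p.2 := fun p hp => by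
    have : p.1 ≠ p.2 := by revert p; decide
    obtain ⟨r, hr⟩ := chk_adj p hp
    have h6 := h4 (R.rt r) p.1
    have h7 := h4 (R.rt r) p.2
    rw [wd_rt, hr] at h6 h7
    simp only [this, this.symm, if_true, if_false, add_zero, zero_add, mul_one] at h6 h7
    rcases R.sign (L.foldr R.s r) with h | h <;> have h8 := h p.1 <;> have h9 := h p.2 <;>
      simp only [h6, h7, Pi.zero_apply] at h8 h9 <;> have := h2 p.1 <;> have := h2 p.2 <;> omega
  obtain ⟨z, hz⟩ := wd_three L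
  have h6 := congrFun hz 0
  have h7 := h2 0
  simp only [List.forall_mem_cons] at h5
  simp [h4] at h6
  refine Units.ext (Matrix.ext fun i j => (h3 j i).trans ?_)
  rw [show c j = 1 by fin_cases j <;> simp <;> omega]; rfl

/-- the matrix with a given code -/
abbrev f : ℕ → Matrix (Fin 6) (Fin 6) (ZMod 2) := toM (ZMod 2) (Equiv.refl _) (Equiv.refl _)

theorem hmu (a b : ℕ) : f (mu a b) = f a * f b := toM_mul ..

theorem f0 : f (X 0) = 1 := by rw [chk_gen.1]; exact toM_one _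

theorem red_sU (i : Fin 6) : (red (sU i)).1 = f (X (i + 1)) := by
  ext a b
  refine .trans ?_ (chk_gen.2.2 i a b).symm
  simp [sU, sM, one_apply, vecMulVec_apply, Pi.single_apply]

theorem red_gen {j : ℕ} (h : j ∈ [1, 2, 3, 4, 5, 6]) : In (WG.map red) (f (X j)) := by
  obtain ⟨i, rfl⟩ : ∃ i : Fin 6, j = i + 1 := by revert j; decide
  exact ⟨_, ⟨_, Subgroup.subset_closure ⟨i, rfl⟩, rfl⟩, red_sU i⟩

theorem map_red : WG.map red = gen f X [1, 2, 3, 4, 5, 6] := by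
  refine le_antisymm (map_le_iff_le_comap.2 ((closure_le _).2 ?_)) (gen_le fun _ => red_gen)
  rintro _ ⟨i, rfl⟩
  exact Subgroup.subset_closure ⟨i + 1, by revert i; decide, red_sU i⟩

theorem allIn_rep {M : Type*} [Monoid M] {f : ℕ → M} {X : ℕ → ℕ} {mu : ℕ → ℕ → ℕ}
    (hmu : ∀ a b, f (mu a b) = f a * f b) {S : Subgroup Mˣ} {k k' s N : ℕ} {rs : List ℕ} {W : ℕ → ℕ}
    (h : AllIn f X S k) (h' : AllIn f X S k') (hr : ∀ r ∈ rs, In S (f (X r))) (hc : repChk mu X k rs s N W = true) :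
    AllIn f X S (ext k' s N) := fun j hj => by
  simp only [Cert.ext, Nat.lor_eq, Nat.testBit_or, Nat.shiftLeft_eq', Nat.testBit_shiftLeft, Nat.pow_eq,
    Nat.pred_eq_sub_one, Nat.testBit_two_pow_sub_one, Bool.or_eq_true, Bool.and_eq_true, decide_eq_true_eq] at hj
  refine hj.elim (h' j) fun hj => ?_
  simp only [repChk, Bool.and_eq_true] at hc
  have := all_spec hc.2 _ hj.2
  simp only [Bool.and_eq_true, Nat.beq_eq, List.any_eq_true, Nat.add_eq, Nat.add_sub_cancel' hj.1] at this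
  obtain ⟨⟨⟨r, hr', rfl⟩, h3⟩, h4⟩ := this
  exact h4 ▸ hmu .. ▸ (ev_in hmu h h3).mul (hr _ hr')

theorem conj_cls {m : GL (Fin 6) ℤ} (hm : m ∈ WG) : ∃ y ∈ WG, ∃ c ∈ cls, m * y = y * wd c.1 := by
  have h0 : AllIn f X (gen f X [2, 3, 4, 5, 6]) kH := (allIn_gen f0 fun j hj =>
    let ⟨g, _, e⟩ := red_gen (List.mem_cons_of_mem _ hj); e ▸ g.isUnit).slp hmu chk_H
  have h1 : gen f X [2, 3, 4, 5, 6] ≤ WG.map red := gen_le fun j hj => red_gen (List.mem_cons_of_mem _ hj)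
  have h2 : ∀ r ∈ [0, 1, 1954], In (WG.map red) (f (X r)) := by
    simp only [List.forall_mem_cons]
    exact ⟨⟨1, one_mem _, f0.symm⟩, red_gen (by decide), word_in hmu (allIn_mask f0 fun _ => red_gen) chk_d, by simp⟩
  have h3 := allIn_rep hmu (h0.mono h1) ((h0.mono h1).or (allIn_mask f0 h2)) h2 chk_rep
  rw [show ext _ _ _ = Nat.pred (Nat.pow 2 1955) by decide +kernel] at h3
  obtain ⟨d, hd, a, ha, b, hb, e⟩ := cover hmu f0 h0 (by decide) chk_rep (fun g hg => ⟨_, chk_tab g hg⟩)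
    (map_red.le ⟨m, hm, rfl⟩)
  obtain ⟨i, hi, e'⟩ := gen_ind (P := fun x => ∃ i < 1920, x = f (X (7 + i))) ⟨0, by decide, by rw [chk_gen.2.1, f0]⟩
    (fun g hg x ⟨i, hi, e⟩ => by
      have := all_spec (chk_enum g hg) i hi
      simp only [Bool.and_eq_true, Nat.beq_eq, Nat.blt_eq] at this
      exact ⟨_, this.1, by rw [e, ← hmu]; exact congrArg f this.2⟩) (mul_mem hb ha)
  obtain ⟨T, hT⟩ : ∃ T, conjChk d T = true := by
    simp only [List.mem_cons, List.not_mem_nil, or_false] at hd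
    rcases hd with rfl | rfl | rfl
    exacts [⟨_, chk_conj0⟩, ⟨_, chk_conj1⟩, ⟨_, chk_conj2⟩]
  have := all_spec hT i hi
  simp only [Bool.and_eq_true, Nat.beq_eq, Nat.blt_eq, Nat.add_eq] at this
  obtain ⟨_, ⟨y, hy, rfl⟩, h4⟩ := ev_in hmu h3 this.1.2
  obtain ⟨c, hc, h5⟩ := chk_cls _ this.1.1
  obtain ⟨a', ha', rfl⟩ := h1 ha
  have h6 : (red (wd c.1)).1 = f (evalW 6 X (c.1.map fun i : Fin 6 => i.1 + 1)) := by
    rw [f, toM_evalW, wd, map_list_prod, ← Units.coeHom_apply, map_list_prod]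
    simp only [List.map_map, Function.comp_def, Units.coeHom_apply, red_sU]
  have h7 := congrArg f this.2
  rw [hmu, hmu, hmu, h5, ← h6, ← h4, ← e'] at h7
  refine ⟨a' * y, mul_mem ha' hy, c, hc, mul_inv_eq_one.1 (red_inj (mul_mem (mul_mem hm (mul_mem ha' hy))
    (inv_mem (mul_mem (mul_mem ha' hy) (wd_mem _)))) ?_)⟩
  rw [map_mul, map_inv, mul_inv_eq_one]
  exact Units.ext (by simpa only [map_mul, Units.val_mul, e, mul_assoc] using congrArg ((red a').1 * ·) h7)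

variable {K : Type*} [Field K]

theorem card_range [Finite K] {A : Type*} [Group A] (φ : A →* Kˣ) {d : ℕ} (h : ∀ a, φ a ^ d = 1) :
    Nat.card φ.range ∣ d :=
  IsCyclic.exponent_eq_card (α := φ.range) ▸ Monoid.exponent_dvd_of_forall_pow_eq_one fun ⟨_, a, e⟩ =>
    Subtype.ext (e ▸ h a)

theorem card_dvd [Finite K] {p : ℕ} (hp : p.Prime) (h5 : 5 < p) {A : Subgroup (Chr 6 K)} (hA : IsPGroup p A)
    {m : GL (Fin 6) ℤ} (hm : m ∈ WG) (h : ∀ χ ∈ A, ∀ v, ev χ (v + 2 • m.1 *ᵥ v) = 1) :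
    Nat.card A ∣ 7 ^ 2 * 11 * 13 * 17 * 19 := by
  obtain ⟨y, -, ⟨L, d1, d2, N, T⟩, hc, e⟩ := conj_cls hm
  obtain ⟨h1, h2, h3, h4, h6, h7⟩ := chk_int _ hc
  simp only [← wd_apply] at h3
  simp only [← h3] at h1 h2 h4 h6 h7 e
  let φ (v : Lam 6) : A →* Kˣ := MonoidHom.mk' (fun χ => ev χ.1 (y.1 *ᵥ v)) fun _ _ => rfl
  have h8 : ∀ v χ, φ (v + 2 • (wd L).1 *ᵥ v) χ = 1 := fun v χ => by
    rw [← h χ χ.2 (y.1 *ᵥ v), mulVec_mulVec, ← Units.val_mul, e, Units.val_mul, ← mulVec_mulVec, ← mulVec_smul y.1,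
      ← mulVec_add]
    rfl
  have h9 : ∀ (d s s' : ℕ), (∀ i : Fin 6, ent T (s' + i) + 2 * ∑ j : Fin 6, (wd L).1 i j * ent T (s' + j) =
      d * ent T (s + i)) → Nat.card (φ fun i => ent T (s + i)).range ∣ d := fun d s s' hd =>
    card_range _ fun χ => by
      rw [← h8 (fun i => ent T (s' + i)) χ]
      change ev _ _ ^ _ = ev _ _
      rw [← ev_nsmul, ← mulVec_smul]
      exact congrArg (ev _ <| _ *ᵥ ·) (funext fun i => by simpa [mulVec, dotProduct] using (hd i).symm)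
  refine (card_dvd_of_injective ((φ fun i => ent T (72 + i)).rangeRestrict.prod
    (φ fun i => ent T (78 + i)).rangeRestrict) ((injective_iff_map_eq_one _).2 fun χ hχ => ?_)).trans
    (Nat.card_prod _ _ ▸ (mul_dvd_mul (h9 _ _ _ h4) (h9 _ _ _ h6)).trans h1)
  have h10 : ev χ.1 (y.1 *ᵥ fun i => ent T (72 + i)) = 1 := congrArg (·.1.1) hχ
  have h11 : ev χ.1 (y.1 *ᵥ fun i => ent T (78 + i)) = 1 := congrArg (·.2.1) hχ
  have h12 : cmp (χ.1 ^ N) y.1.mulVecLin.toAddMonoidHom = 1 := chr_ext fun k => by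
    change ev χ.1 (y.1 *ᵥ Pi.single k 1) ^ N = 1
    rw [← ev_nsmul, ← mulVec_smul, show N • (Pi.single k 1 : Lam 6) = ent T (96 + k) • (fun i : Fin 6 => ent T (72 + i)) +
      ent T (102 + k) • (fun i : Fin 6 => ent T (78 + i)) + ((fun i : Fin 6 => ent T (36 + 6 * i + k)) +
        2 • (wd L).1 *ᵥ fun i : Fin 6 => ent T (36 + 6 * i + k)) from funext fun i => by
          simpa [mulVec, dotProduct, Pi.single_apply] using h7 k i,
      mulVec_add, mulVec_add, ev_add, ev_add, mulVec_smul, mulVec_smul, ev_zsmul, ev_zsmul, h10, h11,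
      _root_.one_zpow, _root_.one_zpow, one_mul, one_mul]
    exact h8 _ χ
  have h13 : χ ^ N = 1 := Subtype.ext (chr_ext fun k => by
    have : ev (χ.1 ^ N) (y.1 *ᵥ (y⁻¹).1 *ᵥ Pi.single k 1) = 1 := congrArg (ev · ((y⁻¹).1 *ᵥ Pi.single k 1)) h12
    rwa [mulVec_mulVec, Units.mul_inv, one_mulVec] at this)
  obtain ⟨k, hk⟩ := hA χ
  have := pow_gcd_eq_one.2 ⟨h13, hk⟩
  rwa [(Nat.Coprime.coprime_dvd_left h2 (.pow 4 k (.mul_left (m := 3) (n := 5)
    ((Nat.coprime_primes (by decide) hp).2 (by omega)) ((Nat.coprime_primes (by decide) hp).2 (by omega))))),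
    pow_one] at this

theorem exists_W {S : Sys R K} {n : GL Lie.chevE6.Idx K} (hn : n ∈ S.N0) {w π} (h : S.Act n w π) :
    ∃ m ∈ WG, ∀ v, w v = m.1 *ᵥ v := by
  obtain ⟨L, rfl⟩ := Sys.exists_wd hn
  refine ⟨wd L, wd_mem L, ?_⟩
  clear hn
  induction L generalizing w π with
  | nil =>
    obtain rfl := h.perm_eq S.act_one
    rw [h.w_eq S.act_one]
    exact fun v => (one_mulVec v).symm
  | cons i L ih =>
    obtain ⟨w', π', h'⟩ := Sys.act_wd (S := S) L
    have h2 := (S.act_n i).mul h'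
    obtain rfl := h.perm_eq h2
    intro v
    rw [h.w_eq h2, wd_cons, ← ih h']; rfl

theorem map_sp {K' ι : Type*} [Field K'] {N : ℕ} (e : Enc ι N) (φ : K →+* K') (L : List (ℕ × ℕ)) :
    (sp e K L).map φ = sp e K' L := by
  ext i j
  simp [sp, cnt, map_list_sum, Function.comp_def, apply_ite φ]

theorem map_x {K' : Type*} [Field K'] (h2 : (2 : K) = 0) (h2' : (2 : K') = 0) (φ : K →+* K') (r : Fin 72) (t : K) :
    (Lie.chevE6.xMat K r t).map φ = Lie.chevE6.xMat K' r (φ t) := by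
  rw [(good.x_spec h2 r).eq, (good.x_spec h2' r).eq]
  conv_rhs => rw [Good.A1, Good.A2, Good.A3, ← map_sp _ φ (E1 T r), ← map_sp _ φ (E2 T r), ← map_sp _ φ (E3 T r)]
  ext i j
  simp [Matrix.one_apply, apply_ite φ]

theorem bound [Fintype K] (hK : Fintype.card K = 4) {p : ℕ} (hp : p.Prime) (h5 : 5 < p)
    {A : Subgroup (Lie.twistedE6 K 2)} (hA : IsPGroup p A) : Nat.card A ∣ 7 ^ 2 * 11 * 13 * 17 * 19 := by
  have : CharP K 2 := charP_of_card_eq_prime_pow (p := 2) (f := 2) hK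
  have : NeZero (p : K) := ⟨fun e => by
    have := (Nat.prime_dvd_prime_iff_eq Nat.prime_two hp).1 ((CharP.cast_eq_zero_iff K 2 p).1 e); omega⟩
  have : NeZero p := ⟨hp.ne_zero⟩
  let F := CyclotomicField p K
  have : Finite F := have := IsCyclotomicExtension.finite {p} K F; Module.finite_of_finite K
  have : CharP F 2 := charP_of_injective_algebraMap (algebraMap K F).injective 2
  have h2 : (2 : K) = 0 := CharTwo.two_eq_zero
  have h2' : (2 : F) = 0 := CharTwo.two_eq_zero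
  let ι : GL Lie.chevE6.Idx K →* GL Lie.chevE6.Idx F := GeneralLinearGroup.map (algebraMap K F)
  have hι : Function.Injective ι := fun a b hab =>
    Units.ext (Matrix.map_injective (algebraMap K F).injective (congrArg Units.val hab))
  let T := Chv.E6.X h2' (frobenius F 2)
  have h1 : ∀ g ∈ Lie.twistedE6 K 2, ι g ∈ (S F h2').Γ := fun g hg =>
    Sys.G_le_Γ (H7.E6.gen_le (H := (S F h2').G.comap ι) (fun w _ => by
      refine list_prod_mem fun u hu => ?_
      obtain ⟨⟨r, t⟩, -, rfl⟩ := List.mem_map.1 hu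
      by_cases hr : r < 72
      · refine mem_comap.2 ?_
        convert Sys.x_mem_G (S := S F h2') ⟨r, hr⟩ (algebraMap K F t) using 1
        exact Units.ext ((congrArg (Matrix.map · _) (dif_pos hr)).trans (map_x h2 h2' _ ⟨r, hr⟩ t))
      · convert one_mem ((S F h2').G.comap ι) using 1
        exact Units.ext (dif_neg hr)) hg)
  have h3 : ∀ g ∈ Lie.twistedE6 K 2, T.Rel (ι g) (ι g) := fun g hg => by
    have := congrArg (Matrix.map · (algebraMap K F)) ((Chv.E6.gen h2 (frobenius K 2) (fun _ => rfl) fun t => by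
      simpa [frobenius_def, ← pow_mul, hK] using FiniteField.pow_card t).le_F hg).2
    simp only [Matrix.map_mul] at this
    rw [show (Chv.E6.X h2 (frobenius K 2)).M.map (algebraMap K F) = T.M from map_sp ..] at this
    refine this.trans (congrArg _ (Matrix.ext fun i j => ?_))
    exact map_pow (algebraMap K F) _ 2
  obtain ⟨ζ, hζ⟩ := IsCyclotomicExtension.exists_isPrimitiveRoot K F (S := {p}) rfl hp.ne_zero
  have h7 : 7 ≤ p := by
    by_contra h
    obtain rfl : p = 6 := by omega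
    exact absurd hp (by decide)
  have key : ∀ z : ℤ, -6 ≤ z → z ≤ 6 → (p : ℤ) ∣ z → z = 0 := fun z _ _ h =>
    Int.eq_zero_of_abs_lt_dvd h (abs_lt.2 ⟨by omega, by omega⟩)
  let Q := (A.map (Lie.twistedE6 K 2).subtype).map ι
  have hQ : ∀ a ∈ Q, ∃ g ∈ Lie.twistedE6 K 2, ι g = a := fun a ⟨g, ⟨x, _, e⟩, e'⟩ => ⟨g, e ▸ x.2, e'⟩
  obtain ⟨c, hc, h4⟩ := H6.TorS.torus_top (S := S F h2') (Q := Q) hp ⟨fun r => by
      by_contra! h
      exact R.rt_ne r (funext fun j => key (R.rt r j) (by have := chk_bd r j; omega) (by have := chk_bd r j; omega)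
        (h j)),
    fun r s hrs => by
      by_contra! h
      exact hrs (R.ext (funext fun j => sub_eq_zero.1 (key _ (by have := chk_bd r j; have := chk_bd s j; omega)
        (by have := chk_bd r j; have := chk_bd s j; omega) (h j))))⟩
    (IsPrimitiveRoot.coe_units_iff.1 (show IsPrimitiveRoot (hζ.isUnit hp.ne_zero).unit.1 p from hζ))
    (by rcases h7.eq_or_lt with rfl | h; exacts [.inr (by decide), .inl h])
    (fun a ha => let ⟨g, hg, e⟩ := hQ a ha; e ▸ h1 g hg) ((hA.map _).map _)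
  obtain ⟨c', hc', h6⟩ : ∃ c' ∈ (S F h2').Γ, T.Rel c c' := by
    obtain ⟨a, ha, g, hg, rfl⟩ := mem_sup_prod (fun _ ha _ hg => Sys.G_normal (Sys.H_le_Γ ha) hg) hc
    obtain ⟨a', h1, h2⟩ := (Tw.stab_H (T := T)).2 a ha
    obtain ⟨g', h3, h4⟩ := (Tw.stab_XS (T := T) (A := Set.univ) fun _ _ => trivial).2 g hg
    exact ⟨_, mul_mem (Sys.H_le_Γ h1) (Sys.G_le_Γ h3), h2.mul h4⟩
  obtain ⟨n, hn, w, π, h8, h9⟩ := H6.TorS.fusion (mul_mem hc' (inv_mem hc))
  obtain ⟨m, hm, h10⟩ := exists_W hn h8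
  let Q' := Q.map (MulAut.conj c).toMonoidHom
  have h11 : (Q'.comap R.h).map R.h = Q' := map_comap_eq_self fun _ ⟨y, hy, e⟩ =>
    let ⟨χ, _, e'⟩ := H6.TorS.mem_HP.1 (h4 y hy); ⟨χ, e'.trans e⟩
  rw [← card_map_of_injective (subtype_injective _), ← card_map_of_injective hι,
    ← card_map_of_injective (f := (MulAut.conj c).toMonoidHom) (MulAut.conj c).injective]
  change Nat.card Q' ∣ _
  rw [← h11, card_map_of_injective R.h_inj]
  refine card_dvd hp h5 ((((hA.map _).map _).map _).comap_of_injective _ R.h_inj) (mul_mem (wd_mem w0) hm) ?_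
  rintro χ ⟨a, ha, e⟩ v
  obtain ⟨g, hg, rfl⟩ := hQ a ha
  let θ : Lam 6 →+ Lam 6 := (-(wd w0).1).mulVecLin.toAddMonoidHom
  have h12 : T.Rel (R.h χ) (R.h (cmp (χ ^ 2) θ)) := by
    ext a b
    rw [R.h_val, R.h_val, diagonal_map (map_zero _), diagonal_mul, mul_diagonal, mul_comm]
    by_cases e : T.M a b = 0
    · simp [e]
    · congr 1
      have : θ (R.wt a) = R.wt b := funext fun i => by
        rw [← show _ = R.wt b i from T.hM a b e i, Chv.E6.X_d]
        have : ∀ i : Fin 6, T.p i = (![5, 1, 4, 3, 2, 0] i : Fin 6) := fun i => Fin.ext (by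
          change Chv.col 8 Chv.E6.W.pp i = _; revert i; decide +kernel)
        simp [θ, mulVec, dotProduct, wd_apply, chk_w0, this]
        rfl
      rw [← this]; rfl
  replace e : c * ι g * c⁻¹ = R.h χ := e
  have h13 := h9 χ (cmp (χ ^ 2) θ) (by
    rw [h12.uniq (e ▸ (h6.mul (h3 g hg)).mul h6.inv) (Sys.H_le_Γ (Sys.h_mem _))
      (mul_mem (mul_mem hc' (h1 g hg)) (inv_mem hc')), ← e]
    group)
  have h14 : ev χ ((-(wd w0).1) *ᵥ w v) ^ 2 = ev χ v := congrArg (ev · v) h13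
  rw [ev_add, ev_nsmul, ← h14, h10, neg_mulVec, ev_neg, mulVec_mulVec, Units.val_mul, inv_pow, inv_mul_cancel]

end Cfsg.Agent.H7.TW
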