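import Cfsg.Agent.H7.Ortho

/-!
Abstract tensor decompositions `V = A ⊗ B` given by a bilinear map.
-/

set_option autoImplicit false
set_option linter.unusedSectionVars false

namespace Cfsg.Agent.H7

open Module Cfsg.Agent.Form
open scoped Matrix MatrixGroups Kronecker TensorProduct

section abstract
variable {F : Type*} [Field F] {V : Type*} [AddCommGroup V] [Module F V]
  {A : Type*} [AddCommGroup A] [Module F A] {B : Type*} [AddCommGroup B] [Module F B]

/-- The bilinear map `τ` identifies `A ⊗ B` with `V`. -/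
def IsTens (τ : A →ₗ[F] B →ₗ[F] V) : Prop := Function.Bijective (TensorProduct.lift τ)

namespace IsTens
variable {τ : A →ₗ[F] B →ₗ[F] V}

/-- The isomorphism `A ⊗ B ≃ V`. -/
noncomputable def equiv (h : IsTens τ) : (A ⊗[F] B) ≃ₗ[F] V := LinearEquiv.ofBijective _ h

@[simp] theorem equiv_tmul (h : IsTens τ) (a : A) (b : B) : h.equiv (a ⊗ₜ b) = τ a b :=
  TensorProduct.lift.tmul a b

@[simp] theorem equiv_symm_apply (h : IsTens τ) (a : A) (b : B) : h.equiv.symm (τ a b) = a ⊗ₜ b := by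
  rw [LinearEquiv.symm_apply_eq, equiv_tmul]

theorem of_equiv (e : (A ⊗[F] B) ≃ₗ[F] V) (he : ∀ a b, e (a ⊗ₜ b) = τ a b) : IsTens τ := by
  have : TensorProduct.lift τ = (e : (A ⊗[F] B) →ₗ[F] V) := TensorProduct.ext' fun a b => by simp [he]
  rw [IsTens, this]; exact e.bijective

theorem flip (h : IsTens τ) : IsTens τ.flip :=
  of_equiv ((TensorProduct.comm F B A).trans h.equiv) fun a b => by simp

theorem map {V' : Type*} [AddCommGroup V'] [Module F V'] (h : IsTens τ) (Ψ : V ≃ₗ[F] V') :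
    IsTens (τ.compr₂ (Ψ : V →ₗ[F] V')) :=
  of_equiv (h.equiv.trans Ψ) fun a b => by simp

@[elab_as_elim]
theorem induction (h : IsTens τ) {p : V → Prop} (x : V) (h0 : p 0) (h1 : ∀ a b, p (τ a b))
    (h2 : ∀ x y, p x → p y → p (x + y)) : p x := by
  obtain ⟨x, rfl⟩ := h.equiv.surjective x
  induction x using TensorProduct.induction_on with
  | zero => simpa using h0
  | tmul a b => simpa using h1 a b
  | add x y hx hy => rw [map_add]; exact h2 _ _ hx hy

theorem ext (h : IsTens τ) {W : Type*} [AddCommGroup W] [Module F W] {f g : V →ₗ[F] W}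
    (hfg : ∀ a b, f (τ a b) = g (τ a b)) : f = g := by
  ext x
  refine h.induction x (by simp) hfg (fun x y hx hy => by simp [hx, hy])

/-- The linear map induced by a bilinear map. -/
noncomputable def lift (h : IsTens τ) {W : Type*} [AddCommGroup W] [Module F W] (f : A →ₗ[F] B →ₗ[F] W) :
    V →ₗ[F] W := TensorProduct.lift f ∘ₗ (h.equiv.symm : V →ₗ[F] A ⊗[F] B)

@[simp] theorem lift_apply (h : IsTens τ) {W : Type*} [AddCommGroup W] [Module F W]
    (f : A →ₗ[F] B →ₗ[F] W) (a : A) (b : B) : h.lift f (τ a b) = f a b := by simp [lift]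

/-- Contraction with a functional on the second factor. -/
noncomputable def ctr (h : IsTens τ) (ψ : Dual F B) : V →ₗ[F] A :=
  h.lift (LinearMap.mk₂ F (fun a b => ψ b • a) (fun _ _ _ => by simp) (fun _ _ _ => by rw [smul_comm])
    (fun _ _ _ => by simp [add_smul]) (fun _ _ _ => by simp [mul_smul]))

@[simp] theorem ctr_apply (h : IsTens τ) (ψ : Dual F B) (a : A) (b : B) : h.ctr ψ (τ a b) = ψ b • a := by
  simp [ctr]

/-- The tensor product of two endomorphisms. -/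
noncomputable def tmap (h : IsTens τ) (f : A →ₗ[F] A) (g : B →ₗ[F] B) : V →ₗ[F] V :=
  h.lift (τ.compl₁₂ f g)

@[simp] theorem tmap_apply (h : IsTens τ) (f : A →ₗ[F] A) (g : B →ₗ[F] B) (a : A) (b : B) :
    h.tmap f g (τ a b) = τ (f a) (g b) := by simp [tmap]

/-- The tensor product of two automorphisms. -/
noncomputable def tcongr (h : IsTens τ) (f : A ≃ₗ[F] A) (g : B ≃ₗ[F] B) : V ≃ₗ[F] V :=
  conjLE h.equiv (TensorProduct.congr f g)

@[simp] theorem tcongr_apply (h : IsTens τ) (f : A ≃ₗ[F] A) (g : B ≃ₗ[F] B) (a : A) (b : B) :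
    h.tcongr f g (τ a b) = τ (f a) (g b) := by simp [tcongr]

theorem det_tcongr [FiniteDimensional F A] [FiniteDimensional F B] (h : IsTens τ) (f : A ≃ₗ[F] A)
    (g : B ≃ₗ[F] B) : LinearEquiv.det (h.tcongr f g) =
      LinearEquiv.det f ^ finrank F B * LinearEquiv.det g ^ finrank F A := by
  classical
  rw [tcongr, det_conjLE]
  apply Units.ext
  let a := Module.finBasis F A
  let b := Module.finBasis F B
  rw [LinearEquiv.coe_det, ← LinearMap.det_toMatrix (a.tensorProduct b)]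
  have : (TensorProduct.congr f g : A ⊗[F] B →ₗ[F] A ⊗[F] B) =
      TensorProduct.map (f : A →ₗ[F] A) (g : B →ₗ[F] B) := rfl
  rw [this, TensorProduct.toMatrix_map, Matrix.det_kronecker, LinearMap.det_toMatrix, LinearMap.det_toMatrix]
  simp [LinearEquiv.coe_det]

theorem finrank_eq [FiniteDimensional F A] [FiniteDimensional F B] (h : IsTens τ) :
    finrank F V = finrank F A * finrank F B := by
  rw [← h.equiv.finrank_eq, Module.finrank_tensorProduct]

theorem eq_zero (h : IsTens τ) {a : A} {b : B} (h0 : τ a b = 0) : a = 0 ∨ b = 0 := by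
  by_cases hb : b = 0
  · exact Or.inr hb
  obtain ⟨ψ, hψ, -⟩ := exists_dual_one (W := (⊥ : Submodule F B)) (x := b) (by simpa using hb)
  have := h.ctr_apply ψ a b
  rw [h0, map_zero, hψ, one_smul] at this
  exact Or.inl this.symm

theorem ne_zero (h : IsTens τ) {a : A} {b : B} (ha : a ≠ 0) (hb : b ≠ 0) : τ a b ≠ 0 :=
  fun h0 => (h.eq_zero h0).elim ha hb

theorem left_inj (h : IsTens τ) {b : B} (hb : b ≠ 0) : Function.Injective (τ.flip b) := by
  rw [injective_iff_map_eq_zero]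
  exact fun a ha => (h.eq_zero ha).resolve_right hb

theorem mem_span_of_eq (h : IsTens τ) {a a' : A} {b b' : B} (hb : b ≠ 0) (e : τ a b = τ a' b') :
    a ∈ F ∙ a' := by
  obtain ⟨ψ, hψ, -⟩ := exists_dual_one (W := (⊥ : Submodule F B)) (x := b) (by simpa using hb)
  have := congrArg (h.ctr ψ) e
  rw [ctr_apply, ctr_apply, hψ, one_smul] at this
  rw [this]; exact Submodule.smul_mem _ _ (Submodule.mem_span_singleton_self _)

theorem sum_basis (h : IsTens τ) {T : Type*} [Fintype T] (c : Basis T F B) (x : V) :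
    ∑ i, τ (h.ctr (c.coord i) x) (c i) = x := by
  refine h.induction x (by simp) (fun a b => ?_) (fun x y hx hy => ?_)
  · conv_rhs => rw [← c.sum_repr b, map_sum]
    simp
  · simp [Finset.sum_add_distrib, hx, hy]

theorem eq_zero_of_ctr [FiniteDimensional F B] (h : IsTens τ) {x : V} (hx : ∀ ψ, h.ctr ψ x = 0) : x = 0 := by
  rw [← h.sum_basis (Module.finBasis F B) x]; simp [hx]

theorem projs (h : IsTens τ) {T : Type*} [Fintype T] (c : Basis T F B) :
    Projs (fun i => LinearMap.range (τ.flip (c i))) (fun i => τ.flip (c i) ∘ₗ h.ctr (c.coord i)) where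
  mem i x := ⟨_, rfl⟩
  self i := by rintro _ ⟨a, rfl⟩; simp
  ne i j hij := by rintro _ ⟨a, rfl⟩; simp [Finsupp.single_eq_of_ne hij]
  sum x := h.sum_basis c x

end IsTens

/-- The stabiliser of the tensor decomposition. -/
def TStab (τ : A →ₗ[F] B →ₗ[F] V) : Subgroup (V ≃ₗ[F] V) where
  carrier := {g | ∃ (a : A ≃ₗ[F] A) (b : B ≃ₗ[F] B), ∀ u w, g (τ u w) = τ (a u) (b w)}
  one_mem' := ⟨1, 1, fun _ _ => rfl⟩
  mul_mem' := by
    rintro g k ⟨a, b, h⟩ ⟨a', b', h'⟩
    exact ⟨a * a', b * b', fun u w => by simp [h, h']⟩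
  inv_mem' := by
    rintro g ⟨a, b, h⟩
    refine ⟨a⁻¹, b⁻¹, fun u w => ?_⟩
    apply g.injective
    rw [h]; simp

theorem mem_TStab {τ : A →ₗ[F] B →ₗ[F] V} {g : V ≃ₗ[F] V} :
    g ∈ TStab τ ↔ ∃ (a : A ≃ₗ[F] A) (b : B ≃ₗ[F] B), ∀ u w, g (τ u w) = τ (a u) (b w) := Iff.rfl

theorem TStab_flip (τ : A →ₗ[F] B →ₗ[F] V) : TStab τ.flip = TStab τ := by
  ext g
  exact ⟨fun ⟨a, b, h⟩ => ⟨b, a, fun u w => h w u⟩, fun ⟨a, b, h⟩ => ⟨b, a, fun u w => h w u⟩⟩

theorem scalar_of_forall_mem_span (f : A →ₗ[F] A) (hf : ∀ v, f v ∈ F ∙ v) : ∃ c : F, ∀ v, f v = c • v := by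
  by_cases h : ∃ v : A, v ≠ 0
  · obtain ⟨v0, h0⟩ := h
    obtain ⟨c, hc⟩ := Submodule.mem_span_singleton.1 (hf v0)
    refine ⟨c, fun w => ?_⟩
    by_cases hw : w ∈ F ∙ v0
    · obtain ⟨a, rfl⟩ := Submodule.mem_span_singleton.1 hw
      rw [map_smul, ← hc, smul_comm]
    obtain ⟨μ, hμ⟩ := Submodule.mem_span_singleton.1 (hf w)
    obtain ⟨ν, hν⟩ := Submodule.mem_span_singleton.1 (hf (v0 + w))
    rw [map_add, ← hc, ← hμ] at hν
    obtain ⟨φ, h1, h2⟩ := exists_dual_one hw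
    have h3 := h2 v0 (Submodule.mem_span_singleton_self _)
    have h4 := congrArg φ hν
    simp only [map_add, map_smul, h1, h3, smul_eq_mul] at h4
    have h5 : ν = μ := by linear_combination h4
    subst h5
    have h6 : (ν - c) • v0 = 0 := by
      rw [← sub_eq_zero] at hν; rw [← hν]; module
    rw [← hμ, sub_eq_zero.1 ((smul_eq_zero.1 h6).resolve_right h0)]
  · push Not at h
    exact ⟨0, fun v => by rw [h (f v), zero_smul]⟩

/-- A non-trivial map fixing a hyperplane pointwise does not preserve a tensor decomposition. -/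
theorem IsTens.not_mem_TStab [FiniteDimensional F A] [FiniteDimensional F B] {τ : A →ₗ[F] B →ₗ[F] V}
    (h : IsTens τ) (hA : 2 ≤ finrank F A) (hB : 2 ≤ finrank F B) {φ : Dual F V} {v : V} (hφ : φ ≠ 0)
    (hv : v ≠ 0) {g : V ≃ₗ[F] V} (e : ∀ z, g z = z + φ z • v) : g ∉ TStab τ := by
  rintro ⟨a, b, hab⟩
  have h1 : ∀ u, a u ∈ F ∙ u := by
    intro u
    obtain ⟨w, hw, hw0⟩ := exists_ne_zero_of_finrank_pos (A := ⊤ ⊓ LinearMap.ker (φ ∘ₗ τ u)) (by
      have := finrank_le_finrank_inf_ker ⊤ (φ ∘ₗ τ u); rw [finrank_top] at this; omega)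
    have h2 : φ (τ u w) = 0 := hw.2
    have h3 := hab u w
    rw [e, h2, zero_smul, add_zero] at h3
    exact h.mem_span_of_eq (by simpa using hw0) h3.symm
  have h2 : ∀ w, b w ∈ F ∙ w := by
    intro w
    obtain ⟨u, hu, hu0⟩ := exists_ne_zero_of_finrank_pos (A := ⊤ ⊓ LinearMap.ker (φ ∘ₗ τ.flip w)) (by
      have := finrank_le_finrank_inf_ker ⊤ (φ ∘ₗ τ.flip w); rw [finrank_top] at this; omega)
    have h2 : φ (τ u w) = 0 := hu.2
    have h3 := hab u w
    rw [e, h2, zero_smul, add_zero] at h3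
    exact h.flip.mem_span_of_eq (by simpa using hu0) h3.symm
  obtain ⟨c, hc⟩ := scalar_of_forall_mem_span (a : A →ₗ[F] A) h1
  obtain ⟨d, hd⟩ := scalar_of_forall_mem_span (b : B →ₗ[F] B) h2
  have h3 : (g : V →ₗ[F] V) = (c * d) • LinearMap.id := h.ext fun u w => by
    simp only [LinearEquiv.coe_coe] at hc hd
    simp [hab, hc, hd, smul_smul, mul_comm]
  have : FiniteDimensional F V := h.equiv.finiteDimensional
  obtain ⟨z, hz, hz0⟩ := exists_ne_zero_of_finrank_pos (A := ⊤ ⊓ LinearMap.ker φ) (by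
    have := finrank_le_finrank_inf_ker ⊤ φ
    rw [finrank_top, h.finrank_eq] at this; nlinarith)
  have h4 := LinearMap.congr_fun h3 z
  simp only [LinearEquiv.coe_coe, e, LinearMap.mem_ker.1 hz.2, zero_smul, add_zero,
    LinearMap.smul_apply, LinearMap.id_apply] at h4
  have h5 : c * d = 1 := by
    have : (c * d - 1) • z = 0 := by rw [sub_smul, ← h4]; simp
    exact sub_eq_zero.1 ((smul_eq_zero.1 this).resolve_right hz0)
  obtain ⟨y, hy⟩ := exists_dual_apply_ne hφ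
  have h6 := LinearMap.congr_fun h3 y
  simp [e, h5, hy, hv] at h6

end abstract

variable {ι : Type} [Fintype ι] [DecidableEq ι] {F : Type*} [Field F]

/-- The standard bilinear map to coordinate tensors. -/
def ptB (α β : Type) (F : Type*) [Field F] : (α → F) →ₗ[F] (β → F) →ₗ[F] (α × β → F) :=
  LinearMap.mk₂ F H8.pt (fun _ _ _ => by ext p; simp [H8.pt, add_mul])
    (fun _ _ _ => by ext p; simp [H8.pt, mul_assoc]) (fun _ _ _ => by ext p; simp [H8.pt, mul_add])
    (fun _ _ _ => by ext p; simp [H8.pt]; ring)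

theorem ptB_apply {α β : Type} (u : α → F) (w : β → F) : ptB α β F u w = H8.pt u w := rfl

theorem isTens_ptB (α β : Type) [Fintype α] [Fintype β] : IsTens (ptB α β F) :=
  IsTens.of_equiv ((Pi.basisFun F α).tensorProduct (Pi.basisFun F β)).equivFun fun a b => by
    ext ⟨i, j⟩; simp [ptB_apply, H8.pt, mul_comm]

/-- The tensor structure attached to `(e, P)`. -/
noncomputable def tensOf {n₁ n₂ : ℕ} (e : ι ≃ Fin n₁ × Fin n₂) (P : GL ι F) :
    (Fin n₁ → F) →ₗ[F] (Fin n₂ → F) →ₗ[F] (ι → F) :=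
  (ptB (Fin n₁) (Fin n₂) F).compr₂ (psi e P : (Fin n₁ × Fin n₂ → F) →ₗ[F] (ι → F))

theorem tensOf_apply {n₁ n₂ : ℕ} (e : ι ≃ Fin n₁ × Fin n₂) (P : GL ι F) (u : Fin n₁ → F) (w : Fin n₂ → F) :
    tensOf e P u w = psi e P (H8.pt u w) := rfl

theorem isTens_tensOf {n₁ n₂ : ℕ} (e : ι ≃ Fin n₁ × Fin n₂) (P : GL ι F) : IsTens (tensOf e P) :=
  (isTens_ptB _ _).map _

theorem mem_tensorProductSubgroup_iff' {n₁ n₂ : ℕ} (e : ι ≃ Fin n₁ × Fin n₂) (P g : GL ι F) :
    g ∈ Geo.tensorProductSubgroup n₁ n₂ e P ↔ toLE g ∈ TStab (tensOf e P) := by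
  rw [mem_tensorProductSubgroup_iff, mem_TStab]
  constructor
  · rintro ⟨a, b, h⟩
    refine ⟨toLE a, toLE b, fun u w => ?_⟩
    have := h (H8.pt u w)
    rw [theta_apply, LinearEquiv.symm_apply_eq, H8.kron_mulVec_pt] at this
    exact this
  · rintro ⟨a, b, h⟩
    refine ⟨toLE.symm a, toLE.symm b, fun x => ?_⟩
    have : (theta e P g : (Fin n₁ × Fin n₂ → F) →ₗ[F] (Fin n₁ × Fin n₂ → F)) =
        Matrix.toLin' (((toLE.symm a : GL (Fin n₁) F) : Matrix (Fin n₁) (Fin n₁) F) ⊗ₖ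
          ((toLE.symm b : GL (Fin n₂) F) : Matrix (Fin n₂) (Fin n₂) F)) :=
      (isTens_ptB _ _).ext fun u w => by
        rw [ptB_apply, Matrix.toLin'_apply, H8.kron_mulVec_pt, toLE_symm_mulVec, toLE_symm_mulVec,
          LinearEquiv.coe_coe, theta_apply, LinearEquiv.symm_apply_eq]
        exact h u w
    exact LinearMap.congr_fun this x

theorem form_eq_sum {κ : Type} [Fintype κ] [DecidableEq κ] {P : FP F} (S : PQ P (κ → F)) (x y : κ → F) :
    S.B x y = ∑ a, ∑ b, x a * Geo.gramMatrix S.B a b * P.σ (y b) := by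
  conv_lhs => rw [pi_eq_sum_univ' x, pi_eq_sum_univ' y, S.B_sum_left]
  refine Finset.sum_congr rfl fun a _ => ?_
  rw [S.B_sum_right]
  refine Finset.sum_congr rfl fun b _ => ?_
  simp only [PQ.B_smul_left, PQ.B_smul_right, Geo.gramMatrix]; ring

theorem tensorForm_apply {n₁ n₂ : ℕ} {e : ι ≃ Fin n₁ × Fin n₂} {P : GL ι F} {P₁ P₂ : FP F}
    (S₁ : PQ P₁ (Fin n₁ → F)) (S₂ : PQ P₂ (Fin n₂ → F)) {σ : F → F} (h₁ : ∀ x, P₁.σ x = σ x)
    (h₂ : ∀ x, P₂.σ x = σ x) {f : (ι → F) → (ι → F) → F}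
    (hT : Geo.IsTensorFormStructure σ f S₁.B S₂.B e P) :
    ∃ c : F, c ≠ 0 ∧ ∀ u w u' w', f (tensOf e P u w) (tensOf e P u' w') = c * (S₁.B u u' * S₂.B w w') := by
  obtain ⟨c, hc, h⟩ := hT
  refine ⟨c, hc, fun u w u' w' => ?_⟩
  rw [tensOf_apply, tensOf_apply, psi_apply, psi_apply, h, form_eq_sum S₁, form_eq_sum S₂, Geo.formOfGram]
  congr 1
  rw [Finset.sum_mul_sum, Fintype.sum_prod_type]
  refine Finset.sum_congr rfl fun a _ => Finset.sum_congr rfl fun a' _ => ?_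
  rw [Finset.sum_mul_sum, Fintype.sum_prod_type]
  refine Finset.sum_congr rfl fun b _ => Finset.sum_congr rfl fun b' _ => ?_
  simp only [H8.pt, Matrix.kroneckerMap_apply, ← h₁, map_mul]
  rw [h₁ (w' _), ← h₂]; ring

end Cfsg.Agent.H7
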