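import Cfsg.Agent.H7.U7b
import Cfsg.Agent.H7.UXf
import Cfsg.Agent.H3.S7e
import Cfsg.Agent.H1.KL3
import Cfsg.Agent.H5.DC3

/-! Unitary overgroups of the normaliser of the extraspecial group of order `343`. -/

set_option autoImplicit false
set_option linter.unusedSectionVars false
set_option linter.unusedSimpArgs false

namespace Cfsg.Agent.H7.U7

open Matrix Subgroup Finset Cfsg.Agent.H4 Cfsg.Agent.H4.Mob Cfsg.Agent.H4.MobCard Cfsg.Agent.H5 Cfsg.Agent.Asch H8.L5g H3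
open Cfsg.Agent.H3.S7 hiding Hyp Big
open Cfsg.Agent.H8.L5 (mku mk_one)
open scoped commutatorElement

universe v
variable {F : Type v} [Field F] [StarRing F] [Fintype F] {o : Om7 F} {M : Subgroup (G7 F)}

namespace Hyp
variable (H : Hyp o M)
include H

theorem gam (hB : ¬ Big M) {g : G7 F} (hg : g ∈ Cu o M) (hz : g * S7.z F = S7.z F * g) {x : I}
    (hx : x ≠ 0) : g.val x x * g.val x (-x) = 0 := by
  by_contra h
  rw [← ne_eq, mul_ne_zero_iff] at h
  have L : ∀ {y : I} (hy : y ≠ 0), PSU F ≤ (pb o M hy).range := fun hy =>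
    H.blk hx hg h.2 (by rw [← comm_z.1 hz, neg_neg]; exact h.2) (.inl h.1) hy
  have RF : ∀ {y : I} (hy : y ≠ 0) {d : I → F}, Dg M d → (∀ y', y' ≠ y → y' ≠ -y → d y' = d (-y')) → d y = d (-y) :=
    fun hy _ hd h => by_contra fun h' => hB (H.RF hy (L hy) hd h h')
  have d7 : ∀ {d : I → F}, Dg M d → ∀ y, d y ^ 7 = 1 := fun {d} hd y => by
    have := RF one_ne_zero (H.dshift (H.avg hd y) 1 (-1) one_ne_zero) fun y' a b => by
      simp [add_neg_eq_zero, a, neg_eq_iff_eq_neg, b]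
    simp [show (-1 + -1 : I) ≠ 0 by decide] at this
    rw [pow_succ, this, inv_mul_cancel₀ (hd.ne y)]
  clear hg hz h hx g x
  obtain ⟨c', hc⟩ := L one_ne_zero ⟨mku !![0, 1; -1, 0] !![0, -1; 1, 0] (by simp [one_fin_two]), mem_SU2.2 ⟨uni_of fun i j => by
    change star (!![0, 1; -1, 0] j i) = !![(0 : F), -1; 1, 0] i j
    fin_cases i <;> fin_cases j <;> simp, by simp [mku]⟩, rfl⟩
  obtain ⟨l, hc⟩ := mk_eq_mk.1 hc
  obtain ⟨c, hc⟩ : ∃ c, (rb o M one_ne_zero c).val = !![l, 0; 0, -l] := ⟨⟨_, H.zC⟩ * c', by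
    rw [map_mul, Units.val_mul, show (rb o M one_ne_zero c').val = _ from hc]
    simp [rb_val, S7.z, mo_apply, ne_neg, (ne_neg one_ne_zero).symm, mku]⟩
  obtain ⟨k, k1, k2⟩ := lift (rb o M one_ne_zero) (a := ⟨_, H.aC⟩) (r := 7) (Subtype.ext o.a7)
    (fun n ⟨j, hj⟩ _ hn => by
      have e := mono_blk n.2 (congrArg Subtype.val hn)
      have e2 : Commute (n ^ 2) ⟨_, H.aC⟩ := Subtype.ext (o.comm_a.2 fun i j hij => by
        by_cases b : j = -i
        · rcases e i with ⟨e1, e2⟩ | rfl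
          · rw [b, sq, Subgroup.coe_mul, Units.val_mul, mul_apply, sum_eq_add _ _ (b ▸ hij) (fun l _ hl => by
              rw [(mem_Cu.1 n.2).2 i l hl.1 hl.2, zero_mul]) (by simp) (by simp), e1, mul_comm, e2, add_zero]
          · exact (hij (by simpa using b.symm)).elim
        exact (mem_Cu.1 (n ^ 2).2).2 i j hij.symm b)
      obtain ⟨m, hm⟩ := exists_pow_eq_self_of_coprime (x := n) (n := 2) (Nat.Coprime.coprime_dvd_right
        (orderOf_dvd_of_pow_eq_one hj) (Nat.Coprime.pow_right _ (by norm_num)))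
      exact hm ▸ e2.pow_left m)
    (x := c * ⟨_, H.aC⟩ * c⁻¹) ⟨1, by rw [pow_one, conj_pow, show (⟨_, H.aC⟩ : Cu o M) ^ 7 = 1 from Subtype.ext o.a7]; simp⟩
    (by
      rw [map_mul, map_mul, map_inv, mul_inv_eq_iff_eq_mul.2 (Units.ext ?_)]
      · exact mem_zpowers _
      rw [Units.val_mul, Units.val_mul, hc]
      simp [rb_val, o.a_val, ne_neg, (ne_neg one_ne_zero).symm, mul_comm])
  have k3 : Commute ((k * c).1 * o.a * (k * c).1⁻¹) o.a := by
    simpa [mul_assoc, commute_iff_eq] using congrArg Subtype.val k2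
  have k4 : rb o M one_ne_zero (k * c) = rb o M one_ne_zero c := by rw [map_mul, k1, one_mul]
  rw [← k4] at hc
  generalize k * c = g at *
  have c1 : g.1.val 1 1 = l := congrFun (congrFun hc 0) 0
  have c2 : g.1.val 1 (-1) = 0 := congrFun (congrFun hc 0) 1
  have c3 : g.1.val (-1) 1 = 0 := congrFun (congrFun hc 1) 0
  have c4 : g.1.val (-1) (-1) = -l := congrFun (congrFun hc 1) 1
  have e := mono_blk g.2 k3
  have e1 := mono_ent k3
  have hD : Dg M fun i => (g.1 * o.a * g.1⁻¹).val i i := ⟨_, mul_mem (mul_mem g.2.1 H.a) (inv_mem g.2.1), by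
    ext i j
    by_cases hij : i = j
    · simp [hij]
    · rw [o.comm_a.1 k3 i j hij, diagonal_apply_ne _ hij]⟩
  generalize (g.1 * o.a * g.1⁻¹).val = D at *
  have hA : Dg M o.e := ⟨_, H.a, o.a_val⟩
  have D0 : D 0 0 = o.e 0 := by
    have : g.1.val 0 0 ≠ 0 := fun h => by
      have := congrFun (congrFun g.1.mul_inv 0) 0
      rw [mul_apply, sum_eq_zero fun l _ => by
        by_cases hl : l = 0
        · rw [hl, h, zero_mul]
        · rw [(mem_Cu.1 g.2).2 0 l hl (by simpa), zero_mul]] at this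
      simp at this
    have := e1 0 0
    grind
  have key : ∀ y, y ≠ 0 → (g.1.val y (-y) = 0 ∧ g.1.val (-y) y = 0 ∧ D y y = o.e y ∧ D (-y) (-y) = o.e (-y)) ∨
      (D y y = o.e (-y) ∧ D (-y) (-y) = o.e y) := fun y hy => by
    have e2 := gl_det_ne (rb o M hy g)
    have a1 := e1 y y
    have a2 := e1 y (-y)
    have a3 := e1 (-y) y
    have a4 := e1 (-y) (-y)
    have a5 := (e y).resolve_right hy
    simp [rb_val] at e2
    grind
  have cs : ∀ y : I, y = 0 ∨ y = 1 ∨ y = -1 ∨ y = 2 ∨ y = -2 ∨ y = 3 ∨ y = -3 := by decide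
  have nn : ∀ y : I, y ≠ 0 → o.e y * o.e y ≠ o.e (-y) * o.e (-y) := fun y hy => by
    rw [← o.e_add, ← o.e_add, Ne, o.e_inj]; revert y; decide
  have l0 : l ≠ 0 := by
    rintro rfl
    simpa [rb_val, c1, c2] using gl_det_ne (rb o M one_ne_zero g)
  have a1 : D 1 1 = o.e 1 := by have := e1 1 1; grind
  have a2 : D (-1) (-1) = o.e (-1) := by have := e1 (-1) (-1); grind
  have R1 := fun y hy => RF (y := y) hy (hD.mul (H.dshift hA (-1) 0 (by decide)))
  simp only [neg_mul, one_mul, add_zero, neg_neg] at R1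
  clear e1 e k1 k2 k3 k4 hc L
  rcases key 2 (by decide) with ⟨a3, a4, a5, a6⟩ | ⟨a5, a6⟩ <;> rcases key 3 (by decide) with ⟨b3, b4, b5, b6⟩ | ⟨b5, b6⟩
  · have hd : Dg M fun i => g.1.val i i := ⟨_, g.2.1, by
      ext i j
      by_cases hij : i = j
      · simp [hij]
      rw [diagonal_apply_ne _ hij]
      by_cases b : j = -i
      · rw [b] at hij ⊢
        rcases cs i with rfl | rfl | rfl | rfl | rfl | rfl | rfl
        exacts [(hij rfl).elim, c2, c3, a3, a4, b3, b4]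
      exact (mem_Cu.1 g.2).2 i j (Ne.symm hij) b⟩
    have b1 := d7 hd 1
    have b2 := d7 hd (-1)
    simp only [c1, c4] at b1 b2
    exact H.two (by linear_combination - b1 - b2)
  · refine nn 3 (by decide) ?_
    simpa [b5, b6, eq_comm] using R1 3 (by decide) fun y a b => by
      rcases cs y with rfl | rfl | rfl | rfl | rfl | rfl | rfl <;>
        first | exact (a rfl).elim | exact (b rfl).elim | simp [a1, a2, a5, a6, mul_comm]
  · refine nn 2 (by decide) ?_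
    simpa [a5, a6, eq_comm] using R1 2 (by decide) fun y a b => by
      rcases cs y with rfl | rfl | rfl | rfl | rfl | rfl | rfl <;>
        first | exact (a rfl).elim | exact (b rfl).elim | simp [a1, a2, b5, b6, mul_comm]
  · refine nn 1 (by decide) ?_
    simpa [a1, a2] using RF one_ne_zero (hD.mul hA) fun y a b => by
      rcases cs y with rfl | rfl | rfl | rfl | rfl | rfl | rfl <;>
        first | exact (a rfl).elim | exact (b rfl).elim | simp [a5, a6, b5, b6, mul_comm]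

/-- `u` in the centraliser -/
def uC : Cz M := ⟨_, mem_Cz.2 ⟨H.u, o.zu.symm⟩⟩
/-- `f` in the centraliser -/
def fC : Cz M := ⟨_, mem_Cz.2 ⟨H.f, o.fz⟩⟩
/-- `z` in the centraliser -/
def zZ : Cz M := ⟨_, mem_Cz.2 ⟨H.z, rfl⟩⟩

theorem up : (rp M H.uC).val = diagonal fun i => o.e (4 * ξ i ^ 2) := by
  ext i j; simp [rp_apply, uC, o.u_val, diagonal_apply, ξ_inj, ξ_neg]
theorem u4 : (r4 M H.uC).val = diagonal fun i => o.e (4 * η i ^ 2) := by
  ext i j
  by_cases h : j = 0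
  · simp [r4_apply, uC, o.u_val, diagonal_apply, h, ← η_inj]; rfl
  · simp [r4_apply, uC, o.u_val, diagonal_apply, h, η_inj, η_neg]
theorem zp : rp M H.zZ = 1 := Units.ext (by
  ext i j; simp [rp_apply, zZ, S7.z, mo_apply, one_apply, ξ_inj, ξ_neg, neg_ite])
theorem fp_ne (i j : Fin 3) : (rp M H.fC).val i j ≠ 0 := by
  rw [rp_apply, fC, o.f_apply, o.f_apply, ← mul_sub]
  refine mul_ne_zero (div_ne_zero o.G0 o.h7) (sub_ne_zero.2 (o.e_inj.not.2 ?_))
  clear * -; revert i j; decide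
theorem f4_ne (i j : Fin 4) : (r4 M H.fC).val i j ≠ 0 := by
  rw [r4_apply]
  split_ifs
  · exact o.f_ne _ _
  rw [fC, o.f_apply, o.f_apply, ← mul_add]
  refine mul_ne_zero (div_ne_zero o.G0 o.h7) fun e => H.two ?_
  have := congrArg (· ^ 7) (eq_neg_of_add_eq_zero_left e)
  simp only [neg_pow (o.e _), o.e7] at this
  linear_combination this
theorem ffC : H.fC * H.fC = H.zZ := Subtype.ext o.ff
theorem uC7 : H.uC ^ 7 = 1 := Subtype.ext o.u7
theorem up7 : rp M H.uC ^ 7 = 1 := by rw [← map_pow, uC7, map_one]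
theorem fp2 : rp M H.fC ^ 2 = 1 := by rw [sq, ← map_mul, ffC, zp]
theorem fu3 : (rp M H.fC * rp M H.uC) ^ 3 = 1 := by
  rw [← map_mul, ← map_pow, show (H.fC * H.uC) ^ 3 = 1 from Subtype.ext o.fu3, map_one]

/-- the group of order `168` on the odd functions -/
def S : Subgroup (GL (Fin 3) F) := closure {rp M H.uC, rp M H.fC}

theorem uS : rp M H.uC ∈ H.S := subset_closure (by simp)
theorem fS : rp M H.fC ∈ H.S := subset_closure (by simp)
theorem S_le : H.S ≤ (rp M).range := (closure_le _).2 (by rintro _ (rfl | rfl) <;> exact ⟨_, rfl⟩)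

theorem S_perfect : ⁅H.S, H.S⁆ = H.S := by
  let φ := Abelianization.of (G := H.S)
  have e1 : φ ⟨_, H.uS⟩ ^ 7 = 1 := by rw [← map_pow, show (⟨_, H.uS⟩ : H.S) ^ 7 = 1 from Subtype.ext H.up7, map_one]
  have e2 : φ ⟨_, H.fS⟩ ^ 2 = 1 := by rw [← map_pow, show (⟨_, H.fS⟩ : H.S) ^ 2 = 1 from Subtype.ext H.fp2, map_one]
  have e3 : (φ ⟨_, H.fS⟩ * φ ⟨_, H.uS⟩) ^ 3 = 1 := by
    rw [← map_mul, ← map_pow, show ((⟨_, H.fS⟩ : H.S) * ⟨_, H.uS⟩) ^ 3 = 1 from Subtype.ext H.fu3, map_one]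
  have e4 : φ ⟨_, H.uS⟩ = 1 := by
    have := congrArg (· ^ 2) e3
    simp only [mul_pow, pow_right_comm (φ ⟨_, H.fS⟩) 3, e2, one_pow, one_mul, ← pow_mul (φ ⟨_, H.uS⟩)] at this
    simpa using pow_gcd_eq_one.2 ⟨this, e1⟩
  rw [e4, mul_one, pow_succ, e2, one_mul] at e3
  have key : ∀ x : H.S, φ x = 1 → x.1 ∈ ⁅H.S, H.S⁆ := fun x hx => by
    rw [← map_subtype_commutator]
    exact ⟨x, Abelianization.ker_of H.S ▸ hx, rfl⟩
  refine le_antisymm (commutator_le.2 fun a ha b hb => ?_) ((closure_le _).2 ?_)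
  · exact mul_mem (mul_mem (mul_mem ha hb) (inv_mem ha)) (inv_mem hb)
  · rintro _ (rfl | rfl)
    exacts [key _ e4, key _ e3]

theorem S_full : Full (Geo.matrixSet H.S) := by
  rw [← alg_eq_top_iff, eq_top_iff]
  have m : ∀ c : F, (rp M H.uC).val - c • 1 ∈ alg F H.S := fun c =>
    sub_mem (mem_alg H.uS) (Subalgebra.smul_mem _ (one_mem _) c)
  have h1 : ∀ i : Fin 3, single i i 1 ∈ alg F H.S := fun i => by
    have n : ∀ i j : Fin 3, j ≠ 0 → o.e (4 * ξ i ^ 2) - o.e (4 * ξ (i + j) ^ 2) ≠ 0 := fun i j h =>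
      sub_ne_zero.2 (o.e_inj.not.2 (by clear * - h; revert i j; decide))
    convert Subalgebra.smul_mem _ (mul_mem (m (o.e (4 * ξ (i + 1) ^ 2))) (m (o.e (4 * ξ (i + 2) ^ 2))))
      ((o.e (4 * ξ i ^ 2) - o.e (4 * ξ (i + 1) ^ 2)) * (o.e (4 * ξ i ^ 2) - o.e (4 * ξ (i + 2) ^ 2)))⁻¹
    rw [up, smul_one_eq_diagonal, smul_one_eq_diagonal, diagonal_sub, diagonal_sub, diagonal_mul_diagonal, ← diagonal_smul,
      ← diagonal_single]
    congr 1; ext k
    obtain rfl | rfl | rfl : k = i ∨ k = i + 1 ∨ k = i + 2 := by clear * -; revert i k; decide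
    · simpa using (inv_mul_cancel₀ (mul_ne_zero (n k 1 (by simp)) (n k 2 (by simp)))).symm
    · simp
    · simp
  intro X _
  rw [matrix_eq_sum_single X]
  refine sum_mem fun i _ => sum_mem fun j _ => ?_
  have := mul_mem (mul_mem (h1 i) (mem_alg H.fS)) (h1 j)
  rw [single_mul_mul_single] at this
  simpa [H.fp_ne i j] using Subalgebra.smul_mem _ this (X i j * ((rp M H.fC).val i j)⁻¹)

theorem pr_u : MH.pr (rp M H.uC) ≠ 1 := fun e => by
  obtain ⟨c, e⟩ := MH.pr_eq_one'.1 e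
  have e1 := congrFun (congrFun e 0) 0
  have e2 := congrFun (congrFun e 1) 1
  simp only [up, diagonal_apply_eq, Matrix.smul_apply, one_apply_eq] at e1 e2
  exact absurd (o.e_inj.1 (e1.trans e2.symm)) (by decide)

theorem rp_uni (g : Cz M) : rp M g ∈ UG (Fin 3) F := uni_of fun i j => by
  have e := fun i j => congrFun (congrFun (UG_ct (H.uni g.2.1)) i) j
  rw [← map_inv, rp_apply, rp_apply, star_sub, ← Cz.neg]
  exact congrArg₂ _ (e _ _) (e _ _)

theorem noSL {E : Subfield F} {Q : GL (Fin 3) F} (h : ∀ g : GL (Fin 3) F, g.val.det = 1 → Over E (cj Q⁻¹ g.val) →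
    g ∈ (rp M).range) : False := by
  have := NeZero.mk H.two
  obtain ⟨G, hG⟩ : ∃ G, G = Q.valᴴ * 1 * Q.val := ⟨_, rfl⟩
  have key : ∀ X : GL (Fin 3) F, X.val.det = 1 → Over E X.val → X.valᴴ * G * X.val = G := fun X a b => by
    have e : cj Q⁻¹ (Q * X * Q⁻¹).val = X.val := cj_inv_cj Q X.val
    obtain ⟨t, ht⟩ := h (Q * X * Q⁻¹) (by rw [Units.val_mul, Units.val_mul, det_units_conj, a]) (e ▸ b)
    have := UX.form_cj Q (D := 1) ((congrArg (· * _) (mul_one _)).trans (H.rp_uni t))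
    rwa [ht, e, ← hG] at this
  have e1 := key (mku !![1, 1, 0; 0, 1, 0; 0, 0, 1] !![1, -1, 0; 0, 1, 0; 0, 0, 1] (by simp [one_fin_three]))
    (by simp [mku, det_fin_three]) fun i j => by fin_cases i <;> fin_cases j <;> simp [mku]
  have e2 := key (mku !![1, 0, 1; 0, 1, 0; 0, 0, 1] !![1, 0, -1; 0, 1, 0; 0, 0, 1] (by simp [one_fin_three]))
    (by simp [mku, det_fin_three]) fun i j => by fin_cases i <;> fin_cases j <;> simp [mku]
  have a0 := congrFun (congrFun e1 0) 1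
  have a2 := congrFun (congrFun e1 2) 1
  have a1 := congrFun (congrFun e2 1) 2
  simp [mku, mul_apply, Fin.sum_univ_succ, conjTranspose_apply] at a0 a1 a2
  have := congrArg Matrix.det hG
  rw [det_mul, mul_one, det_conjTranspose] at this
  exact mul_ne_zero (star_ne_zero.2 (GeneralLinearGroup.det_ne_zero Q)) (GeneralLinearGroup.det_ne_zero Q)
    (this.symm.trans (by simp [det_fin_three, a0, a1, a2]))

theorem concl (h3 : ∀ k : Cz M, IsSc (rp M k).val → ∃ c : F, k.1.val = c • 1 ∨ k.1.val = c • (S7.z F).val)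
    {L : Subgroup (GL (Fin 3) F)} (hL : L ≤ (rp M).range) (hp : ⁅L, L⁆ = L) (h : H.S ≤ L) : Nat.card (MH.PQ L) = 168 := by
  have h4 : ∀ (k : Cz M) (c : F), (rp M k).val = c • 1 → (k.1.val = c • 1 ∨ k.1.val = c • (S7.z F).val) ∧ c ^ 7 = 1 :=
    fun k c e => by
    obtain ⟨d, h⟩ := h3 k ⟨c, e⟩
    have e1 := congrFun (congrFun e 0) 0
    have e2 := H.det _ k.2.1
    rw [rp_apply] at e1
    rcases h with h | h <;> simp [h, ξ_neg, S7.z, mo_apply] at e1 <;> simp [h, det_z] at e2 <;> simp [h, ← e1, e2]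
  rcases MH.mainF Cfsg.Agent.MH.main hp (H.S_full.mono (Set.image_mono h)) with ⟨E, Q, -, h1⟩ |
    ⟨E, q, Q, -, hE, h1⟩ | ⟨-, B, -, h2, h1⟩ | h1 | ⟨⟨e⟩⟩ | ⟨h5, ⟨e⟩⟩
  · exact (H.noSL fun g a b => hL ((h1 g).2 ⟨a, b⟩)).elim
  · have := su3_dc H.two (rp M) (z := H.zZ) (Subtype.ext zz) (fun g => Subtype.ext (mem_Cz.1 g.2).2.symm) (fun g hg =>
      (h4 g 1 (by simp [hg])).1.imp (fun e => Subtype.ext (Units.ext (by simpa using e)))
        fun e => Subtype.ext (Units.ext (e.trans (one_smul _ _)))) hE h1 hL (h H.fS) ((sq _).symm.trans H.fp2)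
    exact (z_not (F := F) ⟨1, by rw [← o.ff, show o.f * o.f = 1 from congrArg Subtype.val this]; simp⟩).elim
  · have e := MH.T_inv_of_symm h2 (h1 _ (h H.uS))
    rw [H5.MH.T, H5.MH.T, show (rp M H.uC)⁻¹.val = diagonal fun i => o.e (-(4 * ξ i ^ 2)) from
      Units.inv_eq_of_mul_eq_one_right (by simp [up, o.e_neg, o.e_ne]), up, trace_diagonal, trace_diagonal,
      Fin.sum_univ_three, Fin.sum_univ_three] at e
    change o.ω ^ 3 + o.ω ^ 5 + o.ω ^ 6 = o.ω ^ 4 + o.ω ^ 2 + o.ω ^ 1 at e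
    exact (o.G0 (by rw [o.G_eq]; linear_combination o.phi - e)).elim
  · exact h1
  · have h1 := pow_card_eq_one' (x := (⟨_, MH.mem_bar (h H.uS)⟩ : MH.bar L))
    rw [MH.card_bar, Nat.card_congr e.toEquiv, nat_card_alternatingGroup] at h1
    have u7 : (⟨_, MH.mem_bar (h H.uS)⟩ : MH.bar L) ^ 7 = 1 := Subtype.ext (by simp [← map_pow, H.uC7])
    exact (H.pr_u (by simpa [Nat.factorial] using pow_gcd_eq_one.2 ⟨h1, u7⟩)).elim
  · refine (noA7 h5 (fun g hg => H8.L5.det_comm (hp.ge hg)) (fun g hg ⟨c, e⟩ => ?_) e).elim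
    have e1 := H8.L5.det_comm (hp.ge hg)
    obtain ⟨k, rfl⟩ := hL hg
    have e2 := (h4 k c e).2
    simp [e] at e1
    exact Units.ext (by rw [e, show c = 1 by grind]; simp)

theorem mh (h3 : ∀ k : Cz M, IsSc (rp M k).val → ∃ c : F, k.1.val = c • 1 ∨ k.1.val = c • (S7.z F).val) :
    Nat.card (MH.PQ H.S) = 168 ∧ ∀ g : Cz M, MH.pr (rp M g) ∈ MH.bar H.S := by
  have key := fun L => H.concl h3 (L := L)
  have c := key _ H.S_le H.S_perfect le_rfl
  refine ⟨c, fun g => ?_⟩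
  have c' := key (H.S ⊔ H.S.map (MulAut.conj (rp M g)).toMonoidHom) (sup_le H.S_le (by
    rintro _ ⟨s, hs, rfl⟩
    exact mul_mem (mul_mem ⟨g, rfl⟩ (H.S_le hs)) (inv_mem ⟨g, rfl⟩))) (perf_sup H.S_perfect _) le_sup_left
  obtain ⟨π⟩ := MH.exists_pi8 H.S_perfect c
  refine MH.norm8 H.S_perfect H.S_full π o.h7 ?_
  rintro _ ⟨s, hs, rfl⟩
  rw [eq_of_le_of_card_ge (H := MH.bar H.S) (K := MH.bar _) (map_mono le_sup_left)
    (by rw [MH.card_bar, MH.card_bar, c, c'])]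
  exact ⟨_, mem_sup_right ⟨s, hs, rfl⟩, by simp⟩

theorem isol (hC : Cz M ≤ Geo.subgroupNormalizer o.R) {t : G7 F} (ht : t ∈ Cz M) (h : t * t = 1) :
    t = 1 ∨ t = S7.z F := by
  have key : ∀ t ∈ Cz M, t * t = 1 → ∃ x, Cm (t * o.a * t⁻¹) (S7.b F) (o.e x) ∧ x ^ 2 = 1 ∧ (x = 1 → t = 1) := by
    intro t ht h
    have n := fun r => (mem_normalizer_iff.1 (hC ht) r).1
    have back : ∀ {x y c}, Cm (t * x * t⁻¹) y c → Cm x (t * y * t⁻¹) c := fun {x y c} k => by
      have := k.conj t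
      rwa [show t * (t * x * t⁻¹) * t⁻¹ = (t * t) * x * (t * t)⁻¹ by group, h, one_mul, inv_one, mul_one] at this
    have self : ∀ r ∈ o.R, Cm (t * r * t⁻¹) r 1 := fun r hr => by
      obtain ⟨c, k⟩ := o.cm_R (n r hr) hr
      have e := (back k).uniq k.symm
      have := k.seven
      rwa [show c = 1 by grind] at k
    obtain ⟨d, k⟩ := o.cm_R (n _ o.a_mem) o.b_mem
    obtain ⟨x, rfl⟩ := o.exists_e k.seven
    have e := o.sc_of (y := t * o.a * t⁻¹ * o.a ^ (6 * x.val)) (by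
      simpa using (self _ o.a_mem).mul ((Cm.refl _).pow _)) (by
        convert k.mul (o.ab.pow (6 * x.val))
        rw [← o.e_nat, ← o.e_add, ← o.e_zero, o.e_inj]; simp; linear_combination (-x) * z7)
    have e2 := ((o.ab.conj t).mul ((back k).pow (6 * x.val))).uniq (d := 1) (by rw [Cm, e]; simp)
    rw [o.e_pow, ← o.e_one, ← o.e_add, ← o.e_zero, o.e_inj] at e2
    refine ⟨x, k, by simp at e2; linear_combination x ^ 2 * z7 - e2, ?_⟩
    rintro rfl
    have e3 := o.sc_of (y := t * S7.b F * t⁻¹ * S7.b F ^ 6) (by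
      convert (back k).symm.mul (o.ab.symm.pow 6)
      rw [o.e_one, ← pow_succ', inv_pow, o.w7, inv_one]) (by simpa using (self _ o.b_mem).mul ((Cm.refl _).pow 6))
    exact o.inv_triv h (H.det t ht.1) (cm_of_sc (i7 o.a7 ▸ e)) (cm_of_sc (i7 (b7 (F := F)) ▸ e3))
  obtain ⟨x, k, x2, e⟩ := key t ht h
  obtain rfl | rfl : x = 1 ∨ x = -1 := by clear * - x2; revert x; decide
  · exact .inl (e rfl)
  obtain ⟨y, k', -, e'⟩ := key (t * S7.z F) (mul_mem ht H.zZ.2) (by
    rw [mul_assoc, ← mul_assoc (S7.z F), ← (mem_Cz.1 ht).2, mul_assoc, zz, mul_one, h])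
  refine .inr ((eq_inv_of_mul_eq_one_left (e' (o.e_inj.1 (k'.uniq ?_)))).trans (inv_eq_of_mul_eq_one_left zz))
  convert k.pow 6 using 1
  · rw [conj_pow, i7 o.a7, mul_assoc t, eq_inv_mul_iff_mul_eq.2 ((mul_assoc _ _ _).symm.trans o.za)]; group
  · rw [o.e_pow]; rfl

variable (h1 : Nat.card (MH.PQ H.S) = 168) (h2 : ∀ g : Cz M, MH.pr (rp M g) ∈ MH.bar H.S)
  (h3 : ∀ k : Cz M, IsSc (rp M k).val → ∃ c : F, k.1.val = c • 1 ∨ k.1.val = c • (S7.z F).val)

include h2 h3 in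
theorem Cz_le : Cz M ≤ Geo.subgroupNormalizer o.R := fun g hg => by
  have zN : S7.z F ∈ Geo.subgroupNormalizer o.R := o.ff ▸ mul_mem o.f_nrm o.f_nrm
  have sc : ∀ x ∈ M, ∀ c : F, x.val = c • 1 → x ∈ o.R := fun x hx c e =>
    o.sc_mem e (by simpa [e] using H.det x hx)
  obtain ⟨s, hs, e⟩ := h2 ⟨g, hg⟩
  have : H.S ≤ ((Geo.subgroupNormalizer o.R).comap (Cz M).subtype).map (rp M) :=
    (closure_le _).2 (Set.insert_subset (mem_map_of_mem (x := H.uC) _ o.u_nrm)
      (Set.singleton_subset_iff.2 (mem_map_of_mem (x := H.fC) _ o.f_nrm)))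
  obtain ⟨t, ht, rfl⟩ := this hs
  obtain ⟨k, hk⟩ : ∃ k : Cz M, ⟨g, hg⟩ = k * t := ⟨_, (inv_mul_cancel_right _ _).symm⟩
  rw [hk, map_mul, map_mul, eq_comm, mul_eq_right] at e
  rw [show g = k * t from congrArg Subtype.val hk]
  refine mul_mem ?_ ht
  obtain ⟨c, e | e⟩ := h3 k (MH.pr_eq_one'.1 e)
  · exact le_normalizer (sc _ k.2.1 c e)
  · refine (mul_mem_cancel_right zN).1 (le_normalizer (sc _ (mul_mem k.2.1 H.z) c ?_))
    rw [Units.val_mul, e, smul_mul_assoc, ← Units.val_mul, zz, Units.val_one]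

include h1 h2 h3 in
theorem odd_sc {O : Subgroup (Cz M)} (hO : O.Normal) {n : ℕ} (ho : Odd n) (odd : ∀ x ∈ O, x ^ n = 1) {x : Cz M}
    (hx : x ∈ O) : IsSc x.1.val := by
  have := MH.perfect_bar H.S_perfect
  obtain ⟨e⟩ := MH.iso_PSL2 (G := MH.bar H.S) (by rwa [MH.card_bar])
  have := ProjectiveSpecialLinearGroup.rank_two_simple (F := ZMod 7) (by simp)
  have := e.isSimpleGroup
  let π : Cz M →* MH.bar H.S := (MH.pr.comp (rp M)).codRestrict _ h2
  rcases (hO.map π (by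
    rintro ⟨_, s, hs, rfl⟩
    obtain ⟨t, rfl⟩ := H.S_le hs
    exact ⟨t, rfl⟩)).eq_bot_or_eq_top with k | k
  swap
  · obtain ⟨w, w1, w2⟩ := k.ge (mem_top (π H.fC))
    have e1 : π w ^ 2 = 1 := w2 ▸ Subtype.ext (by
      change MH.pr (rp M H.fC) ^ 2 = 1
      rw [← map_pow, H.fp2, map_one])
    have := pow_gcd_eq_one.2 ⟨(map_pow π w _).symm.trans (by rw [odd w w1, map_one]), e1⟩
    rw [ho.coprime_two_right, pow_one, w2] at this
    obtain ⟨c, e⟩ := MH.pr_eq_one'.1 (congrArg Subtype.val this)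
    exact (H.fp_ne 0 1 (by simp [show (rp M H.fC).val = _ from e])).elim
  obtain ⟨c, k | k⟩ := h3 x (MH.pr_eq_one'.1 (congrArg Subtype.val ((eq_bot_iff_forall _).1 k _ ⟨x, hx, rfl⟩)))
  · exact ⟨c, k⟩
  obtain ⟨n, rfl⟩ := ho
  have := congrArg (·.1.val 1 1) (odd x hx)
  simp only [Subgroup.coe_pow, Units.val_pow_eq_pow_val, k, _root_.smul_pow] at this
  rw [← Units.val_pow_eq_pow_val, pow_succ (S7.z F), pow_mul (S7.z F), sq, zz] at this
  simp [S7.z, mo_apply, show (1 : I) ≠ -1 by decide] at this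

include h1 h2 h3 in
theorem finish : M ≤ Geo.subgroupNormalizer o.R := fun m hm => by
  let z' : M := ⟨_, H.z⟩
  have z2 : z' * z' = 1 := Subtype.ext zz
  obtain ⟨O, hO, ho, h⟩ := ZStar.zstar' z2 (odd_of_isol z2 fun t ht hc => by
    obtain ⟨g, rfl⟩ := isConj_iff.1 ht
    refine Subtype.ext ((H.isol (H.Cz_le h2 h3) (mem_Cz.2 ⟨Subtype.prop _, congrArg Subtype.val hc⟩) (congrArg Subtype.val
      (show g * z' * g⁻¹ * (g * z' * g⁻¹) = 1 by rw [conj_mul, z2]; simp))).resolve_left fun e => z_not (F := F) ⟨1, ?_⟩)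
    rw [show S7.z F = 1 from conj_eq_one_iff.1 e]; simp)
  have h7 : ∀ x : M, x ^ 7 = 1 → x * z' * x = z' → x ∈ O := fun x x7 e => by
    have := pow_mem (h _ _ (isConj_iff.2 ⟨x, rfl⟩) (IsConj.refl z')) 4
    rwa [show x * z' * x⁻¹ * z' = x ^ 2 by
      rw [mul_assoc, ← eq_inv_mul_iff_mul_eq.2 (mul_assoc x z' x ▸ e), mul_assoc, ← mul_assoc z', z2, one_mul, sq], ← pow_mul,
      pow_succ _ 7, x7, one_mul] at this
  have ha := h7 ⟨_, H.a⟩ (Subtype.ext o.a7) (Subtype.ext o.za)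
  have hb := h7 ⟨_, H.b⟩ (Subtype.ext b7) (Subtype.ext zb)
  have key := fun x hx y hy => comm_mod (Z := (Geo.scalars I F).subgroupOf M) ho (fun x hx =>
    mem_center_iff.2 fun y => Subtype.ext (Units.ext (((mem_scalars_iff _).1 hx).comm _).symm)) z2
    (fun x hx => hO.conj_mem x hx _) (fun x hx hc => (mem_scalars_iff _).2 (H.odd_sc h1 h2 h3
      (hO.comap (inclusion (inf_le_left : Cz M ≤ M))) ho (fun x hx => Subtype.ext (congrArg (·.1.1)
        (pow_card_eq_one' (x := (⟨_, hx⟩ : O))))) (x := ⟨x, mem_Cz.2 ⟨x.2, (congrArg Subtype.val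
          (mul_inv_eq_iff_eq_mul.1 hc)).symm⟩⟩) hx)) (o := x) (o' := y) hx hy
  have fin : ∀ x ∈ O, x.1 ∈ o.R := fun x hx => by
    obtain ⟨c, c1, c2⟩ := key x hx _ ha
    obtain ⟨d, d1, d2⟩ := key x hx _ hb
    obtain ⟨c', c1⟩ := (mem_scalars_iff _).1 c1
    obtain ⟨d', d1⟩ := (mem_scalars_iff _).1 d1
    exact o.mem_R (c := c') (d := d') (by simpa [Cm, show c.1.val = _ from c1] using congrArg (·.1.val) c2)
      (by simpa [Cm, show d.1.val = _ from d1] using congrArg (·.1.val) d2) (H.det _ x.2)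
  exact o.nrm (fin _ (hO.conj_mem _ ha ⟨m, hm⟩)) (fin _ (hO.conj_mem _ hb ⟨m, hm⟩))

section
variable (hB : ¬ Big M)
include hB

theorem refl7 (n : ℕ) {c ρ : F} (hd : Dg M fun y => if y = 0 then c * ρ else c) (h : ρ ^ 7 ^ n = 1) : ρ = 1 := by
  induction n generalizing c ρ with
  | zero => simpa using h
  | succ n ih =>
    exact by_contra fun h1 => hB (H.plane hd (ih (c := c ^ 7)
      (by simpa [mul_pow] using hd.pow 7) (by rwa [← pow_mul, ← pow_succ'])) h1)

theorem sev (k : Cz M) (hk : IsSc (rp M k).val) (h7 : ∃ n, k ^ 7 ^ n = 1) : IsSc k.1.val := by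
  obtain ⟨g, -, hg⟩ := lift (MH.pr.comp (rp M)) H.uC7 (fun n h1 ⟨j, h3⟩ h4 => inj H.two (by
      obtain ⟨c, e⟩ := MH.pr_eq_iff.1 (h3.symm.trans (map_zpow (MH.pr (K := F)) (rp M H.uC) j).symm)
      have := congrArg Units.val ((Commute.refl (rp M H.uC)).zpow_left j).eq
      exact Units.ext (by
        simp only [map_mul, Units.val_mul, show (rp M n).val = _ from e, smul_mul_assoc, mul_smul_comm] at this ⊢
        rw [this])) (by
      rw [map_mul, map_mul]
      exact mono7 (by simp) (fun i j e => by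
        have := o.e_inj.1 e
        clear * - this; revert i j; decide) H.u4 (by simpa using h4.map (r4 M))
        (h1.imp fun n h => by rw [← map_pow, h, map_one]))) h7 (by
    rw [show MH.pr.comp (rp M) k = 1 from MH.pr_eq_one'.2 hk]; exact one_mem _)
  obtain ⟨n, h7⟩ := h7
  obtain ⟨μ, hk⟩ := hk
  suffices (g * k * g⁻¹).1.val = μ • 1 from ⟨μ, by simpa [mul_assoc] using congrArg (g.1⁻¹.val * · * g.1.val) this⟩
  replace hk : (rp M (g * k * g⁻¹)).val = μ • 1 := by simp [hk]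
  replace h7 : (g * k * g⁻¹) ^ 7 ^ n = 1 := by rw [conj_pow, h7]; simp
  generalize g * k * g⁻¹ = k at *
  have k2 : k.1 ∈ Cu o M := ⟨k.2.1, mem_centralizer_singleton_iff.2 (congrArg Subtype.val hg)⟩
  have k3 : Commute (k.1 * k.1) o.a := o.comm_a.2 fun i j e => by
    by_cases e' : j = -i
    swap
    · exact (mem_Cu.1 (mul_mem k2 k2)).2 i j (Ne.symm e) e'
    subst e'
    have i0 : i ≠ 0 := by rintro rfl; exact e rfl
    have e1 := congrArg (·.val 0 1) ((rb o M i0).map_mul ⟨_, k2⟩ ⟨_, k2⟩)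
    have e2 := H.gam hB k2 (mem_Cz.1 k.2).2 i0
    have e3 := Cz.neg k i (-i)
    simp [rb_val] at e1 e3
    rw [Units.val_mul, e1, e3]
    linear_combination 2 * e2
  obtain ⟨m, hm⟩ := (show Odd 7 by decide).pow (n := n)
  have k4 := o.comm_a.1 (show Commute k.1 o.a by
    have := k3.pow_left (m + 1)
    rwa [← sq, ← pow_mul, show 2 * (m + 1) = 7 ^ n + 1 by omega, pow_succ, show k.1 ^ 7 ^ n = 1 from congrArg Subtype.val h7,
      one_mul] at this)
  have k5 : ∀ x ≠ 0, k.1.val x x = μ := fun x hx => by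
    have := Cz.diag k (P := fun a b => a - b = μ) (fun i => by simpa [rp_apply] using congrFun (congrFun hk i) i) hx
    rwa [k4 _ _ (ne_neg hx), sub_zero] at this
  have μ0 := MH.ne_zero_of_eq_smul hk
  have k6 : k.1.val = diagonal fun y => if y = 0 then μ * (k.1.val 0 0 / μ) else μ := by
    ext i j
    by_cases e : i = j
    · subst e
      by_cases e : i = 0
      · simp [e]; field_simp
      · simp [e, k5 i e]
    · simp [e, k4 i j e]
  have e := fun x => congrArg (·.1.val x x) h7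
  simp only [Subgroup.coe_pow, Units.val_pow_eq_pow_val] at e
  rw [k6, diagonal_pow] at e
  have e0 := e 0
  have e1 := e 1
  simp [mul_pow] at e0 e1
  rw [k6, H.refl7 hB n ⟨_, k.2.1, k6⟩ (by simpa [e1] using e0)]
  simp [smul_one_eq_diagonal]

theorem ker (k : Cz M) (hk : IsSc (rp M k).val) : ∃ c : F, k.1.val = c • 1 ∨ k.1.val = c • (S7.z F).val := by
  have hn : ∀ t : Cz M, ∀ x ∈ (MH.pr.comp (rp M)).ker.map (r4 M), r4 M t * x * (r4 M t)⁻¹ ∈
      (MH.pr.comp (rp M)).ker.map (r4 M) := fun t x ⟨y, hy, e⟩ =>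
    ⟨t * y * t⁻¹, (MonoidHom.normal_ker _).conj_mem y hy t, by simp [e]⟩
  obtain ⟨c, hc⟩ := kl3 (by simp) H.two o.prim (d := fun i => 4 * η i ^ 2) (by decide) (by decide) H.u4 H.f4_ne (hn _) (hn _)
    (by
      rintro _ ⟨y, hy, rfl⟩ ⟨j, hj⟩
      obtain ⟨a, m, h1, h3⟩ := Nat.exists_eq_pow_mul_and_not_dvd (orderOf_pos y).ne' 7 (by simp)
      obtain ⟨c, e⟩ := H.sev hB (y ^ m) (MH.pr_eq_one'.1 (pow_mem hy m)) ⟨a, by
        rw [← pow_mul, mul_comm, ← h3, pow_orderOf_eq_one]⟩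
      obtain ⟨l, hl⟩ := exists_pow_eq_self_of_coprime (x := r4 M y) (n := m)
        ((((Nat.Prime.coprime_iff_not_dvd (by norm_num)).2 h1).symm.pow_right j).of_dvd_right (orderOf_dvd_of_pow_eq_one hj))
      refine ⟨c ^ l, ?_⟩
      rw [← hl, ← map_pow, Units.val_pow_eq_pow_val, show (r4 M (y ^ m)).val = c • (r4 M 1).val by
        ext i j; simp only [r4_apply, e, Matrix.smul_apply]; split_ifs <;> simp [mul_add]]
      simp [_root_.smul_pow]) (x := r4 M k) ⟨k, MH.pr_eq_one'.2 hk, rfl⟩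
  have k2 : k.1 ∈ Cu o M := ⟨k.2.1, mem_centralizer_singleton_iff.2 (congrArg Subtype.val (inj H.two (g := k * H.uC)
    (k := H.uC * k) (Units.ext (by simpa using hk.comm _)) (Units.ext (by simp [hc]))))⟩
  obtain ⟨μ, hk⟩ := hk
  have e0 : k.1.val 0 0 = c := (congrFun (congrFun hc 0) 0).trans (by simp)
  have e := fun x => Cz.diag k (P := fun a b => a - b = μ ∧ a + b = c) (fun i => ⟨by
    simpa [rp_apply] using congrFun (congrFun hk i) i, 
      (congrFun (congrFun hc i.succ) i.succ).trans (by simp)⟩) (x := x)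
  have z := (mem_Cu.1 k2).2
  have e1 := e 1 one_ne_zero
  have h2 := H.two
  refine ⟨μ, (mul_eq_zero.1 (H.gam hB k2 (mem_Cz.1 k.2).2 one_ne_zero)).symm.imp (fun h => ?_) fun h => ?_⟩
  all_goals
    ext i j
    simp only [Matrix.smul_apply, S7.z, mo_apply, one_apply, Equiv.neg_apply, smul_eq_mul]
    by_cases a : j = i
    · subst a
      by_cases i0 : j = 0
      · simp [i0, e0]; grind
      · have := e j i0
        simp [ne_neg i0]; grind
    by_cases b : j = -i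
    · subst b
      have := e i (by rintro rfl; exact a rfl)
      simp [Ne.symm a]; grind
    simp [z i j a b, Ne.symm a, eq_neg_iff_add_eq_zero, show ¬ i + j = 0 from fun h => b (eq_neg_of_add_eq_zero_right h)]

end

theorem odd : Big M ∨ M ≤ Geo.subgroupNormalizer o.R :=
  or_iff_not_imp_left.2 fun hB => H.finish (H.mh (H.ker hB)).1 (H.mh (H.ker hB)).2 (H.ker hB)

end Hyp

end Cfsg.Agent.H7.U7
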