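import Cfsg.Agent.H8.L5k

/-!
The extraspecial group of order `125` in the unitary group: matrices.
-/

set_option autoImplicit false
set_option linter.unusedSectionVars false
set_option linter.unusedSimpArgs false

namespace Cfsg.Agent.H7.UX

open Matrix Subgroup Cfsg.Agent.H8.L5
open Cfsg.Agent.H8.L5.Om5 (b z b_val z_val zz zb)

/-- a primitive fifth root of unity inverted by the involution -/
structure Om (F : Type*) [Field F] [StarRing F] where
  ω : F
  s : F
  h : ω ^ 4 + ω ^ 3 + ω ^ 2 + ω + 1 = 0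
  hs : 5 * s = -(ω + ω ^ 4 - ω ^ 2 - ω ^ 3)
  h5 : (5 : F) ≠ 0
  st : star ω = ω ^ 4

variable {F : Type*} [Field F] [StarRing F]

/-- the unitary group of the standard form -/
def UG (n : ℕ) (F : Type*) [Field F] [StarRing F] : Subgroup (GL (Fin n) F) where
  carrier := {g | g.valᴴ * g.val = 1}
  mul_mem' {a b} ha hb := by
    change (a * b).valᴴ * (a * b).val = 1
    rw [Units.val_mul, conjTranspose_mul, mul_assoc, ← mul_assoc _ a.val, ha, one_mul, hb]
  one_mem' := by simp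
  inv_mem' {a} ha := by
    have := congrArg ((a⁻¹).valᴴ * · * (a⁻¹).val) ha
    simp only [mul_assoc, Units.mul_inv, mul_one, ← conjTranspose_mul, conjTranspose_one] at this
    exact this.symm

theorem mem_UG {n : ℕ} {g : GL (Fin n) F} : g ∈ UG n F ↔ g.valᴴ * g.val = 1 := Iff.rfl

theorem UG_ct {n : ℕ} {g : GL (Fin n) F} (h : g ∈ UG n F) : g.valᴴ = (g⁻¹).val :=
  (Units.inv_eq_of_mul_eq_one_left h).symm

theorem UG_mul {n : ℕ} {g : GL (Fin n) F} (h : g ∈ UG n F) : g.val * g.valᴴ = 1 := mul_eq_one_comm.1 h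

/-- the monomial element of order four -/
def w (F : Type*) [Field F] : G5 F :=
  mku !![-1, 0, 0, 0, 0; 0, 0, 0, -1, 0; 0, -1, 0, 0, 0; 0, 0, 0, 0, -1; 0, 0, -1, 0, 0]
  !![-1, 0, 0, 0, 0; 0, 0, -1, 0, 0; 0, 0, 0, 0, -1; 0, -1, 0, 0, 0; 0, 0, 0, -1, 0] (by mx5)

theorem w_val : (w F).val = !![-1, 0, 0, 0, 0; 0, 0, 0, -1, 0; 0, -1, 0, 0, 0; 0, 0, 0, 0, -1; 0, 0, -1, 0, 0] := rfl
theorem w_inv : ((w F)⁻¹).val = !![-1, 0, 0, 0, 0; 0, 0, -1, 0, 0; 0, 0, 0, 0, -1; 0, -1, 0, 0, 0; 0, 0, 0, -1, 0] := rfl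
theorem ww : w F * w F = z F := Units.ext (by simp only [Units.val_mul, w_val, z_val]; mx5)
theorem wb : w F * b F = b F ^ 2 * w F := Units.ext (by simp only [Units.val_mul, sq, w_val, b_val]; mx5)
theorem wz : w F * z F = z F * w F := by rw [← ww, mul_assoc]
theorem det_w : (w F).val.det = 1 := by
  rw [w_val]; simp [det_succ_row_zero, Fin.sum_univ_succ, Fin.succAbove]
theorem uni_of {n : ℕ} {g : GL (Fin n) F} (h : ∀ i j, star (g.val j i) = (g⁻¹).val i j) : g ∈ UG n F := by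
  rw [mem_UG, show g.valᴴ = (g⁻¹).val from ext h, Units.inv_mul]
theorem w_uni : w F ∈ UG 5 F := uni_of fun i j => by
  rw [w_val, w_inv]; fin_cases i <;> fin_cases j <;> simp
theorem b_uni : b F ∈ UG 5 F := uni_of fun i j => by
  change star ((b F).val j i) = (b F).inv i j
  rw [b_val, b, mku]; fin_cases i <;> fin_cases j <;> simp
theorem z_uni : z F ∈ UG 5 F := ww (F := F) ▸ mul_mem w_uni w_uni

namespace Om
variable (o : Om F)


theorem w5 : o.ω ^ 5 = 1 := by linear_combination (o.ω - 1) * o.h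
theorem w1 : o.ω ≠ 1 := fun e => o.h5 (by have := o.h; rw [e] at this; linear_combination this)
theorem w0 : o.ω ≠ 0 := fun e => by simpa [e] using o.h
theorem prim : IsPrimitiveRoot o.ω 5 := by
  have := Fact.mk Nat.prime_five
  exact orderOf_eq_prime o.w5 o.w1 ▸ IsPrimitiveRoot.orderOf _
theorem wne {k l : ℕ} (h : k % 5 ≠ l % 5) : o.ω ^ k ≠ o.ω ^ l := fun e => h (o.prim.pow_inj
  (Nat.mod_lt _ (by norm_num)) (Nat.mod_lt _ (by norm_num)) (by rwa [← pow_eq_pow_mod _ o.w5, ← pow_eq_pow_mod _ o.w5]))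
theorem s2 : 5 * o.s ^ 2 = 1 := mul_left_cancel₀ o.h5 (by have := o.h; have := o.hs; grind)
theorem s0 : o.s ≠ 0 := fun e => by simpa [e] using o.s2

/-- the diagonal generator -/
def a : G5 F := mku (diagonal fun i => o.ω ^ i.val) (diagonal fun i => o.ω ^ (4 * i.val)) (by
  rw [diagonal_mul_diagonal, ← diagonal_one]
  congr 1; ext i
  rw [← pow_add, show i.val + 4 * i.val = 5 * i.val by ring, pow_mul, o.w5, one_pow])

/-- the quadratic diagonal element -/
def u : G5 F := mku (diagonal ![1, o.ω, o.ω ^ 4, o.ω ^ 4, o.ω]) (diagonal ![1, o.ω ^ 4, o.ω, o.ω, o.ω ^ 4]) (by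
  have := o.w5; mx5)

/-- the Fourier matrix -/
def Φ : M5 F := !![1, 1, 1, 1, 1; 1, o.ω, o.ω ^ 2, o.ω ^ 3, o.ω ^ 4; 1, o.ω ^ 2, o.ω ^ 4, o.ω, o.ω ^ 3;
  1, o.ω ^ 3, o.ω, o.ω ^ 4, o.ω ^ 2; 1, o.ω ^ 4, o.ω ^ 3, o.ω ^ 2, o.ω]

theorem a_val : o.a.val = diagonal fun i => o.ω ^ i.val := rfl
theorem u_val : o.u.val = diagonal ![1, o.ω, o.ω ^ 4, o.ω ^ 4, o.ω] := rfl
theorem ΦΦ : o.Φ * o.Φ = (5 : F) • (z F).val := by
  have := o.h
  rw [z_val, Φ]; mx5

/-- the normalised Fourier matrix -/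
def f : G5 F := mku (o.s • o.Φ) (o.s • o.Φ * (z F).val) (by
  rw [← mul_assoc, smul_mul_smul_comm, ΦΦ, smul_smul, show o.s * o.s * 5 = 1 by linear_combination o.s2, one_smul]
  exact (z F).val_inv)

theorem f_val : o.f.val = o.s • o.Φ := rfl
theorem ff : o.f * o.f = z F := Units.ext (by
  rw [Units.val_mul, f_val, smul_mul_smul_comm, ΦΦ, smul_smul, show o.s * o.s * 5 = 1 by linear_combination o.s2,
    one_smul])

theorem fb : o.f * b F = o.a * o.f := Units.ext (by
  have := o.w5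
  rw [Units.val_mul, Units.val_mul, f_val, smul_mul_assoc, mul_smul_comm, Φ, a_val, b_val]
  congr 1; mx5)
theorem fa : b F * (o.f * o.a) = o.f := Units.ext (by
  have := o.w5
  rw [Units.val_mul, Units.val_mul, f_val, smul_mul_assoc, mul_smul_comm, Φ, a_val, b_val]
  congr 1; mx5)
theorem ab : Cm o.a (b F) o.ω := by
  have := o.w5
  rw [Cm, a_val, b_val]; mx5
theorem ba : Cm (b F) o.a (o.ω ^ 4) := by
  rw [Cm, o.ab, smul_smul, ← pow_succ, o.w5, one_smul]
theorem ua : o.u * o.a = o.a * o.u := Units.ext (commute_diagonal _ _)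
theorem ub : (o.u * b F).val = o.ω • (b F * o.a ^ 2 * o.u).val := by
  have := o.w5
  simp only [Units.val_mul, sq, a_val, b_val, u_val]; mx5
theorem zu : z F * o.u = o.u * z F := Units.ext (by simp only [Units.val_mul, z_val, u_val]; mx5)
theorem za : o.a * z F * o.a = z F := Units.ext (by
  have := o.w5
  simp only [Units.val_mul, z_val, a_val]; mx5)
theorem a5 : o.a ^ 5 = 1 := Units.ext (by
  rw [Units.val_pow_eq_pow_val, a_val, diagonal_pow, Units.val_one, ← diagonal_one]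
  congr 1; ext i
  rw [Pi.pow_apply, ← pow_mul, mul_comm, pow_mul, o.w5, one_pow])
theorem faf : o.f * o.a * o.f⁻¹ = (b F)⁻¹ := by rw [eq_inv_iff_mul_eq_one, mul_eq_one_comm, ← mul_assoc, fa, mul_inv_cancel]
include o in
theorem b5 : b F ^ 5 = 1 := by rw [← inv_eq_one, ← inv_pow, ← o.faf, conj_pow, a5]; simp

theorem det_a : o.a.val.det = 1 := by
  have := o.w5
  simp [a_val, Fin.prod_univ_succ]; grind
theorem det_u : o.u.val.det = 1 := by
  have := o.w5
  simp [u_val, Fin.prod_univ_succ]; grind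
theorem det_f : o.f.val.det = 1 := by
  have e : o.Φ = vandermonde fun i : Fin 5 => o.ω ^ i.val := by
    have := o.w5
    rw [Φ]; mx5
  have e2 : o.Φ.det = (5 * o.s) ^ 5 := by
    have := o.h
    have e3 : ∀ g : Fin 5 → Fin 5 → F, ∏ i, ∏ j ∈ Finset.Ioi i, g i j = g 0 1 * g 0 2 * g 0 3 * g 0 4 * (g 1 2 * g 1 3 *
        g 1 4) * (g 2 3 * g 2 4) * g 3 4 := fun g => by
      rw [Fin.prod_univ_five, show Finset.Ioi (0 : Fin 5) = {1, 2, 3, 4} by decide, show Finset.Ioi (1 : Fin 5) = {2, 3, 4}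
        by decide, show Finset.Ioi (2 : Fin 5) = {3, 4} by decide, show Finset.Ioi (3 : Fin 5) = {4} by decide,
        show Finset.Ioi (4 : Fin 5) = ∅ by decide]
      simp [mul_assoc]
    rw [e, det_vandermonde, e3, o.hs]
    simp
    grind
  rw [f_val, det_smul, e2, Fintype.card_fin]
  have := o.s2
  grind
include o in
theorem det_b : (b F).val.det = 1 := by
  have := congrArg (·.val.det) o.fb
  simpa [det_f, det_a] using this

/-- the extraspecial group -/
def R : Subgroup (G5 F) := closure {o.a, b F}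

theorem a_mem : o.a ∈ o.R := subset_closure (by simp)
theorem b_mem : b F ∈ o.R := subset_closure (by simp)

theorem sc_mem {x : G5 F} {c : F} (h : x.val = c • 1) (hc : c ^ 5 = 1) : x ∈ o.R := by
  obtain ⟨k, -, rfl⟩ := o.prim.eq_pow_of_pow_eq_one hc
  have e : (o.a * b F * o.a⁻¹ * (b F)⁻¹).val = o.ω • 1 := by
    rw [mul_assoc, ← _root_.mul_inv_rev, Units.val_mul, Units.val_mul, o.ab, smul_mul_assoc, ← Units.val_mul, ← Units.val_mul,
      mul_inv_cancel, Units.val_one]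
  rw [show x = (o.a * b F * o.a⁻¹ * (b F)⁻¹) ^ k from Units.ext (by rw [h, Units.val_pow_eq_pow_val, e]; simp [smul_pow])]
  exact pow_mem (mul_mem (mul_mem (mul_mem o.a_mem o.b_mem) (inv_mem o.a_mem)) (inv_mem o.b_mem)) k

theorem sc_of {y : G5 F} (h1 : Cm y o.a 1) (h2 : Cm y (b F) 1) : y.val = y.val 0 0 • 1 := by
  have e1 : ∀ i j, i ≠ j → y.val i j = 0 := fun i j hij => by
    have := congrFun (congrFun h1 i) j
    rw [one_smul, a_val, mul_diagonal, diagonal_mul, mul_comm] at this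
    by_contra hn
    exact hij (Fin.ext (o.prim.pow_inj i.2 j.2 (mul_right_cancel₀ hn this).symm))
  have e2 := fun i j => congrFun (congrFun h2 i) j
  have a1 := e2 1 0
  have a2 := e2 2 1
  have a3 := e2 3 2
  have a4 := e2 4 3
  simp [b_val, mul_apply, Fin.sum_univ_succ, vecMul, dotProduct] at a1 a2 a3 a4
  ext i j
  by_cases hij : i = j
  · subst hij; fin_cases i <;> simp [*]
  · simp [e1 i j hij, hij]

theorem exists_nf {x : G5 F} {c d : F} (h1 : Cm x o.a c) (h2 : Cm x (b F) d) :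
    ∃ (m n : ℕ) (e : F), (x * o.a ^ m * b F ^ n).val = e • 1 := by
  obtain ⟨i, -, rfl⟩ := o.prim.eq_pow_of_pow_eq_one h1.five
  obtain ⟨j, -, rfl⟩ := o.prim.eq_pow_of_pow_eq_one h2.five
  have e : ∀ k, o.ω ^ k * (o.ω ^ 4) ^ k = 1 := fun k => by rw [← mul_pow, ← pow_succ', o.w5, one_pow]
  refine ⟨4 * j, i, _, o.sc_of ?_ ?_⟩
  · simpa [e] using (h1.mul ((Cm.refl _).pow (4 * j))).mul (o.ba.pow i)
  · simpa [e, pow_mul] using (h2.mul (o.ab.pow (4 * j))).mul ((Cm.refl _).pow i)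

theorem mem_R {x : G5 F} {c d : F} (h1 : Cm x o.a c) (h2 : Cm x (b F) d) (hd : x.val.det = 1) : x ∈ o.R := by
  obtain ⟨m, n, e, he⟩ := o.exists_nf h1 h2
  have := o.sc_mem he (by simpa [hd, o.det_a, o.det_b] using (congrArg det he).symm)
  rwa [mul_mem_cancel_right (pow_mem o.b_mem _), mul_mem_cancel_right (pow_mem o.a_mem _)] at this

theorem nrm [Finite F] {g : G5 F} (h1 : g * o.a * g⁻¹ ∈ o.R) (h2 : g * b F * g⁻¹ ∈ o.R) :
    g ∈ Geo.subgroupNormalizer o.R := mem_normalizer_fintype fun r hr =>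
  (closure_le (o.R.comap (MulAut.conj g).toMonoidHom)).2 (by rintro _ (rfl | rfl) <;> assumption) hr

theorem f_nrm [Finite F] : o.f ∈ Geo.subgroupNormalizer o.R :=
  o.nrm (o.faf ▸ inv_mem o.b_mem) (by rw [fb, mul_inv_cancel_right]; exact o.a_mem)

theorem u_nrm [Finite F] : o.u ∈ Geo.subgroupNormalizer o.R := by
  refine o.nrm (by rw [ua, mul_inv_cancel_right]; exact o.a_mem) ?_
  have := o.sc_mem (x := o.u * b F * (b F * o.a ^ 2 * o.u)⁻¹) (c := o.ω) (by
    rw [Units.val_mul, ub, smul_mul_assoc, ← Units.val_mul, mul_inv_cancel, Units.val_one]) o.w5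
  simpa [mul_assoc] using mul_mem this (mul_mem o.b_mem (pow_mem o.a_mem 2))


theorem st_s : star o.s = o.s := by
  have := congrArg star o.hs
  have := o.hs
  have := o.h5
  have := o.w5
  simp [o.st] at *
  grind

include o in
theorem st_ne : ∃ x : F, starRingEnd F x ≠ x := ⟨o.ω, by
  rw [starRingEnd_apply, o.st]; simpa using o.wne (k := 4) (l := 1) (by norm_num)⟩

include o in
theorem exists_norm [Finite F] {c : F} (hc : star c = c) : ∃ x, x * star x = c :=
  H6.SU.exists_norm o.st_ne (fun a => star_star a) hc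

theorem a_uni : o.a ∈ UG 5 F := by
  have := o.w5
  rw [mem_UG, a_val]; ext i j; fin_cases i <;> fin_cases j <;> simp [mul_apply, diagonal_apply, o.st] <;> grind
theorem u_uni : o.u ∈ UG 5 F := by
  have := o.w5
  rw [mem_UG, u_val]; ext i j; fin_cases i <;> fin_cases j <;> simp [mul_apply, diagonal_apply, o.st] <;> grind
theorem f_uni : o.f ∈ UG 5 F := by
  have := o.w5
  have e : o.f.valᴴ = o.f.val * (z F).val := by
    rw [f_val, conjTranspose_smul, st_s, smul_mul_assoc, Φ, z_val]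
    congr 1
    ext i j; fin_cases i <;> fin_cases j <;> simp [mul_apply, Fin.sum_univ_succ, o.st] <;> grind
  rw [mem_UG, e, ← Units.val_mul, ← Units.val_mul, ← o.ff, mul_assoc, mul_assoc, o.ff, ← mul_assoc, o.ff, zz, Units.val_one]

theorem wa : w F * o.a = o.a ^ 3 * w F := Units.ext (by
  have := o.w5
  simp only [Units.val_mul, pow_three, w_val, a_val]; mx5)
theorem wu : o.u * w F * o.u = w F := Units.ext (by
  have := o.w5
  simp only [Units.val_mul, w_val, u_val]; mx5)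
theorem wf : o.f * w F = w F * z F * o.f := Units.ext (by
  simp only [Units.val_mul, w_val, z_val, f_val, smul_mul_assoc, mul_smul_comm, Φ]; congr 1; mx5)

theorem w_nrm [Finite F] : w F ∈ Geo.subgroupNormalizer o.R :=
  o.nrm (by rw [wa, mul_inv_cancel_right]; exact pow_mem o.a_mem 3) (by rw [wb, mul_inv_cancel_right]; exact pow_mem o.b_mem 2)

end Om

section res
variable {n k : ℕ} {P : Matrix (Fin n) (Fin k) F} {Q : Matrix (Fin k) (Fin n) F}

/-- restriction to an invariant subspace -/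
def res (h : Q * P = 1) (H : Subgroup (GL (Fin n) F)) (hH : ∀ g ∈ H, P * (Q * g.val * P) = g.val * P) :
    H →* GL (Fin k) F :=
  MonoidHom.toHomUnits
    { toFun g := Q * g.1.val * P
      map_one' := by simp [h]
      map_mul' x y := by
        rw [coe_mul, Units.val_mul, Matrix.mul_assoc (Q * x.1.val), hH y y.2]
        simp only [Matrix.mul_assoc] }

theorem res_val (h : Q * P = 1) (H : Subgroup (GL (Fin n) F)) (hH) (g : H) : (res h H hH g).val = Q * g.1.val * P := rfl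

theorem res_form (h : Q * P = 1) (H : Subgroup (GL (Fin n) F)) (hH) (g : H) (hg : g.1 ∈ UG n F) :
    (res h H hH g).valᴴ * (Pᴴ * P) * (res h H hH g).val = Pᴴ * P := by
  rw [← Matrix.mul_assoc, ← conjTranspose_mul, Matrix.mul_assoc, res_val, hH g g.2, conjTranspose_mul, Matrix.mul_assoc,
    ← Matrix.mul_assoc _ g.1.val, hg, Matrix.one_mul]

end res

section tv
variable {n : ℕ}

/-- a unitary transvection -/
def tv (d : Fin n → F) (c : F) : Matrix (Fin n) (Fin n) F := 1 + c • vecMulVec d (star d)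

theorem tv_mulVec (d x : Fin n → F) (c : F) : tv d c *ᵥ x = x + (c * (star d ⬝ᵥ x)) • d := by
  rw [tv, add_mulVec, one_mulVec, smul_mulVec, vecMulVec_mulVec]
  ext i; simp; ring

theorem tv_mul {d : Fin n → F} (hd : star d ⬝ᵥ d = 0) (c c' : F) : tv d c * tv d c' = tv d (c + c') := by
  simp only [tv, mul_add, add_mul, one_mul, mul_one, smul_mul_smul_comm, vecMulVec_mul_vecMulVec, hd, add_smul]
  simp [add_assoc, add_comm]

theorem tv_zero (d : Fin n → F) : tv d 0 = 1 := by simp [tv]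

theorem tv_smul (d : Fin n → F) (μ c : F) : tv (μ • d) c = tv d (μ * star μ * c) := by
  ext i j; simp [tv, vecMulVec_apply]; ring

theorem tv_ct (d : Fin n → F) (c : F) : (tv d c)ᴴ = tv d (star c) := by
  ext i j; simp [tv, vecMulVec_apply, one_apply, eq_comm, mul_comm, apply_ite star]

theorem tv_conj {g : GL (Fin n) F} (hg : g ∈ UG n F) (d : Fin n → F) (c : F) :
    g.val * tv d c * (g⁻¹).val = tv (g.val *ᵥ d) c := by
  rw [← UG_ct hg, tv, tv, mul_add, add_mul, mul_one, UG_mul hg, mul_smul_comm, smul_mul_assoc, mul_vecMulVec,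
    vecMulVec_mul, star_mulVec]

theorem tv_det {d : Fin n → F} (hd : star d ⬝ᵥ d = 0) (c : F) : (tv d c).det = 1 := by
  rw [tv, ← smul_vecMulVec, vecMulVec_eq (Fin 1), det_one_add_replicateCol_mul_replicateRow, dotProduct_smul, hd]
  simp

theorem tv_pow {d : Fin n → F} (hd : star d ⬝ᵥ d = 0) (c : F) (m : ℕ) : tv d c ^ m = tv d (m * c) := by
  induction m with
  | zero => simp [tv_zero]
  | succ m ih => rw [pow_succ, ih, tv_mul hd]; simp [add_mul]

/-- a unitary transvection as a unit -/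
def tu (d : Fin n → F) (hd : star d ⬝ᵥ d = 0) (c : F) : GL (Fin n) F :=
  mku (tv d c) (tv d (-c)) (by rw [tv_mul hd, add_neg_cancel, tv_zero])

theorem tu_val (d : Fin n → F) (hd : star d ⬝ᵥ d = 0) (c : F) : (tu d hd c).val = tv d c := rfl

theorem tu_uni {d : Fin n → F} (hd : star d ⬝ᵥ d = 0) {c : F} (hc : c + star c = 0) : tu d hd c ∈ UG n F := by
  rw [mem_UG, tu_val, tv_ct, tv_mul hd, add_comm, hc, tv_zero]

theorem UG_dot {g : GL (Fin n) F} (hg : g ∈ UG n F) (x y : Fin n → F) :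
    star (g.val *ᵥ x) ⬝ᵥ g.val *ᵥ y = star x ⬝ᵥ y := by
  rw [star_mulVec, dotProduct_mulVec, vecMul_vecMul, hg, vecMul_one]

end tv

open scoped commutatorElement in
theorem exists_NF [Fintype F] (hst : ∀ x : F, x ^ 5 = 1 → star x = x ^ 4) (h5 : (5 : F) ≠ 0) {R : Subgroup (G5 F)}
    (hR : Geo.IsSymplecticTypeGroup 5 R) (hirr : Geo.ActsAbsolutelyIrreducibly (Geo.matrixSet R))
    (hZ : Nat.card (center R) = 5) : ∃ (o : Om F) (Q : G5 F), R.comap (MulAut.conj Q).toMonoidHom = o.R := by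
  have := Fact.mk Nat.prime_five
  have h5R : ∀ x : R, x ^ 5 = 1 := fun x => by simpa [hR.exponent_eq] using Monoid.pow_exponent_eq_one x
  have h5' : ∀ x ∈ R, x ^ 5 = 1 := fun x hx => congrArg Subtype.val (h5R ⟨x, hx⟩)
  have sc : ∀ z ∈ R, (∀ g ∈ R, z * g = g * z) → ∃ c : F, z.val = c • 1 := fun z hz e =>
    hirr.2 z.val (by rintro _ ⟨g, hg, rfl⟩; exact congrArg Units.val (e g hg))
  have cm : ∀ x ∈ R, ∀ y ∈ R, ∃ c, Cm x y c ∧ (x * y * x⁻¹ * y⁻¹).val = c • 1 := fun x hx y hy => by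
    have := class_two hR.pGroup hR.cyclic_of_characteristic h5R hZ
      (commutator_mem_commutator (mem_top (⟨x, hx⟩ : R)) (mem_top (⟨y, hy⟩ : R)))
    obtain ⟨c, e⟩ := sc _ (⁅(⟨x, hx⟩ : R), (⟨y, hy⟩ : R)⁆).2 fun g hg =>
      (congrArg Subtype.val (mem_center_iff.1 this ⟨g, hg⟩)).symm
    exact ⟨c, by rw [Cm, ← smul_one_mul, ← e]; simp [commutatorElement_def, mul_assoc], e⟩
  obtain ⟨x, hx, y, hy, hne⟩ : ∃ x ∈ R, ∃ y ∈ R, x * y ≠ y * x := by
    by_contra! hc
    have := (Asch.full_iff_absIrr.2 hirr).comm (Z := single 0 1 1) (by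
      rintro _ ⟨g, hg, rfl⟩
      obtain ⟨c, e⟩ := sc g hg (hc g hg)
      simp [e]) (single 1 0 1)
    simpa using congrFun (congrFun this 0) 0
  obtain ⟨ω, c1, c2⟩ := cm x hx y hy
  have ω1 : ω - 1 ≠ 0 := fun e => hne (Units.ext (by simpa [Cm, sub_eq_zero.1 e] using c1))
  let o : Om F := ⟨ω, -(ω + ω ^ 4 - ω ^ 2 - ω ^ 3) / 5, mul_left_cancel₀ ω1 (by linear_combination c1.five),
    mul_div_cancel₀ _ h5, h5, hst _ c1.five⟩
  obtain ⟨k, v, v0, hv⟩ : ∃ (k : ℕ) (v : Fin 5 → F), v ≠ 0 ∧ x.val *ᵥ v = ω ^ k • v := by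
    have e : (x.val - ω ^ 0 • 1) * ((x.val - ω ^ 1 • 1) * ((x.val - ω ^ 2 • 1) * ((x.val - ω ^ 3 • 1) *
        (x.val - ω ^ 4 • 1)))) = 0 := by
      have e1 : x.val * (x.val * (x.val * (x.val * x.val))) = 1 := by
        simpa [pow_succ, mul_assoc] using congrArg Units.val (h5' x hx)
      have e2 : ω ^ 4 + ω ^ 3 + ω ^ 2 + ω + 1 = 0 := o.h
      simp only [mul_sub, sub_mul, smul_mul_assoc, mul_smul_comm, mul_one, one_mul, e1]
      match_scalars <;> grind
    have := congrArg det e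
    simp only [det_mul, det_zero, mul_eq_zero, ← exists_mulVec_eq_zero_iff, sub_mulVec, smul_mulVec, one_mulVec,
      sub_eq_zero] at this
    rcases this with h | h | h | h | h <;> exact ⟨_, h⟩
  have e1 : ∀ j : ℕ, x.val *ᵥ (y ^ j).val *ᵥ v = (ω ^ k * ω ^ j) • (y ^ j).val *ᵥ v := fun j => by
    induction j with
    | zero => simpa using hv
    | succ j ih =>
      rw [pow_succ' y, Units.val_mul, ← mulVec_mulVec, mulVec_mulVec _ x.val, c1, smul_mulVec, ← mulVec_mulVec, ih,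
        mulVec_smul, smul_smul]
      congr 1; ring
  let P : M5 F := of fun i j => ((y ^ j.val).val *ᵥ v) i
  obtain ⟨Q, hQ⟩ : IsUnit P := linearIndependent_cols_iff_isUnit.1 (Module.End.eigenvectors_linearIndependent'
    (toLin' x.val) (fun j : Fin 5 => ω ^ k * ω ^ j.val) (fun i j e => Fin.ext (o.prim.pow_inj i.2 j.2
      (mul_left_cancel₀ (pow_ne_zero k o.w0) e))) _ fun j => ⟨Module.End.mem_eigenspace_iff.2 (e1 j), fun e => v0 (by
        simpa using congrArg (((y ^ j.val)⁻¹).val *ᵥ ·) (show (y ^ j.val).val *ᵥ v = 0 from e))⟩)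
  have f1 : x.val * P = ω ^ k • (P * o.a.val) := by
    ext i j
    rw [Om.a_val, Matrix.smul_apply, mul_diagonal]
    exact (congrFun (e1 j) i).trans (by simp [P, o]; ring)
  have f2 : y.val * P = P * (b F).val := by
    have e : ∀ j : ℕ, ∀ i, (y.val *ᵥ (y ^ j).val *ᵥ v) i = ((y ^ (j + 1)).val *ᵥ v) i := fun j i => by
      rw [mulVec_mulVec, pow_succ' y, Units.val_mul]
    ext i j
    refine (e j i).trans ?_
    fin_cases j <;> simp [P, b_val, mul_apply, Fin.sum_univ_succ, -Units.val_pow_eq_pow_val, h5' y hy]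
  rw [← hQ] at f1 f2
  have g1 : x.val = ω ^ k • (Q * o.a * Q⁻¹).val := by
    rw [Units.val_mul, Units.val_mul, ← smul_mul_assoc, ← f1, Units.mul_inv_cancel_right]
  have g2 : Q * b F * Q⁻¹ = y := Units.ext (by rw [Units.val_mul, Units.val_mul, ← f2, Units.mul_inv_cancel_right])
  have m1 : Q * o.a * Q⁻¹ ∈ R := by
    rw [show Q * o.a * Q⁻¹ = ((x * y * x⁻¹ * y⁻¹) ^ k)⁻¹ * x from eq_inv_mul_iff_mul_eq.2 (Units.ext (by
      rw [Units.val_mul, Units.val_pow_eq_pow_val, c2, g1]; simp [_root_.smul_pow]))]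
    exact mul_mem (inv_mem (pow_mem (mul_mem (mul_mem (mul_mem hx hy) (inv_mem hx)) (inv_mem hy)) k)) hx
  have m2 : o.R ≤ R.comap (MulAut.conj Q).toMonoidHom := (closure_le _).2 (by
    rintro _ (rfl | rfl)
    exacts [m1, show Q * b F * Q⁻¹ ∈ R from g2 ▸ hy])
  refine ⟨o, Q, le_antisymm (fun g hg => ?_) m2⟩
  have key : ∀ w ∈ o.R, ∃ c, Cm g w c := fun w hw => (cm _ hg _ (m2 hw)).imp fun c e => by
    simpa [Cm, mul_assoc] using congrArg ((Q⁻¹).val * · * Q.val) e.1
  obtain ⟨c, hc⟩ := key _ o.a_mem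
  obtain ⟨d, hd⟩ := key _ o.b_mem
  obtain ⟨m, n, e, he⟩ := o.exists_nf hc hd
  have := h5' _ (mem_comap.1 (mul_mem (mul_mem hg (pow_mem (m2 o.a_mem) m)) (pow_mem (m2 o.b_mem) n)))
  rw [← map_pow, map_eq_one_iff (MulAut.conj Q).toMonoidHom (MulAut.conj Q).injective] at this
  have := o.sc_mem he (by simpa [he, _root_.smul_pow, -Units.val_mul] using congrArg (·.val 0 0) this)
  rwa [mul_mem_cancel_right (pow_mem o.b_mem _), mul_mem_cancel_right (pow_mem o.a_mem _)] at this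

theorem Om.gram (o : Om F) {Q : G5 F} (h : ∀ g ∈ o.R, ∃ c : F, (Q * g * Q⁻¹).valᴴ * (Q * g * Q⁻¹).val = c • 1) :
    ∃ κ : F, κ ≠ 0 ∧ Q.valᴴ * Q.val = κ • 1 := by
  let G : G5 F := mku (Q.valᴴ * Q.val) ((Q⁻¹).val * (Q⁻¹).valᴴ) (by
    rw [mul_assoc, ← mul_assoc Q.val, Units.mul_inv, one_mul, ← conjTranspose_mul, Units.inv_mul, conjTranspose_one])
  have key : ∀ g ∈ o.R, g ∈ UG 5 F → Cm G g 1 := fun g hg hu => by
    obtain ⟨c, hc⟩ := h g hg
    have e1 : g.valᴴ * G.val * g.val = c • G.val := by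
      have := congrArg (Q.valᴴ * · * Q.val) hc
      simp only [Units.val_mul, conjTranspose_mul, mul_assoc, Units.inv_mul, mul_one, mul_smul_comm, smul_mul_assoc,
        one_mul] at this
      rw [← mul_assoc Q.valᴴ, ← conjTranspose_mul, Units.inv_mul, conjTranspose_one, one_mul] at this
      simpa [G, mku, mul_assoc] using this
    have e2 : Cm G g c := by
      rw [Cm, ← mul_smul_comm, ← e1, ← mul_assoc, ← mul_assoc, UG_mul hu, one_mul]
    have e3 : star c • G.val = c • G.val := by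
      rw [← e1]
      have := congrArg conjTranspose e1
      simpa [G, mku, mul_assoc] using this.symm
    have e4 : star c = c := smul_left_injective F G.ne_zero e3
    obtain ⟨k, hk, rfl⟩ := o.prim.eq_pow_of_pow_eq_one e2.five
    rw [star_pow, o.st, ← pow_mul] at e4
    obtain rfl : k = 0 := by
      by_contra h0
      exact o.wne (by omega) e4
    simpa using e2
  refine ⟨_, fun e => G.ne_zero ?_, o.sc_of (key _ o.a_mem o.a_uni) (key _ o.b_mem b_uni)⟩
  rw [o.sc_of (key _ o.a_mem o.a_uni) (key _ o.b_mem b_uni), e, zero_smul]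

end Cfsg.Agent.H7.UX
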